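import Cfsg.Prelude.Def_Spor_Conway
import Cfsg.Agent.HN.WMask
import Cfsg.Agent.HN.AutHS
import Cfsg.Agent.HN.AutBound
import Cfsg.Agent.HN.DoubleCover

set_option autoImplicit false

/-!
# Facts on the Higman–Sims group: the model

`H0 = 2.HS.2`, `K ≤ H0` the even part `2.HS`, `τ` the central involution. For every group `L` isomorphic to `HS`:
a surjection `π : K →* L` with kernel `{1, τ}` and a surjection `au : H0 →* MulAut L` with kernel `{1, τ}`,
`au h (π k) = π (h k h⁻¹)`.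
-/

namespace Cfsg.Agent.KFacts.HS

open Cfsg.Agent.HN Cfsg.Agent.HN.Pres Cfsg.Agent.HN.HS100 Cfsg.Agent.HN.H0Basic Cfsg.Agent.HN.SrgHS
open Cfsg.Agent.HN.DoubleCover Equiv

instance : K.Normal := by
  unfold K
  infer_instance

theorem conj_mem (h : H0) (k : K) : h * k * h⁻¹ ∈ K := Subgroup.Normal.conj_mem inferInstance _ k.2 h

/-- the model of a group isomorphic to `HS` -/
structure Mod (L : Type*) [Group L] where
  π : K →* L
  surj : Function.Surjective π
  ker : ∀ k : K, π k = 1 ↔ (k : H0) = 1 ∨ (k : H0) = τ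
  au : H0 →* MulAut L
  au_π : ∀ (h : H0) (k : K), au h (π k) = π ⟨h * k * h⁻¹, conj_mem h k⟩
  au_surj : Function.Surjective au
  au_ker : ∀ h, au h = 1 ↔ h = 1 ∨ h = τ

theorem conj_mem_Q (h : H0) {q : Perm (Fin 100)} (hq : q ∈ Q) : φ h * q * (φ h)⁻¹ ∈ Q := by
  obtain ⟨k, hk, rfl⟩ := hq
  exact ⟨h * k * h⁻¹, conj_mem h ⟨k, hk⟩, by rw [map_mul, map_mul, map_inv]⟩

/-- the action of `H0` on `Q` -/
def auQ : H0 →* MulAut Q where
  toFun h :=
    { toFun := fun q => ⟨φ h * q * (φ h)⁻¹, conj_mem_Q h q.2⟩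
      invFun := fun q => ⟨φ h⁻¹ * q * (φ h⁻¹)⁻¹, conj_mem_Q h⁻¹ q.2⟩
      left_inv := fun q => Subtype.ext (by
        change φ h⁻¹ * (φ h * q * (φ h)⁻¹) * (φ h⁻¹)⁻¹ = q
        rw [map_inv]; group)
      right_inv := fun q => Subtype.ext (by
        change φ h * (φ h⁻¹ * q * (φ h⁻¹)⁻¹) * (φ h)⁻¹ = q
        rw [map_inv]; group)
      map_mul' := fun q r => Subtype.ext (by
        change φ h * (q * r) * (φ h)⁻¹ = φ h * q * (φ h)⁻¹ * (φ h * r * (φ h)⁻¹)
        group) }
  map_one' := by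
    ext q : 2
    change φ 1 * q * (φ 1)⁻¹ = q
    rw [map_one, one_mul, inv_one, mul_one]
  map_mul' h k := by
    ext q : 2
    change φ (h * k) * q * (φ (h * k))⁻¹ = φ h * (φ k * q * (φ k)⁻¹) * (φ h)⁻¹
    rw [map_mul, mul_inv_rev]
    group

theorem auQ_apply (h : H0) (q : Q) : ((auQ h q : Q) : Perm (Fin 100)) = φ h * q * (φ h)⁻¹ := rfl

/-- the model of `Q` -/
noncomputable def modQ : Mod Q where
  π := φK
  surj := φK_surj
  ker k := by
    rw [← φ_eq_one_iff, ← φK_coe, OneMemClass.coe_eq_one]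
  au := auQ
  au_π h k := Subtype.ext (by
    rw [auQ_apply, φK_coe, φK_coe, map_mul, map_mul, map_inv])
  au_surj σ := by
    obtain ⟨p, hp, h⟩ := AutHS.exists_perm σ
    rw [← AutBound.range_eq] at hp
    obtain ⟨x, rfl⟩ := hp
    refine ⟨x, ?_⟩
    ext q : 2
    rw [auQ_apply, h]
  au_ker h := by
    rw [← φ_eq_one_iff]
    constructor
    · intro h1
      apply AutHS.eq_one_of_comm
      intro q hq
      have h2 := congrArg (fun f : MulAut Q => ((f ⟨q, hq⟩ : Q) : Perm (Fin 100))) h1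
      have h3 : φ h * q * (φ h)⁻¹ = q := h2
      exact mul_inv_eq_iff_eq_mul.1 h3
    · intro h1
      ext q : 2
      rw [auQ_apply, h1, one_mul, inv_one, mul_one]
      rfl

/-- transport of a model -/
def Mod.map {L M : Type*} [Group L] [Group M] (D : Mod L) (e : L ≃* M) : Mod M where
  π := e.toMonoidHom.comp D.π
  surj := e.surjective.comp D.surj
  ker k := by
    change e (D.π k) = 1 ↔ _
    rw [map_eq_one_iff e e.injective, D.ker]
  au := (MulAut.congr e).toMonoidHom.comp D.au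
  au_π h k := by
    change e (D.au h (e.symm (e (D.π k)))) = e (D.π _)
    rw [MulEquiv.symm_apply_apply, D.au_π]
  au_surj := (MulAut.congr e).surjective.comp D.au_surj
  au_ker h := by
    change MulAut.congr e (D.au h) = 1 ↔ _
    rw [map_eq_one_iff _ (MulAut.congr e).injective, D.au_ker]

/-- **every group isomorphic to `HS` has a model** -/
theorem exists_mod {L : Type*} [Group L] (h : Cfsg.Spor.IsoHS L) : Nonempty (Mod L) := by
  obtain ⟨e⟩ := h
  obtain ⟨⟨f⟩, -⟩ := AutHS.nonempty_Q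
  exact ⟨modQ.map (f.trans e.symm)⟩

namespace Mod

variable {L : Type*} [Group L] (D : Mod L)

/-- `π` as a function of an element of `H0` in `K` -/
theorem eq_iff (k l : K) : D.π k = D.π l ↔ (k : H0) = l ∨ (k : H0) = l * τ := by
  have h1 : D.π k = D.π l ↔ D.π (l⁻¹ * k) = 1 := by
    rw [map_mul, map_inv, inv_mul_eq_one, eq_comm]
  rw [h1, D.ker]
  change (l : H0)⁻¹ * (k : H0) = 1 ∨ (l : H0)⁻¹ * (k : H0) = τ ↔ _
  rw [inv_mul_eq_one, inv_mul_eq_iff_eq_mul, @eq_comm _ (l : H0) (k : H0)]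

theorem au_eq_iff (g h : H0) : D.au g = D.au h ↔ g = h ∨ g = h * τ := by
  have h1 : D.au g = D.au h ↔ D.au (h⁻¹ * g) = 1 := by
    rw [map_mul, map_inv, inv_mul_eq_one, eq_comm]
  rw [h1, D.au_ker, inv_mul_eq_one, inv_mul_eq_iff_eq_mul, @eq_comm _ h g]

/-- `K` induces the inner automorphisms -/
theorem au_K (k : K) : D.au k = MulAut.conj (D.π k) := by
  ext l
  obtain ⟨j, rfl⟩ := D.surj l
  rw [D.au_π, MulAut.conj_apply, ← map_inv, ← map_mul, ← map_mul]
  rfl

/-- the elements outside `K` induce outer automorphisms -/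
theorem mem_K_of_inner {h : H0} (hh : D.au h ∈ (MulAut.conj : L →* MulAut L).range) : h ∈ K := by
  obtain ⟨l, hl⟩ := hh
  obtain ⟨k, rfl⟩ := D.surj l
  rw [← D.au_K, D.au_eq_iff] at hl
  rcases hl with hl | hl
  · rw [← hl]; exact k.2
  · have h1 : h = k * τ := by rw [hl, mul_assoc, τ_mul_τ, mul_one]
    rw [h1]
    exact K.mul_mem k.2 τ_mem_K

theorem au_mem_inner {h : H0} : D.au h ∈ (MulAut.conj : L →* MulAut L).range ↔ h ∈ K :=
  ⟨D.mem_K_of_inner, fun hk => ⟨D.π ⟨h, hk⟩, (D.au_K ⟨h, hk⟩).symm⟩⟩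

/-- the sign of an automorphism -/
theorem exists_sign : ∃ s : MulAut L →* ℤˣ, ∀ h, s (D.au h) = sgn h := by
  have hk : D.au.ker ≤ sgn.ker := by
    intro h hh
    rw [MonoidHom.mem_ker, D.au_ker] at hh
    rcases hh with rfl | rfl
    · exact Subgroup.one_mem _
    · exact sgn_τ
  refine ⟨D.au.liftOfSurjective D.au_surj ⟨sgn, hk⟩, fun h => ?_⟩
  exact MonoidHom.liftOfRightInverse_comp_apply _ _ _ _ h

include D in
/-- `|Aut(HS) : Inn(HS)| = 2` -/
theorem index_inn : (MulAut.conj : L →* MulAut L).range.index = 2 := by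
  have h1 : ((MulAut.conj : L →* MulAut L).range.comap D.au).index = 2 := by
    have h2 : (MulAut.conj : L →* MulAut L).range.comap D.au = K := by
      ext h
      exact D.au_mem_inner
    rw [h2, K_index]
  rwa [Subgroup.index_comap_of_surjective _ D.au_surj] at h1

include D in
theorem card : Nat.card L = 44352000 := by
  have := H0Basic.finite_H0
  have h1 := D.π.ker.card_mul_index
  rw [Subgroup.index_ker, MonoidHom.range_eq_top.2 D.surj, Subgroup.card_top] at h1
  have h2 : Nat.card D.π.ker = 2 := by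
    have h3 : (D.π.ker : Set K) = {1, ⟨τ, τ_mem_K⟩} := by
      ext k
      change D.π k = 1 ↔ k = 1 ∨ k = ⟨τ, τ_mem_K⟩
      rw [D.ker, Subtype.ext_iff, Subtype.ext_iff]
      rfl
    rw [← SetLike.coe_sort_coe, h3, Nat.card_coe_set_eq, Set.ncard_pair]
    exact fun h => τ_ne_one (congrArg Subtype.val h).symm
  have h3 : Nat.card K = 88704000 := DoubleCover.card_K card_H0
  rw [h2, h3] at h1
  omega

end Mod

/-! ### Statements for the user -/

universe u

/-- `|Aut(HS) : Inn(HS)| = 2` -/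
theorem index_inn {L : Type u} [Group L] (h : Cfsg.Spor.IsoHS L) :
    (MulAut.conj : L →* MulAut L).range.index = 2 :=
  (exists_mod h).elim fun D => D.index_inn

/-- **(OS) for `HS`** -/
theorem os {L : Type u} [Group L] (h : Cfsg.Spor.IsoHS L) (α : MulAut L)
    (hα : α ∉ (MulAut.conj : L →* MulAut L).range) :
    ∃ s : MulAut L →* ℤˣ, (∀ l : L, s (MulAut.conj l) = 1) ∧ s α = -1 := by
  obtain ⟨D⟩ := exists_mod h
  obtain ⟨s, hs⟩ := D.exists_sign
  refine ⟨s, fun l => ?_, ?_⟩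
  · obtain ⟨k, rfl⟩ := D.surj l
    rw [← D.au_K, hs]
    exact k.2
  · obtain ⟨a, rfl⟩ := D.au_surj α
    rw [hs]
    rw [D.au_mem_inner, mem_K_iff] at hα
    exact (Int.units_eq_one_or _).resolve_left hα

theorem card {L : Type u} [Group L] (h : Cfsg.Spor.IsoHS L) : Nat.card L = 44352000 :=
  (exists_mod h).elim fun D => D.card

end Cfsg.Agent.KFacts.HS
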