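import Cfsg.Agent.KFacts.HS.Base
import Cfsg.Agent.HN.Classes

set_option autoImplicit false

/-!
# Facts on `HS`: the centraliser of the central involution, in `H0 = 2.HS.2`

`b = a τ`, `U = R 28` (`U² = b`), `Pt = C(b) ∩ K`, `P0t = C(U) ∩ K`, `Rt = W ∩ K`, `W = O₂(C(b))`.
-/

namespace Cfsg.Agent.KFacts.HS.Cent

open Cfsg.Agent.HN Cfsg.Agent.HN.Pres Cfsg.Agent.HN.HS100 Cfsg.Agent.HN.P1408 Cfsg.Agent.HN.H0Basic
open Cfsg.Agent.HN.XMat Cfsg.Agent.HN.WMask
open Cfsg.Agent.SporadicA.PermTab (band band_eq_true allB allB_iff)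

/-! ### actions on masks -/

/-- `g ∈ C(b)` acts on the masks by `f` -/
structure Act (g : H0) (f : ℕ → ℕ) : Prop where
  cb : b * g = g * b
  lt : ∀ m < 128, f m < 128
  eq : ∀ m < 128, ∃ e, R m * g = g * (R (f m) * sg e)

theorem xor_lt {m m' : ℕ} (hm : m < 128) (hm' : m' < 128) : m ^^^ m' < 128 :=
  Nat.xor_lt_two_pow (n := 7) hm hm'

theorem two_pow_lt {i : ℕ} (hi : i < 7) : 2 ^ i < 128 := by
  calc 2 ^ i < 2 ^ 7 := Nat.pow_lt_pow_right (by norm_num) hi
    _ = 128 := by norm_num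

/-- induction on masks -/
theorem mask_ind {p : ℕ → Prop} (h0 : p 0) (hb : ∀ i < 7, p (2 ^ i))
    (hx : ∀ m < 128, ∀ m' < 128, p m → p m' → p (m ^^^ m')) : ∀ m < 128, p m := by
  have key : ∀ n ≤ 7, ∀ m < 2 ^ n, p m := by
    intro n
    induction n with
    | zero =>
      intro _ m hm
      have : m = 0 := by simpa using hm
      rw [this]; exact h0
    | succ n ih =>
      intro hn m hm
      have h7 : 2 ^ n < 128 := two_pow_lt (by omega)
      by_cases h : m < 2 ^ n
      · exact ih (by omega) m h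
      · have h1 : m ^^^ 2 ^ n < 2 ^ n := by
          have h2 : m.testBit n = true := by
            rw [Nat.testBit_eq_decide_div_mod_eq]
            have h3 : m / 2 ^ n = 1 := by
              rw [pow_succ] at hm
              exact Nat.div_eq_of_lt_le (by omega) (by omega)
            rw [h3]; rfl
          apply Nat.lt_pow_two_of_testBit
          intro i hi
          rw [Nat.testBit_xor, Nat.testBit_two_pow]
          rcases Nat.lt_or_ge n i with h3 | h3
          · have h4 : m.testBit i = false := Nat.testBit_lt_two_pow (lt_of_lt_of_le hm (Nat.pow_le_pow_right (by norm_num) h3))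
            rw [h4, decide_eq_false (by omega)]; rfl
          · have h4 : i = n := by omega
            rw [h4, h2, decide_eq_true rfl]; rfl
        have h2 := hx _ (lt_trans h1 h7) _ h7 (ih (by omega) _ h1) (hb n (by omega))
        rwa [Nat.xor_assoc, Nat.xor_self, Nat.xor_zero] at h2
  exact fun m hm => key 7 le_rfl m hm

namespace Act

variable {g h : H0} {f f' : ℕ → ℕ}

theorem one : Act 1 (fun m => m) :=
  ⟨by rw [mul_one, one_mul], fun _ h => h, fun m _ => ⟨false, by rw [mul_one, one_mul]; exact (mul_one _).symm⟩⟩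

theorem mul (hg : Act g f) (hh : Act h f') : Act (g * h) (fun m => f' (f m)) := by
  refine ⟨by rw [← mul_assoc, hg.cb, mul_assoc, hh.cb, mul_assoc], fun m hm => hh.lt _ (hg.lt m hm),
    fun m hm => ?_⟩
  obtain ⟨e, he⟩ := hg.eq m hm
  obtain ⟨e', he'⟩ := hh.eq (f m) (hg.lt m hm)
  refine ⟨e' ^^ e, ?_⟩
  calc R m * (g * h) = (R m * g) * h := by rw [mul_assoc]
    _ = g * (R (f m) * (sg e * h)) := by rw [he]; group
    _ = g * ((R (f m) * h) * sg e) := by rw [sg_comm hh.cb]; group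
    _ = g * h * (R (f' (f m)) * (sg e' * sg e)) := by rw [he']; group
    _ = _ := by rw [sg_mul]

theorem pow (hg : Act g f) (n : ℕ) : Act (g ^ n) (f^[n]) := by
  induction n with
  | zero => rw [pow_zero]; exact one
  | succ n ih =>
    rw [pow_succ, Function.iterate_succ']
    exact ih.mul hg

theorem uniq (hg : Act g f) (hg' : Act g f') {m : ℕ} (hm : m < 128) : f m = f' m := by
  obtain ⟨e, he⟩ := hg.eq m hm
  obtain ⟨e', he'⟩ := hg'.eq m hm
  rw [he] at he'
  exact (R_inj (hg.lt m hm) (hg'.lt m hm) (mul_left_cancel he')).1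

/-- the action is linear -/
theorem xor (hg : Act g f) {m m' : ℕ} (hm : m < 128) (hm' : m' < 128) : f (m ^^^ m') = f m ^^^ f m' := by
  obtain ⟨e1, h1⟩ := hg.eq m hm
  obtain ⟨e2, h2⟩ := hg.eq m' hm'
  obtain ⟨e3, h3⟩ := hg.eq _ (xor_lt hm hm')
  obtain ⟨e4, h4⟩ := R_mul m m'
  obtain ⟨e5, h5⟩ := R_mul (f m) (f m')
  have k1 : R m * R m' * g = g * (R (f m ^^^ f m') * sg (e5 ^^ (e1 ^^ e2))) := by
    calc R m * R m' * g = R m * (R m' * g) := by rw [mul_assoc]
      _ = (R m * g) * (R (f m') * sg e2) := by rw [h2]; group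
      _ = g * (R (f m) * (sg e1 * R (f m')) * sg e2) := by rw [h1]; group
      _ = g * ((R (f m) * R (f m')) * (sg e1 * sg e2)) := by rw [R_sg]; group
      _ = g * (R (f m ^^^ f m') * (sg e5 * (sg e1 * sg e2))) := by rw [h5]; group
      _ = _ := by rw [sg_mul, sg_mul]
  have k2 : R m * R m' * g = g * (R (f (m ^^^ m')) * sg (e3 ^^ e4)) := by
    calc R m * R m' * g = R (m ^^^ m') * (sg e4 * g) := by rw [h4, mul_assoc]
      _ = (R (m ^^^ m') * g) * sg e4 := by rw [sg_comm hg.cb]; group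
      _ = g * (R (f (m ^^^ m')) * (sg e3 * sg e4)) := by rw [h3]; group
      _ = _ := by rw [sg_mul]
  rw [k2] at k1
  exact (R_inj (hg.lt _ (xor_lt hm hm')) (xor_lt (hg.lt m hm) (hg.lt m' hm')) (mul_left_cancel k1)).1

theorem zero (hg : Act g f) : f 0 = 0 := by
  have := hg.xor (m := 0) (m' := 0) (by norm_num) (by norm_num)
  rwa [Nat.xor_self, Nat.xor_self] at this

theorem ext (hg : Act g f) (hh : Act h f') (H : ∀ i < 7, f (2 ^ i) = f' (2 ^ i)) : ∀ m < 128, f m = f' m := by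
  apply mask_ind
  · rw [hg.zero, hh.zero]
  · exact H
  · intro m hm m' hm' h1 h2
    rw [hg.xor hm hm', hh.xor hm hm', h1, h2]

theorem el (m : ℕ) {w : List ℕ} (hw1 : w ∈ S5W) (e : Bool) : Act (el m w e) (fw w) :=
  ⟨el_b m hw1 e, fun _ hm => fw_lt (S5_lt hw1) hm, fun _ hm => act_el (S5_lt hw1) hm⟩

theorem E {w : List ℕ} (hw1 : ∀ g ∈ w, g < 2) : Act (E w) (fw w) :=
  ⟨E_b hw1, fun _ hm => fw_lt hw1 hm, fun _ hm => act_E hw1 hm⟩

/-- every element of `C(b)` acts as a word of `S5W` -/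
theorem exists_of_comm (hb : b * g = g * b) : ∃ w ∈ S5W, Act g (fw w) := by
  obtain ⟨m, -, w, hw1, e, rfl⟩ := cent_b hb
  exact ⟨w, hw1, el m hw1 e⟩

/-- the kernel of the action is `W` -/
theorem mem_W (hg : Act g f) (H : ∀ i < 7, f (2 ^ i) = 2 ^ i) : ∃ m < 128, ∃ e, g = R m * sg e := by
  obtain ⟨m, hm, w, hw1, e, rfl⟩ := cent_b hg.cb
  have h1 : w = [] := by
    apply key_inj hw1 (by decide +kernel)
    apply key_congr
    intro i hi
    rw [(el m hw1 e).uniq hg (two_pow_lt hi), H i hi]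
    rfl
  subst h1
  exact ⟨m, hm, e, by rw [WMask.el, E_nil, mul_one]⟩

/-- an action of 2-power order and of odd order is trivial -/
theorem trivial_of (hg : Act g f) {k n : ℕ} (hk : g ^ 2 ^ k = 1) (hn : Odd n)
    (H : ∀ i < 7, f^[n] (2 ^ i) = 2 ^ i) : ∀ i < 7, f (2 ^ i) = 2 ^ i := by
  intro i hi
  have h1 : Function.IsPeriodicPt f (2 ^ k) (2 ^ i) := by
    have h2 := hg.pow (2 ^ k)
    rw [hk] at h2
    exact (h2.uniq one (two_pow_lt hi))
  have h3 : Function.IsPeriodicPt f n (2 ^ i) := H i hi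
  have h4 := h1.gcd h3
  have h5 : Nat.gcd (2 ^ k) n = 1 := Nat.Coprime.pow_left k (Nat.coprime_two_left.2 hn)
  rw [h5] at h4
  exact h4

end Act

end Cfsg.Agent.KFacts.HS.Cent
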