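import Cfsg.Agent.KFacts.HS.Cent

set_option autoImplicit false

/-!
# Facts on `HS`: the centraliser of the central involution, in `H0 = 2.HS.2`: subgroups

`U = R 28` (`U² = b`), `Pt = C(b) ∩ K`, `P0t = C(U) ∩ K`, `Rt = W ∩ K`, `W = O₂(C(b))`.
-/

namespace Cfsg.Agent.KFacts.HS.Cent

open Cfsg.Agent.HN Cfsg.Agent.HN.Pres Cfsg.Agent.HN.HS100 Cfsg.Agent.HN.P1408 Cfsg.Agent.HN.H0Basic
open Cfsg.Agent.HN.XMat Cfsg.Agent.HN.WMask
open Cfsg.Agent.SporadicA.PermTab (band band_eq_true allB allB_iff)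

/-! ### the elements -/

/-- the element of order 4 with square `b` -/
def U : H0 := R 28

theorem U_sq : U * U = b := by
  rw [U, R, b, ← hw_append]
  exact hw_eq (by decide +kernel)

theorem R_mem_K_iff {m : ℕ} (hm : m < 128) : R m ∈ K ↔ par (rmw m) = false := by
  constructor
  · intro h
    cases h1 : par (rmw m)
    · rfl
    · exact absurd h (not_mem_K_of_par (okw_rmw hm) h1)
  · exact mem_K_of_par (okw_rmw hm)

theorem b_mem_K : b ∈ K := mem_K_of_par (by decide) (by decide)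

theorem sg_mem_K (e : Bool) : sg e ∈ K := by
  cases e
  · exact K.one_mem
  · exact b_mem_K

theorem gw_mem_K {g : ℕ} (hg : g < 2) : hw (gw g) ∈ K := by
  interval_cases g
  · exact mem_K_of_par (by decide) (by decide)
  · exact mem_K_of_par (by decide) (by decide)

theorem E_mem_K {w : List ℕ} (h : ∀ g ∈ w, g < 2) : E w ∈ K := by
  induction w with
  | nil => exact K.one_mem
  | cons g w ih =>
    rw [E_cons]
    exact K.mul_mem (gw_mem_K (h g (by simp))) (ih fun g' hg' => h g' (by simp [hg']))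

theorem U_mem_K : U ∈ K := (R_mem_K_iff (by norm_num)).2 (by decide +kernel)

/-- parity of a word in the generators -/
def evw (w : List ℕ) : Bool := List.rec true (fun g _ ih => bif Nat.beq g 1 then !ih else ih) w

theorem U_gw0 : U * hw (gw 0) = hw (gw 0) * U := by
  rw [U, R, ← hw_append, ← hw_append]
  exact hw_eq (by decide +kernel)

/-- `a = b τ` -/
def sa (e : Bool) : H0 := bif e then b * τ else 1

theorem sa_comm {g : H0} (h : b * g = g * b) (e : Bool) : sa e * g = g * sa e := by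
  cases e
  · exact (one_mul _).trans (mul_one _).symm
  · change b * τ * g = g * (b * τ)
    rw [mul_assoc, ← τ_comm, ← mul_assoc, h, mul_assoc]

theorem sa_sq : b * τ * (b * τ) = 1 := by
  calc b * τ * (b * τ) = b * (τ * b) * τ := by group
    _ = (b * b) * (τ * τ) := by rw [← τ_comm]; group
    _ = 1 := by rw [b_sq, τ_mul_τ, one_mul]

theorem U_gw1 : U * hw (gw 1) = hw (gw 1) * (U * (b * τ)) := by
  rw [U, R, b, ← hw_τ, ← hw_append, ← hw_append, ← hw_append, ← hw_append]
  exact hw_eq (by decide +kernel)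

theorem U_b : b * U = U * b := by rw [← U_sq, mul_assoc]

theorem bτ_ne : b * τ ≠ 1 := by
  rw [b_eq, mul_assoc, τ_mul_τ, mul_one]
  exact Classes.a_ne_one

theorem U_E {w : List ℕ} (h : ∀ g ∈ w, g < 2) : U * E w = E w * (U * sa (!evw w)) := by
  induction w with
  | nil =>
    rw [E_nil]
    change U * 1 = 1 * (U * 1)
    group
  | cons g w ih =>
    have h3 : ∀ g ∈ w, g < 2 := fun g' hg' => h g' (by simp [hg'])
    have ih' := ih h3
    rw [E_cons]
    have hg : g < 2 := h g (by simp)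
    interval_cases g
    · calc U * (hw (gw 0) * E w) = (U * hw (gw 0)) * E w := by rw [mul_assoc]
        _ = hw (gw 0) * (U * E w) := by rw [U_gw0, mul_assoc]
        _ = _ := by rw [ih']; change _ = hw (gw 0) * E w * (U * sa (!evw w)); group
    · calc U * (hw (gw 1) * E w) = (U * hw (gw 1)) * E w := by rw [mul_assoc]
        _ = hw (gw 1) * (U * ((b * τ) * E w)) := by rw [U_gw1]; group
        _ = hw (gw 1) * ((U * E w) * (b * τ)) := by
            have := sa_comm (E_b h3) true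
            change b * τ * E w = E w * (b * τ) at this
            rw [this]; group
        _ = hw (gw 1) * E w * (U * (sa (!evw w) * (b * τ))) := by rw [ih']; group
        _ = _ := by
            change _ = hw (gw 1) * E w * (U * sa (!(!evw w)))
            cases evw w
            · change _ * (U * (b * τ * (b * τ))) = _ * (U * 1)
              rw [sa_sq]
            · change _ * (U * (1 * (b * τ))) = _ * (U * (b * τ))
              rw [one_mul]

theorem chk_UR : allB (fun m => eqw (rmw 28 ++ rmw m) (rmw m ++ (rmw 28 ++ (bif par (rmw m) then bw else [])))) 128 = true := by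
  decide +kernel

theorem U_R {m : ℕ} (hm : m < 128) : U * R m = R m * (U * sg (par (rmw m))) := by
  have h := hw_eq ((allB_iff _ _).1 chk_UR m hm)
  rw [hw_append, hw_append, hw_append] at h
  cases h1 : par (rmw m)
  · rw [h1] at h; exact h
  · rw [h1] at h; exact h

theorem U_el {m : ℕ} (hm : m < 128) {w : List ℕ} (hw1 : w ∈ S5W) (e : Bool) :
    U * el m w e = el m w e * (U * (sa (!evw w) * sg (par (rmw m)))) := by
  have h2 : ∀ e, sg e * U = U * sg e := sg_comm U_b
  have h3 : ∀ e, sg e * E w = E w * sg e := sg_comm (E_b (S5_lt hw1))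
  have hsb : ∀ e, b * sg e = sg e * b := by
    intro e
    cases e
    · exact (mul_one _).trans (one_mul _).symm
    · rfl
  have h4 : ∀ e e', sa e * sg e' = sg e' * sa e := fun e e' => sa_comm (hsb e') e
  have h5 : ∀ e e', sg e * sg e' = sg e' * sg e := by
    intro e e'; rw [sg_mul, sg_mul, Bool.xor_comm]
  unfold el
  calc U * (R m * E w * sg e) = (U * R m) * E w * sg e := by group
    _ = R m * (U * (sg (par (rmw m)) * E w)) * sg e := by rw [U_R hm]; group
    _ = R m * ((U * E w) * sg (par (rmw m))) * sg e := by rw [h3]; group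
    _ = R m * E w * (U * (sa (!evw w) * (sg (par (rmw m)) * sg e))) := by rw [U_E (S5_lt hw1)]; group
    _ = R m * E w * (U * (sa (!evw w) * sg e * sg (par (rmw m)))) := by rw [h5, mul_assoc (sa _)]
    _ = R m * E w * ((U * sg e) * (sa (!evw w) * sg (par (rmw m)))) := by rw [h4]; group
    _ = R m * E w * sg e * (U * (sa (!evw w) * sg (par (rmw m)))) := by rw [← h2]; group

theorem el_mem_K {m : ℕ} (hm : m < 128) {w : List ℕ} (hw1 : w ∈ S5W) {e : Bool} :
    el m w e ∈ K ↔ par (rmw m) = false := by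
  rw [← R_mem_K_iff hm]
  unfold el
  rw [K.mul_mem_cancel_right (sg_mem_K e), K.mul_mem_cancel_right (E_mem_K (S5_lt hw1))]

/-! ### the subgroups -/

/-- the preimage of `C_K(z)` -/
def Pt : Subgroup H0 := Subgroup.centralizer {b} ⊓ K

/-- the preimage of `C_K(u)` -/
def P0t : Subgroup H0 := Subgroup.centralizer {U} ⊓ K

/-- `W = O₂(C(b))` -/
def Wt : Subgroup H0 where
  carrier := {g | ∃ m < 128, ∃ e, g = R m * sg e}
  one_mem' := ⟨0, by norm_num, false, by rw [R_zero]; exact (mul_one _).symm⟩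
  mul_mem' := by
    rintro _ _ ⟨m, hm, e, rfl⟩ ⟨m', hm', e', rfl⟩
    obtain ⟨e1, h1⟩ := R_mul m m'
    refine ⟨m ^^^ m', xor_lt hm hm', (e1 ^^ e) ^^ e', ?_⟩
    calc R m * sg e * (R m' * sg e') = R m * (sg e * R m') * sg e' := by group
      _ = (R m * R m') * sg e * sg e' := by rw [R_sg]; group
      _ = R (m ^^^ m') * (sg e1 * sg e * sg e') := by rw [h1]; group
      _ = _ := by rw [sg_mul, sg_mul]
  inv_mem' := by
    rintro _ ⟨m, hm, e, rfl⟩
    obtain ⟨e1, h1⟩ := R_sq m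
    refine ⟨m, hm, e1 ^^ e, ?_⟩
    rw [inv_eq_iff_mul_eq_one]
    calc R m * sg e * (R m * sg (e1 ^^ e)) = R m * (sg e * R m) * sg (e1 ^^ e) := by group
      _ = (R m * R m) * (sg e * sg (e1 ^^ e)) := by rw [R_sg]; group
      _ = 1 := by rw [h1, sg_mul, sg_mul]; cases e1 <;> cases e <;> rfl

/-- the preimage of `R` -/
def Rt : Subgroup H0 := Wt ⊓ K

theorem mem_Pt {h : H0} : h ∈ Pt ↔ h * b = b * h ∧ h ∈ K := by
  unfold Pt
  rw [Subgroup.mem_inf, Subgroup.mem_centralizer_singleton_iff]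

theorem mem_P0t {h : H0} : h ∈ P0t ↔ h * U = U * h ∧ h ∈ K := by
  unfold P0t
  rw [Subgroup.mem_inf, Subgroup.mem_centralizer_singleton_iff]

theorem mem_Wt {h : H0} : h ∈ Wt ↔ ∃ m < 128, ∃ e, h = R m * sg e := Iff.rfl

theorem mem_Rt {h : H0} : h ∈ Rt ↔ ∃ m < 128, par (rmw m) = false ∧ ∃ e, h = R m * sg e := by
  unfold Rt
  rw [Subgroup.mem_inf, mem_Wt]
  constructor
  · rintro ⟨⟨m, hm, e, rfl⟩, h2⟩
    rw [K.mul_mem_cancel_right (sg_mem_K e), R_mem_K_iff hm] at h2
    exact ⟨m, hm, h2, e, rfl⟩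
  · rintro ⟨m, hm, h2, e, rfl⟩
    refine ⟨⟨m, hm, e, rfl⟩, ?_⟩
    rwa [K.mul_mem_cancel_right (sg_mem_K e), R_mem_K_iff hm]

theorem exists_of_mem_Pt {h : H0} (hh : h ∈ Pt) :
    ∃ m < 128, par (rmw m) = false ∧ ∃ w ∈ S5W, ∃ e, h = el m w e := by
  obtain ⟨h1, h2⟩ := mem_Pt.1 hh
  obtain ⟨m, hm, w, hw1, e, rfl⟩ := cent_b h1.symm
  exact ⟨m, hm, (el_mem_K hm hw1).1 h2, w, hw1, e, rfl⟩

theorem el_mem_Pt {m : ℕ} (hm : m < 128) (hp : par (rmw m) = false) {w : List ℕ} (hw1 : w ∈ S5W) (e : Bool) :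
    el m w e ∈ Pt :=
  mem_Pt.2 ⟨(el_b m hw1 e).symm, (el_mem_K hm hw1).2 hp⟩

theorem P0t_le : P0t ≤ Pt := by
  intro h hh
  obtain ⟨h1, h2⟩ := mem_P0t.1 hh
  refine mem_Pt.2 ⟨?_, h2⟩
  rw [← U_sq, ← mul_assoc, h1, mul_assoc, h1, mul_assoc]

theorem el_mem_P0t {m : ℕ} (hm : m < 128) (hp : par (rmw m) = false) {w : List ℕ} (hw1 : w ∈ S5W) {e : Bool} :
    el m w e ∈ P0t ↔ evw w = true := by
  rw [mem_P0t, and_iff_left ((el_mem_K hm hw1).2 hp)]
  have h := U_el hm hw1 e
  rw [hp] at h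
  constructor
  · intro h1
    rw [← h1] at h
    have h2 : sa (!evw w) * 1 = 1 := mul_eq_left.1 (mul_left_cancel h).symm
    cases h3 : evw w
    · rw [h3, mul_one] at h2
      exact absurd h2 bτ_ne
    · rfl
  · intro h1
    rw [h, h1]
    change _ = el m w e * (U * (1 * 1))
    rw [mul_one, mul_one]

theorem exists_of_mem_P0t {h : H0} (hh : h ∈ P0t) :
    ∃ m < 128, par (rmw m) = false ∧ ∃ w ∈ S5W, evw w = true ∧ ∃ e, h = el m w e := by
  obtain ⟨m, hm, hp, w, hw1, e, rfl⟩ := exists_of_mem_Pt (P0t_le hh)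
  exact ⟨m, hm, hp, w, hw1, (el_mem_P0t hm hp hw1).1 hh, e, rfl⟩

theorem nil_mem : ([] : List ℕ) ∈ S5W := by decide +kernel

theorem Rt_le : Rt ≤ P0t := by
  intro h hh
  obtain ⟨m, hm, hp, e, rfl⟩ := mem_Rt.1 hh
  have h1 : R m * sg e = el m [] e := by rw [WMask.el, E_nil, mul_one]
  rw [h1]
  exact (el_mem_P0t hm hp nil_mem).2 rfl

end Cfsg.Agent.KFacts.HS.Cent
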