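import Cfsg.Agent.KFacts.HS.Cent2

set_option autoImplicit false

/-!
# Facts on `HS`: normal 2-subgroups of `C(z)`, in `H0 = 2.HS.2`
-/

namespace Cfsg.Agent.KFacts.HS.Cent

open Cfsg.Agent.HN Cfsg.Agent.HN.Pres Cfsg.Agent.HN.HS100 Cfsg.Agent.HN.P1408 Cfsg.Agent.HN.H0Basic
open Cfsg.Agent.HN.XMat Cfsg.Agent.HN.WMask
open Cfsg.Agent.SporadicA.PermTab (band band_eq_true allB allB_iff)

/-! ### 2-subgroups normalised by `P0t` -/

/-- `x` acts as `h⁻¹ w h` -/
def rel (w h x : List ℕ) : Bool := allB (fun i => Nat.beq (fw x (fw h (2 ^ i))) (fw h (fw w (2 ^ i)))) 7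

/-- the action of `w x` has order 3 or 5 -/
def bad (w x : List ℕ) : Bool :=
  bif allB (fun i => Nat.beq (fw x (fw w (2 ^ i))) (2 ^ i)) 7 then false else
    bif allB (fun i => Nat.beq ((fun m => fw x (fw w m))^[3] (2 ^ i)) (2 ^ i)) 7 then true else
      allB (fun i => Nat.beq ((fun m => fw x (fw w m))^[5] (2 ^ i)) (2 ^ i)) 7

def chkCore (w : List ℕ) : Bool :=
  bif w.isEmpty then true else
    [[], [0], [1, 1], [1, 0, 1]].any (fun h => S5W.all (fun x => bif rel w h x then bad w x else true))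

theorem chkCore_all : S5W.all chkCore = true := by decide +kernel

theorem allB_beq {f g : ℕ → ℕ} {n : ℕ} : allB (fun i => Nat.beq (f i) (g i)) n = true ↔ ∀ i < n, f i = g i := by
  rw [allB_iff]
  exact forall₂_congr fun i _ => ⟨Nat.eq_of_beq_eq_true, fun h => h ▸ Nat.beq_refl _⟩

theorem even4 : ∀ h ∈ ([[], [0], [1, 1], [1, 0, 1]] : List (List ℕ)), evw h = true ∧ h ∈ S5W := by
  decide +kernel

/-- 2-subgroups of `C(b) ∩ K` normalised by `P0t` are in `Rt` -/
theorem core {N : Subgroup H0} (hN : N ≤ Pt) (h2 : ∀ g ∈ N, ∃ k : ℕ, g ^ 2 ^ k = 1)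
    (hn : ∀ h ∈ P0t, ∀ g ∈ N, h * g * h⁻¹ ∈ N) : N ≤ Rt := by
  intro g hg
  obtain ⟨m, hm, hp, w, hw1, e, rfl⟩ := exists_of_mem_Pt (hN hg)
  have h1 := List.all_eq_true.1 chkCore_all w hw1
  unfold chkCore at h1
  cases h0 : w.isEmpty
  · rw [h0, cond_false, List.any_eq_true] at h1
    obtain ⟨h, hh, h3⟩ := h1
    rw [List.all_eq_true] at h3
    obtain ⟨hev, hhS⟩ := even4 h hh
    have hP : E h ∈ P0t := by
      have : E h = el 0 h false := by
        unfold el
        rw [R_zero, one_mul]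
        exact (mul_one _).symm
      rw [this]
      exact (el_mem_P0t (by norm_num) (by decide) hhS).2 hev
    set x : H0 := (E h)⁻¹ * el m w e * E h with hx
    have hxN : x ∈ N := by
      have := hn _ (P0t.inv_mem hP) _ hg
      rwa [inv_inv] at this
    have hag : Act (el m w e) (fw w) := Act.el m hw1 e
    have hah : Act (E h) (fw h) := Act.E (S5_lt hhS)
    obtain ⟨wx, hwx, hax⟩ := Act.exists_of_comm (g := x) (mem_Pt.1 (hN hxN)).1.symm
    have hrel : rel w h wx = true := by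
      unfold rel
      rw [allB_beq]
      intro i hi
      have e1 : E h * x = el m w e * E h := by rw [hx]; group
      have a1 := hah.mul hax
      rw [e1] at a1
      exact a1.uniq (hag.mul hah) (two_pow_lt hi)
    have h4 := h3 wx hwx
    rw [hrel, cond_true] at h4
    unfold bad at h4
    have hag2 := hag.mul hax
    obtain ⟨k, hk⟩ := h2 _ (N.mul_mem hg hxN)
    cases h5 : allB (fun i => Nat.beq (fw wx (fw w (2 ^ i))) (2 ^ i)) 7
    · exfalso
      have h6 : ∀ i < 7, fw wx (fw w (2 ^ i)) = 2 ^ i := by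
        rw [h5, cond_false] at h4
        cases h7 : allB (fun i => Nat.beq ((fun m => fw wx (fw w m))^[3] (2 ^ i)) (2 ^ i)) 7
        · rw [h7, cond_false] at h4
          exact hag2.trivial_of hk (n := 5) (by decide) (allB_beq.1 h4)
        · exact hag2.trivial_of hk (n := 3) (by decide) (allB_beq.1 h7)
      rw [← allB_beq] at h6
      rw [h6] at h5
      exact absurd h5 (by decide)
    · rw [h5, cond_true] at h4
      exact absurd h4 (by decide)
  · have : w = [] := List.isEmpty_iff.1 h0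
    subst this
    exact mem_Rt.2 ⟨m, hm, hp, e, by rw [WMask.el, E_nil, mul_one]⟩

/-! ### subgroups of `Rt` normalised by `P0t` -/

/-- sum of images of a mask -/
def xorl (ws : List (List ℕ)) (m : ℕ) : ℕ := List.rec 0 (fun w _ ih => fw w m ^^^ ih) ws

/-- the mask is in the radical -/
def inU (m : ℕ) : Bool := [0, 1, 28, 29].any (fun k => Nat.beq m k)

/-- orbits of `P0t` on the masks of `Rt` -/
def chkOrb (m : ℕ) : Bool :=
  bif par (rmw m) then true else bif inU m then true else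
    S5W.any (fun w => bif evw w then [2, 3, 12, 13].any (fun k => Nat.beq (fw w m) k) else false)

theorem chkOrb_all : allB chkOrb 128 = true := by decide +kernel

/-- certificates of generation -/
def certs : List (ℕ × ℕ × List (List ℕ)) :=
  [(2, 12, [[0, 1, 0, 1], [0]]), (2, 16, [[0, 1, 1, 0]]), (2, 36, [[0, 1, 0, 1]]), (2, 68, [[1, 0, 1]]),
    (12, 2, [[0, 1, 0, 1, 0, 0], []]), (12, 16, [[1, 0, 1, 0], [0, 1, 0, 1]]), (12, 36, [[0, 1, 0, 1], [0, 0]]),
    (12, 68, [[0, 1, 0, 1, 0], []])]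

theorem certs_ok : ∀ c ∈ certs, (∀ w ∈ c.2.2, evw w = true ∧ w ∈ S5W) ∧
    (Nat.beq (xorl c.2.2 c.1) c.2.1 || Nat.beq (xorl c.2.2 c.1 ^^^ 1) c.2.1) = true := by decide +kernel

/-- decomposition of an even mask -/
def comb (m : ℕ) : ℕ :=
  (bif m.testBit 0 then 1 else 0) ^^^ ((bif xor (m.testBit 1) false then 2 else 0) ^^^
    ((bif m.testBit 4 then 16 else 0) ^^^ ((bif m.testBit 3 then 12 else 0) ^^^
      ((bif m.testBit 5 then 36 else 0) ^^^ (bif m.testBit 6 then 68 else 0)))))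

theorem comb_ok : allB (fun m => bif par (rmw m) then true else Nat.beq (comb m) m) 128 = true := by decide +kernel

theorem xorl_lt {ws : List (List ℕ)} (h : ∀ w ∈ ws, w ∈ S5W) {m : ℕ} (hm : m < 128) : xorl ws m < 128 := by
  induction ws with
  | nil => exact (by norm_num : (0 : ℕ) < 128)
  | cons w ws ih =>
    exact xor_lt (fw_lt (S5_lt (h w (by simp))) hm) (ih fun w' hw' => h w' (by simp [hw']))

section

variable {N : Subgroup H0}

/-- the mask is good -/
def Good (N : Subgroup H0) (m : ℕ) : Prop := ∃ e, R m * sg e ∈ N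

theorem Good.xor {m m' : ℕ} (h : Good N m) (h' : Good N m') : Good N (m ^^^ m') := by
  obtain ⟨e, h⟩ := h
  obtain ⟨e', h'⟩ := h'
  obtain ⟨e1, h1⟩ := R_mul m m'
  refine ⟨(e1 ^^ e) ^^ e', ?_⟩
  have h2 : R m * sg e * (R m' * sg e') = R (m ^^^ m') * sg ((e1 ^^ e) ^^ e') := by
    calc R m * sg e * (R m' * sg e') = R m * (sg e * R m') * sg e' := by group
      _ = (R m * R m') * sg e * sg e' := by rw [R_sg]; group
      _ = R (m ^^^ m') * (sg e1 * sg e * sg e') := by rw [h1]; group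
      _ = _ := by rw [sg_mul, sg_mul]
  rw [← h2]
  exact N.mul_mem h h'

theorem Good.zero : Good N 0 := ⟨false, by
  have : R 0 * sg false = 1 := mul_one _
  rw [this]; exact N.one_mem⟩

theorem E_mem_P0t {w : List ℕ} (hw1 : w ∈ S5W) (hev : evw w = true) : E w ∈ P0t := by
  have : E w = el 0 w false := by
    unfold el
    rw [R_zero, one_mul]
    exact (mul_one _).symm
  rw [this]
  exact (el_mem_P0t (by norm_num) (by decide) hw1).2 hev

theorem Good.fw (hn : ∀ h ∈ P0t, ∀ g ∈ N, h * g * h⁻¹ ∈ N) {m : ℕ} (hm : m < 128) (h : Good N m)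
    {w : List ℕ} (hw1 : w ∈ S5W) (hev : evw w = true) : Good N (fw w m) := by
  obtain ⟨e, h⟩ := h
  obtain ⟨e1, h1⟩ := act_E (S5_lt hw1) hm
  refine ⟨e1 ^^ e, ?_⟩
  have h2 := hn _ (P0t.inv_mem (E_mem_P0t hw1 hev)) _ h
  have h3 : (E w)⁻¹ * (R m * sg e) * (E w)⁻¹⁻¹ = R (WMask.fw w m) * sg (e1 ^^ e) := by
    calc (E w)⁻¹ * (R m * sg e) * (E w)⁻¹⁻¹ = (E w)⁻¹ * (R m * (sg e * E w)) := by group
      _ = (E w)⁻¹ * ((R m * E w) * sg e) := by rw [sg_comm (E_b (S5_lt hw1))]; group
      _ = R (WMask.fw w m) * (sg e1 * sg e) := by rw [h1]; group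
      _ = _ := by rw [sg_mul]
  rwa [h3] at h2

theorem Good.xorl (hn : ∀ h ∈ P0t, ∀ g ∈ N, h * g * h⁻¹ ∈ N) {m : ℕ} (hm : m < 128) (h : Good N m)
    {ws : List (List ℕ)} (hw : ∀ w ∈ ws, evw w = true ∧ w ∈ S5W) : Good N (xorl ws m) := by
  induction ws with
  | nil => exact Good.zero
  | cons w ws ih =>
    exact (Good.fw hn hm h (hw w (by simp)).2 (hw w (by simp)).1).xor (ih fun w' hw' => hw w' (by simp [hw']))

theorem Good.one (ht : τ ∈ N) : Good N 1 := ⟨false, by
  have : R 1 * sg false = τ := by rw [R_one]; exact mul_one _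
  rw [this]; exact ht⟩

theorem Good.gen (hn : ∀ h ∈ P0t, ∀ g ∈ N, h * g * h⁻¹ ∈ N) (ht : τ ∈ N) {m0 t : ℕ} (hm : m0 < 128)
    (h : Good N m0) {ws : List (List ℕ)} (hc : (m0, t, ws) ∈ certs) : Good N t := by
  obtain ⟨h1, h2⟩ := certs_ok _ hc
  have h3 := Good.xorl hn hm h h1
  rw [Bool.or_eq_true] at h2
  rcases h2 with h2 | h2
  · have h4 := Nat.eq_of_beq_eq_true h2
    change Cent.xorl ws m0 = t at h4
    rwa [h4] at h3
  · have h4 := Nat.eq_of_beq_eq_true h2
    change Cent.xorl ws m0 ^^^ 1 = t at h4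
    rw [← h4]
    exact h3.xor (Good.one ht)

theorem Good.all (ht : τ ∈ N) (h2 : Good N 2) (h12 : Good N 12) (h16 : Good N 16) (h36 : Good N 36)
    (h68 : Good N 68) {m : ℕ} (hm : m < 128) (hp : par (rmw m) = false) : Good N m := by
  have h := (allB_iff _ _).1 comb_ok m hm
  rw [hp, cond_false] at h
  rw [← Nat.eq_of_beq_eq_true h]
  have hc : ∀ (c : Bool) (k : ℕ), Good N k → Good N (bif c then k else 0) := by
    intro c k hk
    cases c
    · exact Good.zero
    · exact hk
  exact (hc _ _ (Good.one ht)).xor ((hc _ _ h2).xor ((hc _ _ h16).xor ((hc _ _ h12).xor ((hc _ _ h36).xor (hc _ _ h68)))))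

theorem R2_R68 : R 2 * R 68 = R 68 * (R 2 * b) := by
  rw [R, R, b, ← hw_append, ← hw_append, ← hw_append]
  exact hw_eq (by decide +kernel)

/-- a subgroup normalised by `P0t` with a mask outside the radical contains `Rt` -/
theorem Rt_le_of_good (hn : ∀ h ∈ P0t, ∀ g ∈ N, h * g * h⁻¹ ∈ N) (ht : τ ∈ N) {m : ℕ} (hm : m < 128)
    (hp : par (rmw m) = false) (h : Good N m) (hu : inU m = false) : Rt ≤ N := by
  have h1 := (allB_iff _ _).1 chkOrb_all m hm
  unfold chkOrb at h1
  rw [hp, hu, cond_false, cond_false, List.any_eq_true] at h1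
  obtain ⟨w, hw1, h2⟩ := h1
  cases hev : evw w
  · rw [hev, cond_false] at h2
    exact absurd h2 (by decide)
  rw [hev, cond_true, List.any_eq_true] at h2
  obtain ⟨k, hk, h3⟩ := h2
  have h4 := Nat.eq_of_beq_eq_true h3
  have h5 := Good.fw hn hm h hw1 hev
  rw [h4] at h5
  have h6 : Good N 2 ∨ Good N 12 := by
    simp only [List.mem_cons, List.not_mem_nil, or_false] at hk
    rcases hk with rfl | rfl | rfl | rfl
    · exact Or.inl h5
    · exact Or.inl (h5.xor (Good.one ht) : Good N (3 ^^^ 1))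
    · exact Or.inr h5
    · exact Or.inr (h5.xor (Good.one ht) : Good N (13 ^^^ 1))
  have h7 : Good N 2 ∧ Good N 12 ∧ Good N 16 ∧ Good N 36 ∧ Good N 68 := by
    rcases h6 with h6 | h6
    · exact ⟨h6, h6.gen hn ht (by norm_num) (t := 12) (List.mem_cons_self),
        h6.gen hn ht (by norm_num) (t := 16) (ws := [[0, 1, 1, 0]]) (by decide),
        h6.gen hn ht (by norm_num) (t := 36) (ws := [[0, 1, 0, 1]]) (by decide),
        h6.gen hn ht (by norm_num) (t := 68) (ws := [[1, 0, 1]]) (by decide)⟩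
    · exact ⟨h6.gen hn ht (by norm_num) (t := 2) (ws := [[0, 1, 0, 1, 0, 0], []]) (by decide), h6,
        h6.gen hn ht (by norm_num) (t := 16) (ws := [[1, 0, 1, 0], [0, 1, 0, 1]]) (by decide),
        h6.gen hn ht (by norm_num) (t := 36) (ws := [[0, 1, 0, 1], [0, 0]]) (by decide),
        h6.gen hn ht (by norm_num) (t := 68) (ws := [[0, 1, 0, 1, 0], []]) (by decide)⟩
  obtain ⟨g2, g12, g16, g36, g68⟩ := h7
  have hb : b ∈ N := by
    obtain ⟨e, he⟩ := g2
    obtain ⟨e', he'⟩ := g68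
    have h8 : (R 68 * sg e' * (R 2 * sg e))⁻¹ * (R 2 * sg e * (R 68 * sg e')) = b := by
      have h9 : R 2 * sg e * (R 68 * sg e') = R 68 * sg e' * (R 2 * sg e) * b := by
        calc R 2 * sg e * (R 68 * sg e') = R 2 * (sg e * R 68) * sg e' := by group
          _ = (R 2 * R 68) * (sg e * sg e') := by rw [R_sg]; group
          _ = R 68 * R 2 * (b * (sg e * sg e')) := by rw [R2_R68]; group
          _ = R 68 * R 2 * (sg e' * sg e * b) := by
              have h10 : b * (sg e * sg e') = sg e' * sg e * b := by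
                change sg true * _ = _ * sg true
                rw [sg_mul, sg_mul, sg_mul, sg_mul]
                cases e <;> cases e' <;> rfl
              rw [h10]
          _ = R 68 * (R 2 * sg e') * sg e * b := by group
          _ = _ := by rw [← R_sg]; group
      rw [h9, inv_mul_cancel_left]
    rw [← h8]
    exact N.mul_mem (N.inv_mem (N.mul_mem he' he)) (N.mul_mem he he')
  intro g hg
  obtain ⟨m', hm', hp', e, rfl⟩ := mem_Rt.1 hg
  obtain ⟨e', he'⟩ := Good.all ht g2 g12 g16 g36 g68 hm' hp'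
  have h8 : sg (e' ^^ e) ∈ N := by
    cases e' ^^ e
    · exact N.one_mem
    · exact hb
  have h9 : R m' * sg e = R m' * sg e' * sg (e' ^^ e) := by
    rw [mul_assoc, sg_mul]
    cases e <;> cases e' <;> rfl
  rw [h9]
  exact N.mul_mem he' h8

theorem inU_cases {m : ℕ} (h : inU m = true) : m = 0 ∨ m = 1 ∨ m = 28 ∨ m = 29 := by
  unfold inU at h
  rw [List.any_eq_true] at h
  obtain ⟨k, hk, h1⟩ := h
  rw [Nat.eq_of_beq_eq_true h1]
  simpa using hk

theorem R29_eq : ∃ e, R 29 = U * τ * sg e := by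
  rw [U, R, R, ← hw_τ, ← hw_append]
  exact eqb_spec (by decide +kernel)

/-- **subgroups of `Rt` containing `τ`, normalised by `P0t`** -/
theorem subs (hN : N ≤ Rt) (hn : ∀ h ∈ P0t, ∀ g ∈ N, h * g * h⁻¹ ∈ N) (ht : τ ∈ N) :
    (∀ g ∈ N, ∃ e, g = sg e ∨ g = τ * sg e) ∨
      (U ∈ N ∧ ∀ g ∈ N, ∃ e, g = sg e ∨ g = τ * sg e ∨ g = U * sg e ∨ g = U * τ * sg e) ∨ N = Rt := by
  by_cases h : ∃ g ∈ N, ∃ m < 128, par (rmw m) = false ∧ inU m = false ∧ ∃ e, g = R m * sg e
  · obtain ⟨g, hg, m, hm, hp, hu, e, rfl⟩ := h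
    exact Or.inr (Or.inr (le_antisymm hN (Rt_le_of_good hn ht hm hp ⟨e, hg⟩ hu)))
  · have key : ∀ g ∈ N, ∃ e, g = sg e ∨ g = τ * sg e ∨ g = U * sg e ∨ g = U * τ * sg e := by
      intro g hg
      obtain ⟨m, hm, hp, e, rfl⟩ := mem_Rt.1 (hN hg)
      have hu : inU m = true := by
        by_contra hu
        exact h ⟨_, hg, m, hm, hp, Bool.eq_false_iff.2 hu, e, rfl⟩
      rcases inU_cases hu with rfl | rfl | rfl | rfl
      · exact ⟨e, Or.inl (by rw [R_zero, one_mul])⟩
      · exact ⟨e, Or.inr (Or.inl (by rw [R_one]))⟩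
      · exact ⟨e, Or.inr (Or.inr (Or.inl rfl))⟩
      · obtain ⟨e', h'⟩ := R29_eq
        exact ⟨e' ^^ e, Or.inr (Or.inr (Or.inr (by rw [h', mul_assoc, sg_mul])))⟩
    have hsb : ∀ e, b * sg e = sg e * b := by
      intro e
      cases e
      · exact (mul_one _).trans (one_mul _).symm
      · rfl
    by_cases hU : ∃ g ∈ N, ∃ e, g = U * sg e ∨ g = U * τ * sg e
    · right; left
      refine ⟨?_, key⟩
      obtain ⟨g, hg, e, h1⟩ := hU
      have h2 : U * sg e ∈ N := by
        rcases h1 with rfl | rfl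
        · exact hg
        · have h3 : U * sg e = τ * (U * τ * sg e) := by
            calc U * sg e = U * (τ * τ) * sg e := by rw [τ_mul_τ, mul_one]
              _ = (U * τ) * τ * sg e := by group
              _ = τ * (U * τ) * sg e := by rw [τ_comm (U * τ)]
              _ = _ := by group
          rw [h3]
          exact N.mul_mem ht hg
      have h3 : sg e * U = U * sg e := sg_comm U_b e
      have h4 : b ∈ N := by
        have h5 : U * sg e * (U * sg e) = b := by
          calc U * sg e * (U * sg e) = U * (sg e * U) * sg e := by group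
            _ = (U * U) * (sg e * sg e) := by rw [h3]; group
            _ = b := by rw [U_sq, sg_mul, Bool.xor_self]; exact mul_one _
        rw [← h5]
        exact N.mul_mem h2 h2
      have h6 : U = U * sg e * sg e := by
        rw [mul_assoc, sg_mul, Bool.xor_self]; exact (mul_one _).symm
      rw [h6]
      refine N.mul_mem h2 ?_
      cases e
      · exact N.one_mem
      · exact h4
    · left
      intro g hg
      obtain ⟨e, h1 | h1 | h1 | h1⟩ := key g hg
      · exact ⟨e, Or.inl h1⟩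
      · exact ⟨e, Or.inr h1⟩
      · exact absurd ⟨g, hg, e, Or.inl h1⟩ hU
      · exact absurd ⟨g, hg, e, Or.inr h1⟩ hU

end

end Cfsg.Agent.KFacts.HS.Cent
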