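import Cfsg.Agent.KFacts.HS.Cent3

set_option autoImplicit false

/-!
# Facts on `HS`: `P0t` is perfect modulo `τ`; automorphisms trivial on sections, in `H0 = 2.HS.2`
-/

namespace Cfsg.Agent.KFacts.HS.Cent

open Cfsg.Agent.HN Cfsg.Agent.HN.Pres Cfsg.Agent.HN.HS100 Cfsg.Agent.HN.P1408 Cfsg.Agent.HN.H0Basic
open Cfsg.Agent.HN.XMat Cfsg.Agent.HN.WMask
open Cfsg.Agent.SporadicA.PermTab (band band_eq_true allB allB_iff)

/-! ### normality -/

/-- `W` is normal in `C(b)` -/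
theorem Wt_conj {g : H0} (hg : g * b = b * g) {r : H0} (hr : r ∈ Wt) : g * r * g⁻¹ ∈ Wt := by
  obtain ⟨m, hm, e, rfl⟩ := hr
  have hg' : b * g⁻¹ = g⁻¹ * b := by
    rw [eq_inv_mul_iff_mul_eq, ← mul_assoc, hg, mul_assoc, mul_inv_cancel, mul_one]
  obtain ⟨w, hw1, ha⟩ := Act.exists_of_comm hg'
  obtain ⟨e', he'⟩ := ha.eq m hm
  refine ⟨fw w m, ha.lt m hm, e' ^^ e, ?_⟩
  calc g * (R m * sg e) * g⁻¹ = g * (R m * (sg e * g⁻¹)) := by group
    _ = g * ((R m * g⁻¹) * sg e) := by rw [sg_comm hg']; group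
    _ = R (fw w m) * (sg e' * sg e) := by rw [he']; group
    _ = _ := by rw [sg_mul]

theorem K_conj {g k : H0} (hk : k ∈ K) : g * k * g⁻¹ ∈ K := Subgroup.Normal.conj_mem inferInstance _ hk _

theorem Rt_conj {g : H0} (hg : g * b = b * g) {r : H0} (hr : r ∈ Rt) : g * r * g⁻¹ ∈ Rt :=
  ⟨Wt_conj hg hr.1, K_conj hr.2⟩

theorem Pt_conj {g : H0} (hg : g * b = b * g) {r : H0} (hr : r ∈ Pt) : g * r * g⁻¹ ∈ Pt := by
  obtain ⟨h1, h2⟩ := mem_Pt.1 hr
  refine mem_Pt.2 ⟨?_, K_conj h2⟩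
  have c1 : Commute g b := hg
  have c2 : Commute r b := h1
  exact (c1.mul_left c2).mul_left c1.inv_left

theorem Rt_le_Wt : Rt ≤ Wt := inf_le_left

theorem τ_mem_Rt : τ ∈ Rt := by
  refine mem_Rt.2 ⟨1, by norm_num, by decide, false, ?_⟩
  rw [R_one]; exact (mul_one _).symm

theorem b_mem_Rt : b ∈ Rt := mem_Rt.2 ⟨0, by norm_num, by decide, true, by rw [R_zero, one_mul]; rfl⟩

theorem U_mem_Rt : U ∈ Rt := mem_Rt.2 ⟨28, by norm_num, by decide +kernel, false, (mul_one _).symm⟩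

theorem bτ : b * τ = τ * b := τ_comm b

/-- elements of `C(b)` map `U` to `U`, `U b`, `U τ` or `U b τ` -/
theorem U_conj {g : H0} (hg : g * b = b * g) : ∃ e e' : Bool, U * g = g * (U * (sa e * sg e')) := by
  obtain ⟨m, hm, w, hw1, e, rfl⟩ := cent_b hg.symm
  exact ⟨_, _, U_el hm hw1 e⟩

/-! ### `P0t` is perfect modulo `τ` -/

/-- equality of words up to `b` and `τ` -/
def eqbt (u v : List ℕ) : Bool := bif eqb u v then true else eqb u (v ++ [0, 0])

theorem eqbt_spec {u v : List ℕ} (h : eqbt u v = true) : ∃ e, hw u = hw v * sg e ∨ hw u = hw v * τ * sg e := by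
  unfold eqbt at h
  cases h1 : eqb u v
  · rw [h1, cond_false] at h
    obtain ⟨e, he⟩ := eqb_spec h
    rw [hw_append, hw_τ] at he
    exact ⟨e, Or.inr he⟩
  · obtain ⟨e, he⟩ := eqb_spec h1
    exact ⟨e, Or.inl he⟩

section

variable {D : Subgroup H0}

theorem sg_mem (hR : Rt ≤ D) (e : Bool) : sg e ∈ D := by
  cases e
  · exact D.one_mem
  · exact hR b_mem_Rt

/-- membership up to `b` and `τ` -/
theorem mem_of_eqbt (hR : Rt ≤ D) {u v : List ℕ} (h : eqbt u v = true) : hw u ∈ D ↔ hw v ∈ D := by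
  obtain ⟨e, he | he⟩ := eqbt_spec h
  · rw [he, D.mul_mem_cancel_right (sg_mem hR e)]
  · rw [he, D.mul_mem_cancel_right (sg_mem hR e), D.mul_mem_cancel_right (hR τ_mem_Rt)]

/-- the word of the element inverting `y²` -/
def tw : List ℕ := rmw 2 ++ ew [1, 0, 0, 1, 0, 1, 1]

theorem tw_mem : hw tw ∈ P0t := by
  have h1 : hw tw = el 2 [1, 0, 0, 1, 0, 1, 1] false := by
    rw [tw, hw_append]
    exact (mul_one _).symm
  rw [h1]
  exact (el_mem_P0t (by norm_num) (by decide +kernel) (by decide +kernel)).2 (by decide)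

/-- **`P0t` is perfect modulo `τ`** -/
theorem P0t_le_of (ht : τ ∈ D) (hc : ∀ x ∈ P0t, ∀ y ∈ P0t, x * y * x⁻¹ * y⁻¹ ∈ D)
    (hn : ∀ h ∈ Pt, ∀ g ∈ D, h * g * h⁻¹ ∈ D) : P0t ≤ D := by
  have hn0 : ∀ h ∈ P0t, ∀ g ∈ D, h * g * h⁻¹ ∈ D := fun h hh => hn h (P0t_le hh)
  have hE0 : E [0] ∈ P0t := E_mem_P0t (by decide +kernel) (by decide)
  have hR2 : R 2 ∈ P0t := Rt_le (mem_Rt.2 ⟨2, by norm_num, by decide +kernel, false, (mul_one _).symm⟩)
  -- `Rt ≤ D`
  have hR : Rt ≤ D := by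
    have ha : Act (E [0]) (fw [0]) := Act.E (by simp)
    obtain ⟨e, he⟩ := ha.eq 2 (by norm_num)
    have h1 := hc _ (P0t.inv_mem hE0) _ hR2
    have h2 : (E [0])⁻¹ * R 2 * (E [0])⁻¹⁻¹ * (R 2)⁻¹ = R (fw [0] 2) * sg e * (R 2)⁻¹ := by
      calc (E [0])⁻¹ * R 2 * (E [0])⁻¹⁻¹ * (R 2)⁻¹ = (E [0])⁻¹ * (R 2 * E [0]) * (R 2)⁻¹ := by group
        _ = _ := by rw [he]; group
    obtain ⟨e1, h3⟩ := R_sq 2
    have h4 : (R 2)⁻¹ = R 2 * sg e1 := by
      rw [inv_eq_iff_mul_eq_one, ← mul_assoc, h3, sg_mul, Bool.xor_self]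
      rfl
    obtain ⟨e2, h5⟩ := R_mul (fw [0] 2) 2
    have h6 : R (fw [0] 2) * sg e * (R 2)⁻¹ = R (fw [0] 2 ^^^ 2) * sg ((e2 ^^ e) ^^ e1) := by
      calc R (fw [0] 2) * sg e * (R 2)⁻¹ = R (fw [0] 2) * (sg e * R 2) * sg e1 := by rw [h4]; group
        _ = (R (fw [0] 2) * R 2) * sg e * sg e1 := by rw [R_sg]; group
        _ = R (fw [0] 2 ^^^ 2) * (sg e2 * sg e * sg e1) := by rw [h5]; group
        _ = _ := by rw [sg_mul, sg_mul]
    rw [h2, h6] at h1
    have h7 : fw [0] 2 ^^^ 2 = 43 := by decide +kernel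
    rw [h7] at h1
    exact Rt_le_of_good hn0 ht (m := 43) (by norm_num) (by decide +kernel) ⟨_, h1⟩ (by decide)
  -- `y`
  have hy2 : hw [2, 2] ∈ D := by
    have h1 : hw [2, 2] ∈ P0t := by
      have : hw [2, 2] = E [0] * E [0] := (hw_append [2] [2])
      rw [this]
      exact P0t.mul_mem hE0 hE0
    have h2 := hc _ (P0t.inv_mem tw_mem) _ h1
    -- `t⁻¹ y² t = y⁻²` up to `τ`, `b`
    have h3 : eqbt ([2, 2] ++ tw) (tw ++ [3, 3]) = true := by decide +kernel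
    obtain ⟨e, he⟩ := eqbt_spec h3
    have h4 : hw [3, 3] * (hw [2, 2])⁻¹ ∈ D := by
      have h5 : (hw tw)⁻¹ * hw [2, 2] * (hw tw)⁻¹⁻¹ * (hw [2, 2])⁻¹ =
          (hw tw)⁻¹ * (hw [2, 2] * hw tw) * (hw [2, 2])⁻¹ := by group
      rw [h5, ← hw_append [2, 2] tw] at h2
      rcases he with he | he
      · rw [he, hw_append] at h2
        have h6 : (hw tw)⁻¹ * (hw tw * hw [3, 3] * sg e) * (hw [2, 2])⁻¹ =
            (hw [3, 3] * (hw [2, 2])⁻¹) * (hw [2, 2] * sg e * (hw [2, 2])⁻¹) := by group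
        rw [h6, D.mul_mem_cancel_right (hn0 _ h1 _ (sg_mem hR e))] at h2
        exact h2
      · rw [he, hw_append] at h2
        have h6 : (hw tw)⁻¹ * (hw tw * hw [3, 3] * τ * sg e) * (hw [2, 2])⁻¹ =
            (hw [3, 3] * (hw [2, 2])⁻¹) * (hw [2, 2] * (τ * sg e) * (hw [2, 2])⁻¹) := by group
        rw [h6, D.mul_mem_cancel_right (hn0 _ h1 _ (D.mul_mem ht (sg_mem hR e)))] at h2
        exact h2
    have h7 : hw [2, 2] = hw [3, 3] * (hw [2, 2])⁻¹ := by
      rw [eq_mul_inv_iff_mul_eq, ← hw_append]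
      exact hw_eq (by decide +kernel)
    rw [h7]
    exact h4
  have hy : hw (gw 0) ∈ D := by
    have h1 : hw [2, 2, 2] ∈ D := by
      have h2 : eqbt [2, 2, 2] [] = true := by decide +kernel
      exact (mem_of_eqbt hR h2).2 D.one_mem
    have h2 : hw (gw 0) = (hw [2, 2])⁻¹ * hw [2, 2, 2] := by
      rw [eq_inv_mul_iff_mul_eq, ← hw_append]
      rfl
    rw [h2]
    exact D.mul_mem (D.inv_mem hy2) h1
  have hc1 : hw (gw 1) ∈ Pt := by
    have : hw (gw 1) = el 0 [1] false := by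
      unfold el
      rw [R_zero, one_mul]
      have h1 : E [1] = hw (gw 1) := by rw [E_cons, E_nil, mul_one]
      rw [h1]
      exact (mul_one _).symm
    rw [this]
    exact el_mem_Pt (by norm_num) (by decide) (by decide +kernel) _
  -- `c²`
  have hcc : hw (gw 1) * hw (gw 1) ∈ D := by
    have w1 : E [0, 1, 0, 1] ∈ P0t := E_mem_P0t (by decide +kernel) (by decide)
    have w2 : E [1, 1, 1, 0, 1, 0] ∈ P0t := E_mem_P0t (by decide +kernel) (by decide)
    have h1 := hc _ (P0t.inv_mem w1) _ (P0t.inv_mem w2)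
    have h2 : eqbt (ew [0, 1, 0, 1] ++ ew [1, 1, 1, 0, 1, 0])
        (ew [1, 1, 1, 0, 1, 0] ++ ew [0, 1, 0, 1] ++ (rmw 16 ++ ew [1, 1])) = true := by decide +kernel
    have h3 : hw (ew [1, 1]) ∈ D := by
      have hR16 : R 16 ∈ D := hR (mem_Rt.2 ⟨16, by norm_num, by decide +kernel, false, (mul_one _).symm⟩)
      have key : hw (rmw 16 ++ ew [1, 1]) ∈ D := by
        obtain ⟨e, he⟩ := eqbt_spec h2
        have h5 : (E [0, 1, 0, 1])⁻¹ * (E [1, 1, 1, 0, 1, 0])⁻¹ * (E [0, 1, 0, 1])⁻¹⁻¹ * (E [1, 1, 1, 0, 1, 0])⁻¹⁻¹ =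
            (E [1, 1, 1, 0, 1, 0] * E [0, 1, 0, 1])⁻¹ * (E [0, 1, 0, 1] * E [1, 1, 1, 0, 1, 0]) := by group
        rw [h5] at h1
        have h6 : E [0, 1, 0, 1] * E [1, 1, 1, 0, 1, 0] =
          hw (ew [0, 1, 0, 1] ++ ew [1, 1, 1, 0, 1, 0]) := (hw_append _ _).symm
        have h7 : hw (ew [1, 1, 1, 0, 1, 0] ++ ew [0, 1, 0, 1] ++ (rmw 16 ++ ew [1, 1])) =
          E [1, 1, 1, 0, 1, 0] * E [0, 1, 0, 1] * hw (rmw 16 ++ ew [1, 1]) := by
          rw [hw_append (ew [1, 1, 1, 0, 1, 0] ++ ew [0, 1, 0, 1]), hw_append (ew [1, 1, 1, 0, 1, 0])]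
          rfl
        rcases he with he | he
        · rw [h6, he, h7, mul_assoc _ (hw _) (sg e), inv_mul_cancel_left,
            D.mul_mem_cancel_right (sg_mem hR e)] at h1
          exact h1
        · rw [h6, he, h7, mul_assoc _ τ (sg e), mul_assoc _ (hw _) (τ * sg e), inv_mul_cancel_left,
            D.mul_mem_cancel_right (D.mul_mem ht (sg_mem hR e))] at h1
          exact h1
      rw [hw_append] at key
      exact (D.mul_mem_cancel_left hR16).1 key
    have h4 : hw (ew [1, 1]) = hw (gw 1) * hw (gw 1) := by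
      change E [1, 1] = _
      rw [E_cons, E_cons, E_nil, mul_one]
    rwa [h4] at h3
  have hcy : (hw (gw 1))⁻¹ * hw (gw 0) * hw (gw 1) ∈ D := by
    have := hn _ (Pt.inv_mem hc1) _ hy
    rwa [inv_inv] at this
  -- words
  have hwords : ∀ w : List ℕ, (∀ g ∈ w, g < 2) → (evw w = true → E w ∈ D) ∧
      (evw w = false → (hw (gw 1))⁻¹ * E w ∈ D) := by
    intro w
    induction w with
    | nil => exact fun _ => ⟨fun _ => D.one_mem, fun h => absurd h (by decide)⟩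
    | cons g w ih =>
      intro h
      have ih' := ih fun g' hg' => h g' (by simp [hg'])
      have hg : g < 2 := h g (by simp)
      interval_cases g
      · refine ⟨fun hev => ?_, fun hev => ?_⟩
        · rw [E_cons]
          exact D.mul_mem hy (ih'.1 hev)
        · rw [E_cons]
          have e1 : (hw (gw 1))⁻¹ * (hw (gw 0) * E w) =
            ((hw (gw 1))⁻¹ * hw (gw 0) * hw (gw 1)) * ((hw (gw 1))⁻¹ * E w) := by group
          rw [e1]
          exact D.mul_mem hcy (ih'.2 hev)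
      · have hev1 : evw (1 :: w) = !evw w := rfl
        refine ⟨fun hev => ?_, fun hev => ?_⟩
        · rw [E_cons]
          have e1 : hw (gw 1) * E w = hw (gw 1) * hw (gw 1) * ((hw (gw 1))⁻¹ * E w) := by group
          rw [e1]
          refine D.mul_mem hcc (ih'.2 ?_)
          rw [hev1] at hev
          cases h9 : evw w
          · rfl
          · rw [h9] at hev; exact absurd hev (by decide)
        · rw [E_cons, inv_mul_cancel_left]
          refine ih'.1 ?_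
          rw [hev1] at hev
          cases h9 : evw w
          · rw [h9] at hev; exact absurd hev (by decide)
          · rfl
  intro g hg
  obtain ⟨m, hm, hp, w, hw1, hev, e, rfl⟩ := exists_of_mem_P0t hg
  exact D.mul_mem (D.mul_mem (hR (mem_Rt.2 ⟨m, hm, hp, false, (mul_one _).symm⟩)) ((hwords w (S5_lt hw1)).1 hev))
    (sg_mem hR e)

end

end Cfsg.Agent.KFacts.HS.Cent
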