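import Cfsg.Agent.KFacts.HS.Cent4

set_option autoImplicit false

/-!
# Facts on `HS`: more facts on `C(b)`, in `H0 = 2.HS.2`

* `triv`: elements of `C(b)` trivial on `P0t / Rt` are in `W`
* `fixR`: elements of `C(b)` trivial on `Rt / τ`
* `inner`: elements of `C(b)` outside `K` inverting `U` act on `P0t / Rt` as elements of `P0t`
* `exists_conj`: elements of `Pt - P0t` of square 1 are conjugate to `w0 = k⁻¹ b k` or `w0 τ`
-/

namespace Cfsg.Agent.KFacts.HS.Cent

open Cfsg.Agent.HN Cfsg.Agent.HN.Pres Cfsg.Agent.HN.HS100 Cfsg.Agent.HN.P1408 Cfsg.Agent.HN.H0Basic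
open Cfsg.Agent.HN.XMat Cfsg.Agent.HN.WMask
open Cfsg.Agent.SporadicA.PermTab (band band_eq_true allB allB_iff)

theorem Act.of_Wt {r : H0} (hr : r ∈ Wt) : Act r (fun m => m) := by
  obtain ⟨m, hm, e, rfl⟩ := hr
  have h1 : R m * sg e = WMask.el m [] e := by rw [WMask.el, E_nil, mul_one]
  rw [h1]
  exact Act.el m nil_mem e

theorem Wt_b {r : H0} (hr : r ∈ Wt) : r * b = b * r := (Act.of_Wt hr).cb.symm

/-! ### elements trivial on `P0t / Rt` -/

def chkTriv (w : List ℕ) : Bool :=
  bif w.isEmpty then true else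
    bif [[0], [1, 1], [1, 0, 1]].all (fun p => allB (fun i => Nat.beq (fw p (fw w (2 ^ i))) (fw w (fw p (2 ^ i)))) 7)
    then false else true

theorem chkTriv_all : S5W.all chkTriv = true := by decide +kernel

theorem even3 : ∀ h ∈ ([[0], [1, 1], [1, 0, 1]] : List (List ℕ)), evw h = true ∧ h ∈ S5W := by
  decide +kernel

theorem triv {h : H0} (hb : h * b = b * h) (ht : ∀ p ∈ P0t, h * p * h⁻¹ * p⁻¹ ∈ Wt) : h ∈ Wt := by
  obtain ⟨m, hm, w, hw1, e, rfl⟩ := cent_b hb.symm
  have ha : Act (el m w e) (fw w) := Act.el m hw1 e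
  have h1 := List.all_eq_true.1 chkTriv_all w hw1
  unfold chkTriv at h1
  cases h0 : w.isEmpty
  · exfalso
    rw [h0, cond_false] at h1
    cases h2 : [[0], [1, 1], [1, 0, 1]].all
      (fun p => allB (fun i => Nat.beq (fw p (fw w (2 ^ i))) (fw w (fw p (2 ^ i)))) 7)
    · apply Bool.eq_false_iff.1 h2
      rw [List.all_eq_true]
      intro p hp
      obtain ⟨hev, hpS⟩ := even3 p hp
      rw [allB_beq]
      intro i hi
      have hap : Act (E p) (fw p) := Act.E (S5_lt hpS)
      have hr := ht _ (E_mem_P0t hpS hev)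
      have har := Act.of_Wt hr
      have h3 : el m w e * E p = el m w e * E p * (el m w e)⁻¹ * (E p)⁻¹ * (E p * el m w e) := by group
      have a1 := ha.mul hap
      rw [h3] at a1
      exact a1.uniq (har.mul (hap.mul ha)) (two_pow_lt hi)
    · rw [h2, cond_true] at h1
      exact absurd h1 (by decide)
  · have : w = [] := List.isEmpty_iff.1 h0
    subst this
    exact ⟨m, hm, e, by rw [WMask.el, E_nil, mul_one]⟩

/-- elements of `W` outside `K` invert `U` -/
theorem Wt_inv {h : H0} (hh : h ∈ Wt) (hK : h ∉ K) : U * h = h * (U * b) := by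
  obtain ⟨m, hm, e, rfl⟩ := hh
  have hp : par (rmw m) = true := by
    rw [K.mul_mem_cancel_right (sg_mem_K e), R_mem_K_iff hm] at hK
    exact Bool.eq_true_of_not_eq_false hK
  have h1 := U_R hm
  rw [hp] at h1
  calc U * (R m * sg e) = (U * R m) * sg e := by group
    _ = R m * (U * (b * sg e)) := by rw [h1]; change R m * (U * b) * sg e = _; group
    _ = R m * (U * (sg e * b)) := by
        have : b * sg e = sg e * b := by cases e <;> [exact (mul_one _).trans (one_mul _).symm; rfl]
        rw [this]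
    _ = R m * ((U * sg e) * b) := by group
    _ = R m * ((sg e * U) * b) := by rw [sg_comm U_b e]
    _ = _ := by group

/-! ### elements trivial on `Rt / τ` -/

def chkFix (w : List ℕ) : Bool :=
  bif w.isEmpty then true else
    bif [2, 12, 16, 36, 68].all (fun k => Nat.beq (fw w k) k || Nat.beq (fw w k) (k ^^^ 1)) then false else true

theorem chkFix_all : S5W.all chkFix = true := by decide +kernel

def chkFixR (m : ℕ) : Bool :=
  bif [2, 12, 16, 36, 68].all (fun k => eqw (rmw m ++ rmw k) (rmw k ++ rmw m)) then inU m else true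

theorem chkFixR_all : allB chkFixR 128 = true := by decide +kernel

theorem five : ∀ k ∈ [2, 12, 16, 36, 68], k < 128 ∧ par (rmw k) = false := by decide +kernel

theorem R_comm (m m' : ℕ) : ∃ e, R m * R m' = R m' * R m * sg e := by
  obtain ⟨e1, h1⟩ := R_mul m m'
  obtain ⟨e2, h2⟩ := R_mul m' m
  refine ⟨e1 ^^ e2, ?_⟩
  rw [h1, h2, mul_assoc, sg_mul, Nat.xor_comm m' m]
  cases e1 <;> cases e2 <;> rfl

theorem sg_ne_τ (e : Bool) : sg e ≠ τ := by
  intro h
  rw [← R_one] at h
  have h1 : R 0 * sg e = R 1 * sg false := by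
    rw [R_zero, one_mul, h]; exact (mul_one _).symm
  exact absurd (R_inj (by norm_num) (by norm_num) h1).1 (by norm_num)

theorem fixR {h : H0} (hb : h * b = b * h) (hr : ∀ r ∈ Rt, h * r * h⁻¹ = r ∨ h * r * h⁻¹ = r * τ) :
    ∃ e, h = sg e ∨ h = τ * sg e ∨ h = U * sg e ∨ h = U * τ * sg e := by
  have hb' : b * h⁻¹ = h⁻¹ * b := by
    rw [eq_inv_mul_iff_mul_eq, ← mul_assoc, hb, mul_assoc, mul_inv_cancel, mul_one]
  obtain ⟨m, hm, w, hw1, e, he⟩ := cent_b hb'
  have ha : Act (el m w e) (fw w) := Act.el m hw1 e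
  rw [← he] at ha
  -- masks
  have hmask : ∀ k < 128, par (rmw k) = false → fw w k = k ∨ fw w k = k ^^^ 1 := by
    intro k hk hp
    obtain ⟨e1, h1⟩ := ha.eq k hk
    have h2 : h * R k * h⁻¹ = R (fw w k) * sg e1 := by
      rw [mul_assoc, h1]; group
    have hkR : R k ∈ Rt := mem_Rt.2 ⟨k, hk, hp, false, (mul_one _).symm⟩
    rcases hr _ hkR with h3 | h3
    · left
      rw [h2] at h3
      exact (R_inj (ha.lt k hk) hk (h3.trans (mul_one _).symm : R (fw w k) * sg e1 = R k * sg false)).1
    · right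
      rw [h2, ← R_one] at h3
      obtain ⟨e2, h4⟩ := R_mul k 1
      rw [h4] at h3
      exact (R_inj (ha.lt k hk) (xor_lt hk (by norm_num)) h3).1
  have hw0 : w = [] := by
    have h1 := List.all_eq_true.1 chkFix_all w hw1
    unfold chkFix at h1
    cases h0 : w.isEmpty
    · exfalso
      rw [h0, cond_false] at h1
      cases h2 : [2, 12, 16, 36, 68].all (fun k => Nat.beq (fw w k) k || Nat.beq (fw w k) (k ^^^ 1))
      · apply Bool.eq_false_iff.1 h2
        rw [List.all_eq_true]
        intro k hk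
        obtain ⟨hk1, hk2⟩ := five k hk
        rcases hmask k hk1 hk2 with h3 | h3
        · rw [h3, Nat.beq_refl]; rfl
        · rw [h3, Nat.beq_refl, Bool.or_true]
      · rw [h2, cond_true] at h1
        exact absurd h1 (by decide)
    · exact List.isEmpty_iff.1 h0
  subst hw0
  have he' : h⁻¹ = R m * sg e := by rw [he, WMask.el, E_nil, mul_one]
  -- commutation
  have hu : inU m = true := by
    have h1 := (allB_iff _ _).1 chkFixR_all m hm
    unfold chkFixR at h1
    cases h2 : [2, 12, 16, 36, 68].all (fun k => eqw (rmw m ++ rmw k) (rmw k ++ rmw m))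
    · exfalso
      apply Bool.eq_false_iff.1 h2
      rw [List.all_eq_true]
      intro k hk
      obtain ⟨hk1, hk2⟩ := five k hk
      have hkR : R k ∈ Rt := mem_Rt.2 ⟨k, hk1, hk2, false, (mul_one _).symm⟩
      apply eqw_of_hw_eq (okw_append (okw_rmw hm) (okw_rmw hk1)) (okw_append (okw_rmw hk1) (okw_rmw hm))
      rw [hw_append, hw_append]
      change R m * R k = R k * R m
      obtain ⟨e1, h3⟩ := R_comm m k
      -- `R k h⁻¹ = h⁻¹ (R k or R k τ)`
      have h4 : R k * h⁻¹ = h⁻¹ * R k ∨ R k * h⁻¹ = h⁻¹ * (R k * τ) := by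
        rcases hr _ hkR with h5 | h5
        · left
          have : R k * h⁻¹ = h⁻¹ * (h * R k * h⁻¹) := by group
          rw [this, h5]
        · right
          have : R k * h⁻¹ = h⁻¹ * (h * R k * h⁻¹) := by group
          rw [this, h5]
      rw [he'] at h4
      have h6 : R k * (R m * sg e) = R k * R m * sg e := by group
      have h7 : R m * sg e * R k = R k * R m * sg e1 * sg e := by
        calc R m * sg e * R k = R m * (sg e * R k) := by group
          _ = (R m * R k) * sg e := by rw [R_sg]; group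
          _ = _ := by rw [h3]
      rcases h4 with h5 | h5
      · rw [h6, h7] at h5
        rw [h3]
        have h8 : R k * R m = R k * R m * sg e1 := mul_right_cancel h5
        exact h8.symm
      · exfalso
        have h9 : R m * sg e * (R k * τ) = R k * R m * (sg e1 * τ) * sg e := by
          rw [← mul_assoc, h7]
          calc R k * R m * sg e1 * sg e * τ = R k * R m * sg e1 * (sg e * τ) := by group
            _ = R k * R m * sg e1 * (τ * sg e) := by rw [τ_comm (sg e)]
            _ = _ := by group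
        rw [h6, h9] at h5
        have h8 : R k * R m = R k * R m * (sg e1 * τ) := mul_right_cancel h5
        have h10 : sg e1 * τ = 1 := (mul_eq_left.1 h8.symm)
        have h11 : sg e1 = τ := by
          rw [← τ_inv]; exact eq_inv_of_mul_eq_one_left h10
        exact sg_ne_τ e1 h11
    · rw [h2, cond_true] at h1
      exact h1
  -- conclusion for `h⁻¹`, then for `h`
  have hsinv : ∀ e, (sg e)⁻¹ = sg e := by
    intro e; cases e
    · exact inv_one
    · exact b_inv
  have h9 : h = (R m * sg e)⁻¹ := by rw [← he', inv_inv]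
  have hUinv : U⁻¹ = U * sg true := by
    rw [inv_eq_iff_mul_eq_one, ← mul_assoc, U_sq]
    exact b_sq
  have hsU : ∀ e, sg e * U = U * sg e := sg_comm U_b
  rcases inU_cases hu with rfl | rfl | rfl | rfl
  · exact ⟨e, Or.inl (by rw [h9, R_zero, one_mul, hsinv])⟩
  · refine ⟨e, Or.inr (Or.inl ?_)⟩
    rw [h9, R_one, mul_inv_rev, hsinv, τ_inv, τ_comm]
  · refine ⟨e ^^ true, Or.inr (Or.inr (Or.inl ?_))⟩
    rw [h9, mul_inv_rev, hsinv]
    change sg e * U⁻¹ = _
    rw [hUinv, ← mul_assoc, hsU, mul_assoc, sg_mul]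
  · obtain ⟨e', h'⟩ := R29_eq
    refine ⟨(e' ^^ e) ^^ true, Or.inr (Or.inr (Or.inr ?_))⟩
    rw [h9, h', mul_assoc, sg_mul, mul_inv_rev, hsinv, mul_inv_rev, τ_inv, hUinv]
    calc sg (e' ^^ e) * (τ * (U * sg true)) = (sg (e' ^^ e) * (τ * U)) * sg true := by group
      _ = (sg (e' ^^ e) * U) * τ * sg true := by rw [← τ_comm U]; group
      _ = U * (sg (e' ^^ e) * τ) * sg true := by rw [hsU]; group
      _ = U * τ * (sg (e' ^^ e) * sg true) := by rw [τ_comm (sg (e' ^^ e))]; group
      _ = _ := by rw [sg_mul]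

/-! ### outer elements -/

/-- elements of `C(b)` outside `K` which invert `U` modulo `τ` act on `P0t / Rt` as elements of `P0t` -/
theorem inner {h : H0} (hb : h * b = b * h) (hK : h ∉ K) (hU : U * h = h * (U * b) ∨ U * h = h * (U * b * τ)) :
    ∃ p ∈ P0t, ∀ y, (p * y * p⁻¹)⁻¹ * (h * y * h⁻¹) = (p * y⁻¹ * p⁻¹) * (h * p⁻¹) * (p * y * p⁻¹) * (h * p⁻¹)⁻¹ ∧
      h * p⁻¹ ∈ Wt := by
  obtain ⟨m, hm, w, hw1, e, rfl⟩ := cent_b hb.symm
  have hp : par (rmw m) = true := by
    rw [el_mem_K hm hw1] at hK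
    exact Bool.eq_true_of_not_eq_false hK
  have h1 := U_el hm hw1 e
  rw [hp] at h1
  have hev : evw w = true := by
    by_contra hne
    rw [Bool.not_eq_true] at hne
    rw [hne] at h1
    change U * el m w e = el m w e * (U * (b * τ * b)) at h1
    have h2 : b * τ * b = τ := by rw [bτ, mul_assoc, b_sq, mul_one]
    rw [h2] at h1
    rcases hU with h3 | h3
    · rw [h1] at h3
      have h4 : τ = b := mul_left_cancel (mul_left_cancel h3)
      exact sg_ne_τ true h4.symm
    · rw [h1] at h3
      have h4 : U * τ = U * b * τ := mul_left_cancel h3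
      have h5 : U = U * b := mul_right_cancel h4
      exact b_ne (mul_eq_left.1 h5.symm)
  refine ⟨E w, E_mem_P0t hw1 hev, fun y => ⟨by group, ?_⟩⟩
  refine ⟨m, hm, e, ?_⟩
  unfold el
  rw [mul_assoc (R m), ← sg_comm (E_b (S5_lt hw1)) e]
  group

/-! ### the involutions of `Pt - P0t` -/

/-- the word of `k` -/
def kw : List ℕ := [0, 2, 2, 0]

/-- its inverse -/
def kwi : List ℕ := [1, 3, 3, 1]

/-- the element `k` -/
def kk : H0 := hw kw

theorem kk_inv : kk⁻¹ = hw kwi := by
  rw [inv_eq_iff_mul_eq_one, kk, ← hw_append, ← hw_nil]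
  exact hw_eq (by decide)

theorem kk_mem_K : kk ∈ K := mem_K_of_par (by decide) (by decide)

/-- the conjugate `k⁻¹ b k` -/
def w0 : H0 := kk⁻¹ * b * kk

/-- the conjugate `k b k⁻¹` -/
def x0 : H0 := kk * b * kk⁻¹

/-- the word of the image of `w0` and `x0` modulo `W` -/
def w00 : List ℕ := [1, 1, 0, 1, 0]

theorem w0_eq : w0 = el 87 w00 true := by
  rw [w0, kk_inv, kk, b, ← hw_append, ← hw_append]
  have : el 87 w00 true = hw (rmw 87 ++ ew w00 ++ bw) := by
    rw [hw_append, hw_append]; rfl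
  rw [this]
  exact hw_eq (by decide +kernel)

theorem x0_eq : x0 = el 86 w00 false := by
  rw [x0, kk_inv, kk, b, ← hw_append, ← hw_append]
  have : el 86 w00 false = hw (rmw 86 ++ ew w00) := by
    rw [hw_append]; exact mul_one _
  rw [this]
  exact hw_eq (by decide +kernel)

theorem w00_mem : w00 ∈ S5W := by decide +kernel

theorem w0_mem : w0 ∈ Pt ∧ w0 ∉ P0t := by
  rw [w0_eq]
  refine ⟨el_mem_Pt (by norm_num) (by decide +kernel) w00_mem _, ?_⟩
  rw [el_mem_P0t (by norm_num) (by decide +kernel) w00_mem]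
  decide

theorem x0_mem : x0 ∈ Pt ∧ x0 ∉ P0t := by
  rw [x0_eq]
  refine ⟨el_mem_Pt (by norm_num) (by decide +kernel) w00_mem _, ?_⟩
  rw [el_mem_P0t (by norm_num) (by decide +kernel) w00_mem]
  decide

theorem w0_sq : w0 * w0 = 1 := by
  rw [w0]
  calc kk⁻¹ * b * kk * (kk⁻¹ * b * kk) = kk⁻¹ * (b * b) * kk := by group
    _ = 1 := by rw [b_sq]; group

theorem x0_sq : x0 * x0 = 1 := by
  rw [x0]
  calc kk * b * kk⁻¹ * (kk * b * kk⁻¹) = kk * (b * b) * kk⁻¹ := by group
    _ = 1 := by rw [b_sq]; group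

/-- odd words acting as involutions are conjugate to `w00` -/
def chkOdd (w : List ℕ) : Bool :=
  bif evw w then true else bif allB (fun i => Nat.beq (fw w (fw w (2 ^ i))) (2 ^ i)) 7 then
    S5W.any (fun v => bif evw v then allB (fun i => Nat.beq (fw w (fw v (2 ^ i))) (fw v (fw w00 (2 ^ i)))) 7 else false)
  else true

theorem chkOdd_all : S5W.all chkOdd = true := by decide +kernel

/-- `R r w0 (R r)⁻¹` for the elements of square 1 -/
def tabQ (m : ℕ) (e : Bool) : ℕ :=
  match m, e with
  | 12, false => 12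
  | 12, true => 16
  | 13, false => 12
  | 13, true => 16
  | 40, false => 18
  | 40, true => 14
  | 41, false => 18
  | 41, true => 14
  | 86, false => 28
  | 86, true => 0
  | 87, false => 28
  | 87, true => 0
  | 114, false => 2
  | 114, true => 30
  | 115, false => 2
  | _, _ => 30

/-- the word of `el m w e` -/
def elw (m : ℕ) (w : List ℕ) (e : Bool) : List ℕ := rmw m ++ ew w ++ (bif e then bw else [])

theorem hw_elw (m : ℕ) (w : List ℕ) (e : Bool) : hw (elw m w e) = el m w e := by
  rw [elw, hw_append, hw_append]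
  cases e <;> rfl

def chkQ (m : ℕ) : Bool :=
  bif par (rmw m) then true else
    bif eqw (elw m w00 false ++ elw m w00 false) [] then
      [false, true].all (fun e => bif eqw (elw m w00 e ++ rmw (tabQ m e)) (rmw (tabQ m e) ++ elw 87 w00 true) then true
        else eqw (elw m w00 e ++ rmw (tabQ m e)) (rmw (tabQ m e) ++ elw 87 w00 true ++ [0, 0]))
    else true

theorem chkQ_all : allB chkQ 128 = true := by decide +kernel

theorem tabQ_lt (m : ℕ) (e : Bool) : tabQ m e < 128 ∧ par (rmw (tabQ m e)) = false := by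
  unfold tabQ
  split <;> exact ⟨by norm_num, by decide +kernel⟩

theorem el_sq (m : ℕ) {w : List ℕ} (hw1 : w ∈ S5W) (e : Bool) :
    el m w e * el m w e = el m w false * el m w false := by
  have h1 : el m w e = el m w false * sg e := by
    unfold el
    exact (congrArg (· * sg e) (mul_one (R m * E w))).symm
  have h2 : sg e * el m w false = el m w false * sg e := sg_comm (el_b m hw1 false) e
  rw [h1]
  calc el m w false * sg e * (el m w false * sg e) = el m w false * (sg e * el m w false) * sg e := by group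
    _ = el m w false * el m w false * (sg e * sg e) := by rw [h2]; group
    _ = _ := by rw [sg_mul, Bool.xor_self]; exact mul_one _

/-- **the involutions of `Pt - P0t`** -/
theorem exists_conj {h : H0} (hh : h ∈ Pt) (h0 : h ∉ P0t) (h2 : h * h = 1) :
    ∃ g ∈ P0t, g * h * g⁻¹ = w0 ∨ g * h * g⁻¹ = w0 * τ := by
  obtain ⟨m, hm, hp, w, hw1, e, rfl⟩ := exists_of_mem_Pt hh
  have hev : evw w = false := by
    rw [el_mem_P0t hm hp hw1] at h0
    exact Bool.eq_false_iff.2 h0
  have ha : Act (el m w e) (fw w) := Act.el m hw1 e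
  have h1 := List.all_eq_true.1 chkOdd_all w hw1
  unfold chkOdd at h1
  rw [hev, cond_false] at h1
  have h3 : allB (fun i => Nat.beq (fw w (fw w (2 ^ i))) (2 ^ i)) 7 = true := by
    rw [allB_beq]
    intro i hi
    have a1 := ha.mul ha
    rw [h2] at a1
    exact a1.uniq Act.one (two_pow_lt hi)
  rw [h3, cond_true, List.any_eq_true] at h1
  obtain ⟨v, hv1, h4⟩ := h1
  cases hvev : evw v
  · rw [hvev, cond_false] at h4
    exact absurd h4 (by decide)
  rw [hvev, cond_true, allB_beq] at h4
  have hvP : E v ∈ P0t := E_mem_P0t hv1 hvev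
  have hav : Act (E v) (fw v) := Act.E (S5_lt hv1)
  -- the conjugate
  have hx : E v * el m w e * (E v)⁻¹ ∈ Pt := Pt_conj (mem_Pt.1 (P0t_le hvP)).1 hh
  have hx2 : E v * el m w e * (E v)⁻¹ * (E v * el m w e * (E v)⁻¹) = 1 := by
    calc E v * el m w e * (E v)⁻¹ * (E v * el m w e * (E v)⁻¹) = E v * (el m w e * el m w e) * (E v)⁻¹ := by group
      _ = 1 := by rw [h2]; group
  obtain ⟨m', hm', hp', w', hw1', e', hx'⟩ := exists_of_mem_Pt hx
  have ha' : Act (el m' w' e') (fw w') := Act.el m' hw1' e'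
  have hw' : w' = w00 := by
    apply key_inj hw1' w00_mem
    -- `fw w' ∘ ...`
    have h5 : ∀ i < 7, fw v (fw w' (2 ^ i)) = fw v (fw w00 (2 ^ i)) := by
      intro i hi
      rw [← h4 i hi]
      have a1 := ha'.mul hav
      have h6 : el m' w' e' * E v = E v * el m w e := by rw [← hx']; group
      rw [h6] at a1
      exact a1.uniq (hav.mul ha) (two_pow_lt hi)
    apply key_congr
    intro i hi
    -- injectivity of `fw v`
    have hinj : ∀ p < 128, ∀ q < 128, fw v p = fw v q → p = q := by
      intro p hp1 q hq1 hpq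
      obtain ⟨e1, h7⟩ := hav.eq p hp1
      obtain ⟨e2, h8⟩ := hav.eq q hq1
      have h9 : R p * sg e1 * E v = R q * sg e2 * E v := by
        rw [mul_assoc, sg_comm hav.cb, ← mul_assoc, h7, mul_assoc (R q), sg_comm hav.cb, ← mul_assoc (R q), h8, hpq]
        rw [mul_assoc, mul_assoc, mul_assoc, mul_assoc, sg_mul, sg_mul, Bool.xor_self, Bool.xor_self]
      exact (R_inj hp1 hq1 (mul_right_cancel h9)).1
    exact hinj _ (ha'.lt _ (two_pow_lt hi)) _ ((Act.el 0 w00_mem false).lt _ (two_pow_lt hi)) (h5 i hi)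
  subst hw'
  rw [hx'] at hx2
  have h5 := (allB_iff _ _).1 chkQ_all m' hm'
  unfold chkQ at h5
  rw [hp', cond_false] at h5
  have h6 : eqw (elw m' w00 false ++ elw m' w00 false) [] = true := by
    apply eqw_of_hw_eq
    · have : okw (elw m' w00 false) = true := by
        unfold elw
        exact okw_append (okw_append (okw_rmw hm') (by decide)) (by decide)
      exact okw_append this this
    · rfl
    · rw [hw_append, hw_elw, hw_nil, ← el_sq m' w00_mem e', hx2]
  rw [h6, cond_true, List.all_eq_true] at h5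
  have h7 := h5 e' (by cases e' <;> simp)
  obtain ⟨hr1, hr2⟩ := tabQ_lt m' e'
  have hrP : R (tabQ m' e') ∈ P0t := Rt_le (mem_Rt.2 ⟨_, hr1, hr2, false, (mul_one _).symm⟩)
  refine ⟨(R (tabQ m' e'))⁻¹ * E v, P0t.mul_mem (P0t.inv_mem hrP) hvP, ?_⟩
  have h8 : (R (tabQ m' e'))⁻¹ * E v * el m w e * ((R (tabQ m' e'))⁻¹ * E v)⁻¹ =
      (R (tabQ m' e'))⁻¹ * (el m' w00 e' * R (tabQ m' e')) := by
    rw [← hx']; group
  rw [h8]
  cases h9 : eqw (elw m' w00 e' ++ rmw (tabQ m' e')) (rmw (tabQ m' e') ++ elw 87 w00 true)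
  · rw [h9, cond_false] at h7
    right
    have h10 := hw_eq h7
    rw [hw_append, hw_append, hw_append, hw_elw, hw_elw, ← w0_eq, hw_τ] at h10
    change el m' w00 e' * R (tabQ m' e') = R (tabQ m' e') * w0 * τ at h10
    rw [h10]; group
  · left
    have h10 := hw_eq h9
    rw [hw_append, hw_append, hw_elw, hw_elw, ← w0_eq] at h10
    change el m' w00 e' * R (tabQ m' e') = R (tabQ m' e') * w0 at h10
    rw [h10]; group

end Cfsg.Agent.KFacts.HS.Cent
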