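import Cfsg.Agent.KFacts.HS.Final

set_option autoImplicit false

/-!
# Facts on `HS`: two commuting conjugates of `u` with different squares (in `4³`)
-/

namespace Cfsg.Agent.KFacts.HS

open Cfsg.Agent.HN Cfsg.Agent.HN.Pres Cfsg.Agent.HN.HS100 Cfsg.Agent.HN.P1408 Cfsg.Agent.HN.H0Basic
open Cfsg.Agent.SporadicA.PermTab Cfsg.Agent.HN.WMask
open Cfsg.Agent.OddHalf.D8.HS.SheetHS

universe u

namespace Comm

/-- equality modulo `τ` -/
def eqt (u v : List ℕ) : Bool := bif eqw u v then true else eqw u (v ++ [0, 0])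

theorem eqt_spec {u v : List ℕ} (h : eqt u v = true) : hw u = hw v ∨ hw u = hw v * τ := by
  unfold eqt at h
  cases h1 : eqw u v with
  | true => exact Or.inl (hw_eq h1)
  | false =>
    rw [h1] at h
    right
    rw [hw_eq h, hw_append, hw_τ]

/-- the word of the element `j` -/
def jw : List ℕ := [4, 3, 4, 2, 0]
def jwi : List ℕ := [1, 3, 4, 2, 4]

theorem jwi_eq : hw jwi = (hw jw)⁻¹ := by
  rw [eq_inv_iff_mul_eq_one, ← hw_append, ← hw_nil]
  exact hw_eq (by decide +kernel)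

theorem j_mem : hw jw ∈ K := mem_K_of_par (by decide) (by decide)

theorem chk : eqt (jw ++ rmw 28 ++ jwi ++ rmw 28) (rmw 28 ++ (jw ++ rmw 28 ++ jwi)) = true := by decide +kernel

theorem φ_ne : φ (hw jw * b) ≠ φ (b * hw jw) := by
  intro h
  have h1 := congrArg (fun p : Equiv.Perm (Fin 100) => ((p 0 : Fin 100) : ℕ)) h
  change ((φ (hw jw * hw bw) 0 : Fin 100) : ℕ) = ((φ (hw bw * hw jw) 0 : Fin 100) : ℕ) at h1
  rw [← hw_append, ← hw_append, Classes.φ_hw_apply, Classes.φ_hw_apply] at h1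
  exact absurd h1 (by decide +kernel)

end Comm

open Comm

/-- **a conjugate of `u` which commutes with `u` and has another square** -/
theorem Mod.comm {L : Type*} [Group L] (D : Mod L) :
    ∃ j : L, j * D.u * j⁻¹ * D.u = D.u * (j * D.u * j⁻¹) ∧ j * D.z * j⁻¹ ≠ D.z := by
  refine ⟨D.π ⟨hw jw, j_mem⟩, ?_, ?_⟩
  · unfold Mod.u
    rw [D.π_conj, D.π_mul, D.π_mul, D.π_eq]
    have h := eqt_spec chk
    rw [hw_append, hw_append, hw_append, hw_append, hw_append, hw_append, jwi_eq] at h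
    exact h
  · unfold Mod.z
    rw [D.π_conj, Ne, D.π_eq, ← φ_eq_iff]
    intro h
    apply φ_ne
    rw [map_mul, map_mul, map_inv, mul_inv_eq_iff_eq_mul] at h
    rw [map_mul, map_mul]
    exact h

/-- the fact sheet of `HS`, with `comm` -/
theorem exists_sheet' {L : Type u} [Group L] (h : Cfsg.Spor.IsoHS L) :
    ∃ (z v k : L) (P R : Subgroup L), SheetHS z v k P R ∧
      (∃ n : ℕ, (MulAut.conj : L →* MulAut L).range.index = 2 ^ n) ∧
      (∀ N : Subgroup L, R ≤ N → N ≤ P → (∀ p ∈ P, ∀ n ∈ N, p * n * p⁻¹ ∈ N) → N = R ∨ N = P) ∧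
      (∃ c : L, c * (k⁻¹ * z * k * v) * c⁻¹ ∈ P) ∧
      (∀ x : L, x * x = 1 → x ≠ 1 → (∃ c, x = c * z * c⁻¹) ∨ ∃ c, x = c * (k⁻¹ * z * k * v) * c⁻¹) ∧
      ∃ j : L, j * v * j⁻¹ * v = v * (j * v * j⁻¹) ∧ j * z * j⁻¹ ≠ z := by
  obtain ⟨D⟩ := exists_mod h
  exact ⟨D.z, D.u, D.k, D.P, D.R, D.sheet, D.two, D.max, D.k0, D.inv2, D.comm⟩

end Cfsg.Agent.KFacts.HS
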