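import Cfsg.Agent.KFacts.HS.Base
import Cfsg.Agent.HN.CentUp
import Cfsg.Agent.Lib.AltCarmichael
import Cfsg.Agent.Schreier.Tools
import Cfsg.Agent.OddHalf.D8.HS.SheetHS

set_option autoImplicit false

/-!
# Facts on `HS`: the class 2B

`g0 ∈ K`, `g0² = τ`; the involution `s` below `g0` has a centraliser of order at most 2880 in `HS`, which contains
`A₆ × ⟨s⟩`; so the derived series of `C(s)` ends in `A₆`.
-/

namespace Cfsg.Agent.KFacts.HS.TwoB

open Cfsg.Agent.HN Cfsg.Agent.HN.Pres Cfsg.Agent.HN.HS100 Cfsg.Agent.HN.P1408 Cfsg.Agent.HN.H0Basic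
open Cfsg.Agent.SporadicA.PermTab Cfsg.Agent.Lib.AltCarmichael Cfsg.Agent.OddHalf Equiv
open scoped commutatorElement

/-! ### the bound -/

/-- tables for `cG` -/
def cGV : List ℕ := [0xba1482b83f0aa160318300a01002885e0c20b42f84309c1882c85b05e14c1d81d08c0d02404906412c150420a81100d85a0c00b00481f09a0a0070230480d41b04a03411c0e05c09e0ac2b03e05c1140183a02c01c0783707002c0c800078048260310820cc1080d01009c080050020780601504a0e40c0110440101e81704c0080a00a05201809820]
/-- chain for `cG` -/
def cGBS : List (ℕ × ℕ × ℕ × ℕ) := [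
  (3, 40, 0x400000007d0000004000000040000000400000007d0000004000000040000000400000007d000000400000007d000000400000004000000040000000400000007d0000007d0000004000000040000000400000007d000000400000007d0000004000000040000000400000004000000040000000400000007d0000004000000040000000400000007d0000007d000000400000007d0000007d0000004000000040000000400000007d00000040000000400000004000000040000000400000007d000000400000007d00000040000000400000007d000000400000007d0000007d0000007d0000007d00000040000000400000007d0000007d0000004000000040000000400000007d0000004000000040000000400000007d0000007d0000007d0000007d0000007d000000400000007d000000400000007d0000004000000040000000400000007d0000007d0000007d0000007d000000400000007d00000040000000400000007d0000007d0000007d0000004000000040000000400000007d000000400000004000000040, 0x7e20000007d0000007d),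
  (9, 2, 0x40000000430c10007d0000004cc400004000000081bf100040000000400000004000000081bf10007d0000005033d0004cc40000400000004000000040000000430c1000430c10004cc400004000000040000000430c1000400000005033d0007d000000400000004cc400007d000000400000004cc400005033d0004cc40000400000007d0000005033d0005033d0007d000000430c1000430c10004cc40000400000004cc40000430c1000400000004cc40000400000004000000040000000430c100040000000430c10004000000040000000430c100040000000430c1000430c100081bf1000fb89d0007d0000004000000081bf100081bf10007d000000400000007d00000081bf1000400000007d0000004000000081bf1000430c100081bf1000430c10005033d00040000000430c100040000000430c1000400000004cc400004000000081bf1000430c10005033d000430c1000400000005033d0004cc4000040000000430c1000430c10005033d0004cc400004000000040000000ac1c90007d0000007d00000040000, 0x75910a000430c1000430c1),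
  (1, 6, 0x46535f9055662760a897bf21202c239046535f906157af3046535f9046535f9046535f906157af306f75c32115f72ba1202c239046535f9046535f9046535f90556627607a2d52a149905f9046535f9046535f907a2d52a046535f9115f72ba06f75c32046535f9149905f906f75c32046535f9149905f9115f72ba149905f9046535f906f75c32115f72ba115f72ba0a897bf2055662760b9627d61202c239046535f91202c23907a2d52a046535f9149905f9046535f9046535f9046535f907a2d52a046535f905566276046535f9046535f905566276046535f907a2d52a07a2d52a06157af3062e1aa50a897bf2046535f906157af306157af306f75c32046535f90a897bf206157af3046535f90a897bf2046535f906157af307a2d52a06157af305566276115f72ba046535f905566276046535f907a2d52a046535f91202c239046535f906157af305566276115f72ba05566276046535f9115f72ba1202c239046535f90932bf0207a2d52a115f72ba149905f9046535f9046535f92f853c7306f75c320a897bf2046535f9, 0xaea9ce290a897bf21202c239),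
  (40, 2, 0x1000dde923b9231305fbc434152bc05102c53bbe0b7f2f183843d36a3843d36a02c53bbe147579bc2abde6ee0c1523bd29315c2d3843d36a02c53bbe02c53bbe327b977a104f45011bcce34f02c53bbe1000dde9227e75d602c53bbe3217e6242abde6ee0a44ba8e1bcce34f2abde6ee02c53bbe1bcce34f0c1523bd1bcce34f02c53bbe2abde6ee0c1523bd3217e6242d070ba8327b977a2ac29fbf29315c2d02c53bbe152bc051104f450102c53bbe1bcce34f3843d36a1000dde90a44ba8e227e75d602c53bbe23b923131000dde93843d36a23b923131000dde9227e75d6104f45010b7f2f1802df83782d070ba802c53bbe0b7f2f180b7f2f182abde6ee02c53bbe05fbc434147579bc02c53bbe05fbc43402c53bbe147579bc104f45010b7f2f18327b977a3217e6240a44ba8e23b9231302c53bbe104f45013843d36a03072f5b02c53bbe0b7f2f1823b923130c1523bd23b923130a44ba8e0c1523bd29315c2d0a44ba8e382d7669104f45010c1523bd1bcce34f1000dde90a44ba8e064903dc2abde6ee1944a1ee02c53bbe, 0x11e319abc2d070ba8152bc051),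
  (0, 3, 0x2c5d43f305a79a1b0ac0e6c3054020d133a64f5139950c8e1da7b24a28808deb16d9eece10d4b4e70b9715b1057e7ac42c9d769e28808deb33a64f5101c4de7f32a9d72f30c9c49b19559fc616d9eece2c5d43f311d95d9733a64f5121e1a0260b9715b1266282b919559fc60b9715b116d9eece19559fc6057e7ac419559fc6072086990b9715b1057e7ac421e1a026118f96b232a9d72f07d393602c9d769e33a64f511cc4d0f91be44cbe01c4de7f19559fc628808deb2f48ffa4266282b911d95d9716d9eece05a79a1b2f48ffa41da7b24a05a79a1b2f48ffa411d95d9730c9c49b39950c8e382d314f0cf56d0c16d9eece0c82f4c90c82f4c90b9715b1072086990ac0e6c310d4b4e7072086990ac0e6c333a64f5110d4b4e730c9c49b39950c8e32a9d72f21e1a026266282b90c12edde16d9eece1be44cbe1da7b24a13b60ed533a64f510c82f4c90c12edde02c3c3cb0c12edde266282b902c3c3cb2c9d769e266282b933c696bd1be44cbe02c3c3cb19559fc62c5d43f3266282b9105cf3b70b9715b115554ff001c4de7f, 0x29ea4b01b01c4de7f07208699),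
  (2, 2, 0xc49458909fd558d3a31c7d2139a931a14124cf51a08fecb318bc8d411246de713a1e11217d67f2e1c0ee23c14ed48ce372d12310208cbb814124cf51cb514272138e5a02ede5cd139e7386c13a1e1122949cca81af2aa3b14124cf5152e69a31c0ee23c2eb885e52c86c7760e4731da13a1e11239e7386c2e4209be39e7386c39d6f3bd1c0ee23c14ed48ce152e69a3046767c12138e5a02af3973432c73fe414124cf536cc81aa39cf594c1cb5142739e7386c11246de7187c3d292eb885e5219ddbe813a1e11228cc562b187c3d29347b164d09fd558d29c1bb5b1af2aa3b2ede5cd111e657d5153ae91f1d5cbadc13a1e1121cac9df3181c3dc91c0ee23c39d6f3bd1e0f8a641fc2ac3d27b6bd261e0f8a6414124cf517d67f2e37a2cd101a08fecb0261ed96154022b21fb082500272e0e613a1e11226b725c3347b164d203cc6fa14124cf5181c3dc90272e0e607444161198d34ce1fb082500744416132c73fe42eb885e52ec0010926b725c337498b942c86c7762949cca82eb885e50710d3d70e4731da009613ea2ad45773, 0x2e73870d30e4731da2c86c776)]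
/-- last table for `cG` -/
def cGT : ℕ := 0x120680ec0c8a3a7c05833ca709bc9d2b0329c86e1faabe752e56eaec0098cbca0fc1993d21f5135011e64b5b203c200c27ed52572fafce33136529582ce632142acced7e37073c6a199476e01d892dab1269a06d30c11f130329c86e1937f87c11e64b5b375c02ce31db4e5b0af5732d0766891d199476e020497a0804a4a5332a5fa75608623b4825abcdb61937f87c25e1bbbe2acced7e338d376b1b62d699136529582c9d670d31bebbeb2ce6321404a4a5330cffe9c431b0e7381fb14c7236fc844f0766891d37e6be9d24cf2e021b0b11660111f3091dfb8f8d30c11f1334530ff2075d8c192ed9e5782d1bfed91d892dab3b5eaf7835447fb608623b482a5fa7562d0e9d890c94ed650b66479f2d0e9d8912010c4b21f513502e59b6f415c62adb0632d1a927462ffa28d4fa7932f917010fc1993d283637900553fa3614259d6f12010c4b21fd761237ee335b3136857e0cdb310528d4fa79213bb3101b62d6991fb14c721f287acd109cfa4c27613ec119a13cce0695ab2b375c02ce313002630789854f110f0ee82a4ce0d4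
/-- ranks for `cG` -/
def cGR : ℕ := 0x261280d82107014c078450900282b0410b20c0150220180600b02707c05c2d83d08c0e8048080860dc3104b07e1302882b0340802e82e0080701c81f0920480581d0200d81784204a13c0302603c0040a8440041783082c06a1482b85c0480ec118400aa1401400009c0b4190050c00503183c0680440684d0b40cc0704705200c0c8070621502c05f
/-- order for `cG` -/
def cGO : ℕ := 0x22114128130000981e82009a02c2b8010421640d8020bc0882081a05c05c060420881881b85b01012c2e02808e0c02c01c08613c2601003c1281c85f08c0c81180f014054018560620f00b024080154038190a00b01781f03a1503003e0700ac1a03a0c20fc0285209c144148120c60d8070330ba0240685306a168248480080b40a03b00c09c15018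

/-- the word of `g0` -/
def g0w : List ℕ := [3, 0, 3, 1, 4, 0, 2, 1, 2, 4]

/-- an element with square `τ` -/
def g0 : H0 := hw g0w

theorem cG_le : Nat.card (CentUp.cenA [g0w]) ≤ 5760 :=
  CentUp.card_cenA_le (VS := cGV) (bs := cGBS) (T := cGT) (R := cGR) (O := cGO) (by decide +kernel) (by decide +kernel)

theorem g0_sq : g0 * g0 = τ := by
  rw [g0, ← hw_append, ← hw_τ]
  exact hw_eq (by decide +kernel)

theorem g0_mem_K : g0 ∈ K := mem_K_of_par (by decide) (by decide)

theorem z_g0 : gz * g0 = g0 * gz * τ := by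
  rw [g0, ← hw_z, ← hw_τ, ← hw_append, ← hw_append, ← hw_append]
  exact hw_eq (by decide +kernel)

/-! ### the alternating group of degree 6 -/

/-- words for the images of the 3-cycles `(i 4 5)` -/
def vw : ℕ → List ℕ
  | 0 => [0, 2, 0, 2, 0, 2, 0, 2, 3, 0, 3, 3, 1, 3, 0, 2, 0, 2, 0, 2, 0, 2, 2, 0, 2, 2, 1, 2, 2, 0, 2, 2, 1, 2, 0, 2, 0, 2, 0, 2, 0, 2, 2, 0, 2, 2, 1, 2]
  | 1 => [2, 0, 2, 2, 1, 2, 2, 0, 2, 2, 1, 2, 0, 2, 0, 2, 0, 2, 0, 2, 2, 0, 2, 2, 1, 2, 0, 2, 0, 2, 0, 2, 0, 2, 3, 0, 3, 3, 1, 3, 0, 2, 0, 2, 0, 2, 0, 2]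
  | 2 => [0, 2, 0, 2, 0, 2, 0, 2, 3, 0, 3, 3, 1, 3, 3, 0, 3, 3, 1, 3, 0, 2, 0, 2, 0, 2, 0, 2, 2, 0, 2, 2, 1, 2, 2, 0, 2, 2, 1, 2, 0, 2, 0, 2, 0, 2, 0, 2, 3, 0, 3, 3, 1, 3]
  | _ => [3, 0, 3, 3, 1, 3, 3, 0, 3, 3, 1, 3, 0, 2, 0, 2, 0, 2, 0, 2, 2, 0, 2, 2, 1, 2, 2, 0, 2, 2, 1, 2, 0, 2, 0, 2, 0, 2, 0, 2, 2, 0, 2, 2, 1, 2, 0, 2, 0, 2, 0, 2, 0, 2]

theorem chk3 : ∀ i < 4, eqw (vw i ++ vw i ++ vw i) [] = true := by decide +kernel
theorem chk2 : ∀ i < 4, ∀ j < 4, i ≠ j → eqw (vw i ++ vw j ++ (vw i ++ vw j)) [] = true := by decide +kernel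
theorem chkg : ∀ i < 4, eqw (vw i ++ g0w) (g0w ++ vw i) = true := by decide +kernel
theorem chkp : ∀ i < 4, okw (vw i) = true ∧ par (vw i) = false := by decide +kernel
theorem chk1 : eqw (vw 0) [] = false ∧ eqw (vw 0) [0, 0] = false := by decide +kernel

theorem rel : Rel 4 (fun i => hw (vw i)) where
  cube i hi := by
    have h : hw (vw i ++ vw i ++ vw i) = hw [] := hw_eq (chk3 i hi)
    rw [hw_append, hw_append, hw_nil] at h
    rw [pow_succ, pow_two]
    exact h
  sq i hi j hj hij := by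
    have h : hw (vw i ++ vw j ++ (vw i ++ vw j)) = hw [] := hw_eq (chk2 i hi j hj hij)
    rw [hw_append, hw_append, hw_nil] at h
    rw [pow_two]
    exact h

/-- the alternating group of degree 6 -/
abbrev A6 := alternatingGroup (Fin 6)

theorem exists_psi : ∃ ψ : A6 →* H0, ∀ (i : ℕ) (hi : i < 4), ψ ⟨cyc 4 i, cyc_mem 4 i hi⟩ = hw (vw i) :=
  exists_hom (m := 4) (by norm_num) rel

/-- `A₆` in the centraliser of `g0` -/
noncomputable def psi : A6 →* H0 := exists_psi.choose

theorem psi_cyc {i : ℕ} (hi : i < 4) : psi ⟨cyc 4 i, cyc_mem 4 i hi⟩ = hw (vw i) := exists_psi.choose_spec i hi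

theorem top_of_gens {T : Subgroup A6} (h : ∀ (i : ℕ) (hi : i < 4), (⟨cyc 4 i, cyc_mem 4 i hi⟩ : A6) ∈ T) :
    T = ⊤ := by
  rw [eq_top_iff]
  intro s _
  have h1 : (s : Perm (Fin 6)) ∈ gen 4 (cyc 4) := by
    rw [gen_cyc 4 (by norm_num)]
    exact s.2
  have h2 : gen 4 (cyc 4) ≤ T.map (alternatingGroup (Fin 6)).subtype := by
    rw [gen_def, Subgroup.closure_le]
    rintro _ ⟨i, hi, rfl⟩
    exact ⟨⟨cyc 4 i, cyc_mem 4 i hi⟩, h i hi, rfl⟩
  obtain ⟨t, ht, hts⟩ := h2 h1
  have : t = s := Subtype.ext hts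
  rwa [← this]

instance simple_A6 : IsSimpleGroup A6 :=
  alternatingGroup.isSimpleGroup (by rw [Nat.card_eq_fintype_card, Fintype.card_fin]; norm_num)

theorem psi_g0 (s : A6) : psi s * g0 = g0 * psi s := by
  let T : Subgroup A6 := (Subgroup.centralizer {g0}).comap psi
  have hT : T = ⊤ := by
    apply top_of_gens
    intro i hi
    show psi ⟨cyc 4 i, cyc_mem 4 i hi⟩ ∈ Subgroup.centralizer {g0}
    rw [psi_cyc hi, Subgroup.mem_centralizer_singleton_iff]
    have h := hw_eq (chkg i hi)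
    rw [hw_append, hw_append] at h
    exact h
  have hs : s ∈ T := by rw [hT]; exact Subgroup.mem_top _
  exact Subgroup.mem_centralizer_singleton_iff.1 (show psi s ∈ Subgroup.centralizer {g0} from hs)

theorem psi_mem_K (s : A6) : psi s ∈ K := by
  let T : Subgroup A6 := K.comap psi
  have hT : T = ⊤ := by
    apply top_of_gens
    intro i hi
    show psi ⟨cyc 4 i, cyc_mem 4 i hi⟩ ∈ K
    rw [psi_cyc hi]
    exact mem_K_of_par (chkp i hi).1 (chkp i hi).2
  have hs : s ∈ T := by rw [hT]; exact Subgroup.mem_top _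
  exact hs

/-! ### the end of the derived series -/

theorem two_mul_card_le_of {G : Type*} [Group G] {A B : Subgroup G} [Finite B] (h : A ≤ B) {x : G} (hx : x ∈ B)
    (hx' : x ∉ A) : 2 * Nat.card A ≤ Nat.card B := by
  obtain ⟨k, hk⟩ := Subgroup.card_dvd_of_le h
  have h1 : k ≠ 0 := by
    rintro rfl
    have : 0 < Nat.card B := Nat.card_pos
    omega
  have h2 : k ≠ 1 := by
    rintro rfl
    have hA : A = B := Subgroup.eq_of_le_of_card_ge h (by rw [hk, mul_one])
    exact hx' (hA ▸ hx)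
  rw [hk, mul_comm]
  exact Nat.mul_le_mul_left _ (by omega)

theorem dser_eq_map {G : Type*} [Group G] (n : ℕ) (H : Subgroup G) :
    TR.dser n H = (derivedSeries ↥H n).map H.subtype := by
  induction n with
  | zero =>
    rw [derivedSeries_zero, ← MonoidHom.range_eq_map, H.range_subtype]; rfl
  | succ n ih => rw [TR.dser_succ', ih, derivedSeries_succ, Subgroup.map_commutator]

/-- A group of order at most `8 |B|`, `B` not containing the central involution `s`. -/
theorem exists_dser_le {G : Type*} [Group G] (C B : Subgroup G) (s : G) [Finite C] (hs : s ∈ C) (hBC : B ≤ C)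
    (hc : ∀ x ∈ C, x * s = s * x) (hss : s * s = 1) (hsB : s ∉ B) (hcard : Nat.card C ≤ 8 * Nat.card B) :
    ∃ m, TR.dser m C ≤ B := by
  classical
  -- `H = B ∪ B s`
  let H : Subgroup G :=
    { carrier := {x | ∃ y ∈ B, x = y ∨ x = y * s}
      one_mem' := ⟨1, B.one_mem, Or.inl rfl⟩
      mul_mem' := by
        rintro _ _ ⟨y, hy, rfl | rfl⟩ ⟨y', hy', rfl | rfl⟩
        · exact ⟨_, B.mul_mem hy hy', Or.inl rfl⟩
        · exact ⟨_, B.mul_mem hy hy', Or.inr (by group)⟩
        · refine ⟨_, B.mul_mem hy hy', Or.inr ?_⟩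
          rw [mul_assoc, ← hc _ (hBC hy'), mul_assoc]
        · refine ⟨_, B.mul_mem hy hy', Or.inl ?_⟩
          calc y * s * (y' * s) = y * (s * y') * s := by group
            _ = y * y' * (s * s) := by rw [← hc _ (hBC hy')]; group
            _ = _ := by rw [hss, mul_one]
      inv_mem' := by
        rintro _ ⟨y, hy, rfl | rfl⟩
        · exact ⟨_, B.inv_mem hy, Or.inl rfl⟩
        · refine ⟨_, B.inv_mem hy, Or.inr ?_⟩
          have h1 : s⁻¹ = s := by rw [inv_eq_iff_mul_eq_one, hss]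
          rw [mul_inv_rev, h1, hc _ (C.inv_mem (hBC hy))] }
  have hBH : B ≤ H := fun y hy => ⟨y, hy, Or.inl rfl⟩
  have hHC : H ≤ C := by
    rintro _ ⟨y, hy, rfl | rfl⟩
    · exact hBC hy
    · exact C.mul_mem (hBC hy) hs
  have hsH : s ∈ H := ⟨1, B.one_mem, Or.inr (by group)⟩
  have hfH : Finite H := Finite.of_injective _ (Subgroup.inclusion_injective hHC)
  have hH2 : 2 * Nat.card B ≤ Nat.card H := two_mul_card_le_of hBH hsH hsB
  -- index at most 4
  let HC : Subgroup C := H.subgroupOf C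
  have hidx : Nat.card (C ⧸ HC) ≤ 4 := by
    have h1 : Nat.card HC * HC.index = Nat.card C := HC.card_mul_index
    have h2 : Nat.card HC = Nat.card H := Nat.card_congr (Subgroup.subgroupOfEquivOfLe hHC).toEquiv
    have h3 : 0 < Nat.card B := by
      have : Finite B := Finite.of_injective _ (Subgroup.inclusion_injective hBC)
      exact Nat.card_pos
    change HC.index ≤ 4
    by_contra h4
    have h5 : 5 ≤ HC.index := by omega
    have h6 : Nat.card HC * 5 ≤ Nat.card HC * HC.index := Nat.mul_le_mul_left _ h5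
    omega
  have hsol : Group.IsSolvable (Perm (C ⧸ HC)) := Schreier.Tools.isSolvable_perm_of_card_le_four _ hidx
  obtain ⟨n, hn⟩ := hsol.solvable
  have h1 : derivedSeries C n ≤ HC := by
    have h2 : (derivedSeries C n).map (MulAction.toPermHom C (C ⧸ HC)) ≤ derivedSeries _ n :=
      map_derivedSeries_le_derivedSeries _ n
    rw [hn] at h2
    intro x hx
    have h3 : MulAction.toPermHom C (C ⧸ HC) x = 1 := h2 ⟨x, hx, rfl⟩
    have h4 : x ∈ (MulAction.toPermHom C (C ⧸ HC)).ker := h3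
    rw [← Subgroup.normalCore_eq_ker] at h4
    exact HC.normalCore_le h4
  refine ⟨n + 1, ?_⟩
  rw [TR.dser_succ', dser_eq_map]
  have h2 : (derivedSeries C n).map C.subtype ≤ H := by
    rintro _ ⟨x, hx, rfl⟩
    exact h1 hx
  refine (Subgroup.commutator_mono h2 h2).trans ?_
  rw [Subgroup.commutator_le]
  have h1' : s⁻¹ = s := by rw [inv_eq_iff_mul_eq_one, hss]
  have key : ∀ x ∈ H, ∃ y ∈ B, ∀ g ∈ C, x * g * x⁻¹ = y * g * y⁻¹ := by
    rintro x ⟨y, hy, h | h⟩
    · exact ⟨y, hy, fun _ _ => by rw [h]⟩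
    · refine ⟨y, hy, fun g hg => ?_⟩
      rw [h]
      calc y * s * g * (y * s)⁻¹ = y * (s * g) * s⁻¹ * y⁻¹ := by group
        _ = y * g * y⁻¹ := by rw [← hc g hg, h1']; rw [show y * (g * s) * s * y⁻¹ = y * g * (s * s) * y⁻¹ by group, hss]; group
  intro x hx x' hx'
  obtain ⟨y, hy, hxy⟩ := key x hx
  obtain ⟨y', hy', hxy'⟩ := key x' hx'
  have e1 : ⁅x, x'⁆ = ⁅y, y'⁆ := by
    rw [commutatorElement_def, commutatorElement_def, hxy _ (hHC hx')]
    have e2 : x' * y⁻¹ * x'⁻¹ = y' * y⁻¹ * y'⁻¹ := hxy' _ (C.inv_mem (hBC hy))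
    calc y * x' * y⁻¹ * x'⁻¹ = y * (x' * y⁻¹ * x'⁻¹) := by group
      _ = _ := by rw [e2]; group
  rw [e1, commutatorElement_def]
  exact B.mul_mem (B.mul_mem (B.mul_mem hy hy') (B.inv_mem hy)) (B.inv_mem hy')

end Cfsg.Agent.KFacts.HS.TwoB
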