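import Cfsg.Agent.KFacts.HS.Cent5
import Cfsg.Agent.KFacts.HS.TwoB
import Cfsg.Agent.HN.CentUp2
import Cfsg.Agent.OddHalf.D4.Spor.Sheet

set_option autoImplicit false

/-!
# The facts on `HS` for D4 (helper937)

`L` is isomorphic to `HS` (`D : Mod L`), `zA` is of class 2A, `wB` of class 2B, `LA ≅ A6` in `C(wB) = ⟨wB⟩ × Aut(A6)`.
* `inv_cases`: two classes of involutions;
* `cen`: `zA` is 2-central;
* `odd_A`, `odd_B`: `O(C(zA)) = 1`, `O(C(wB)) = 1`;
* `sylAut`, `z1`;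
* `not_bad`, `out2`.
-/

namespace Cfsg.Agent.KFacts.HS.DFour

open Cfsg.Agent.HN Cfsg.Agent.HN.Pres Cfsg.Agent.HN.HS100 Cfsg.Agent.HN.P1408 Cfsg.Agent.HN.H0Basic
open Cfsg.Agent.HN.CentUp2 (centralizer_A6 zc a1 a2 wu)
open Cfsg.Agent.KFacts.HS.TwoB (g0 g0w vw psi psi_cyc psi_g0 psi_mem_K g0_sq g0_mem_K A6 cG_le)
open Cfsg.Agent.KFacts.HS.Cent (Rt Rt_conj fixR)
open Cfsg.Agent.HN.WMask (b b_sq b_eq sg R)
open Cfsg.Agent.Lib.AltCarmichael Equiv
open Cfsg.Agent.OddHalf.D4.Spor (Cen Inn Bad)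

/-! ### `H0` -/

/-- the element `a` of the class 2A -/
abbrev aa : H0 := Syl.a

theorem aa_mem_K : aa ∈ K := by
  change Syl.a ∈ K
  rw [← Syl.hw_a]
  exact mem_K_of_par (by decide) (by decide)

theorem mul_mem_K {g h : H0} (hg : g ∉ K) (hh : h ∉ K) : g * h ∈ K := by
  rw [mem_K_iff] at hg hh ⊢
  rw [map_mul]
  rcases Int.units_eq_one_or (sgn g) with h1 | h1
  · exact absurd h1 hg
  rcases Int.units_eq_one_or (sgn h) with h2 | h2
  · exact absurd h2 hh
  rw [h1, h2]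
  decide

/-- an odd element commuting with `a` -/
def oA : H0 := hw [0, 2, 4, 3, 0]

theorem oA_not : oA ∉ K := not_mem_K_of_par (by decide) (by decide)

theorem oA_comm : oA * aa = aa * oA := by
  rw [oA, aa, ← Syl.hw_a, ← hw_append, ← hw_append]
  exact hw_eq (by decide +kernel)

theorem gz_not : gz ∉ K := Classes.gz_notMem_K

theorem gz_g0 : φ (gz * g0) = φ (g0 * gz) := by
  rw [TwoB.z_g0, map_mul, φ_τ, mul_one]

/-- an element commuting with the images of the generators of `A6` commutes with `a1` and `a2` -/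
theorem cent_A6 {h : H0} (hc : ∀ i < 4, h * hw (vw i) = hw (vw i) * h) :
    h = 1 ∨ h = τ ∨ h = gz ∨ h = τ * gz ∨ h = zc ∨ h = τ * zc ∨ h = zc * gz ∨ h = gz * zc := by
  have e1 : a1 = hw (vw 2) * (hw (vw 1) * (hw (vw 3) * hw (vw 2))) := by
    rw [a1, ← hw_append, ← hw_append, ← hw_append]
    exact hw_eq (by decide +kernel)
  have e2 : a2 = hw (vw 0) * (hw (vw 0) * (hw (vw 2) * (hw (vw 1) * hw (vw 0)))) := by
    rw [a2, ← hw_append, ← hw_append, ← hw_append, ← hw_append]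
    exact hw_eq (by decide +kernel)
  have c0 : Commute h (hw (vw 0)) := hc 0 (by norm_num)
  have c1 : Commute h (hw (vw 1)) := hc 1 (by norm_num)
  have c2 : Commute h (hw (vw 2)) := hc 2 (by norm_num)
  have c3 : Commute h (hw (vw 3)) := hc 3 (by norm_num)
  apply centralizer_A6
  · rw [e1]
    exact (c2.mul_right (c1.mul_right (c3.mul_right c2))).eq
  · rw [e2]
    exact (c0.mul_right (c0.mul_right (c2.mul_right (c1.mul_right c0)))).eq

/-- the same modulo `τ` -/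
theorem cent_A6_mod {h : H0} (hc : ∀ i < 4, φ (h * hw (vw i)) = φ (hw (vw i) * h)) :
    h = 1 ∨ h = τ ∨ h = gz ∨ h = τ * gz ∨ h = zc ∨ h = τ * zc ∨ h = zc * gz ∨ h = gz * zc := by
  apply cent_A6
  intro i hi
  rcases φ_eq_iff.1 (hc i hi) with h1 | h1
  · exact h1
  · exfalso
    have h3 : hw (vw i) ^ 3 = 1 := TwoB.rel.cube i hi
    have h4 : h * hw (vw i) * h⁻¹ = hw (vw i) * τ := by
      rw [h1, mul_assoc (hw (vw i)) h τ, τ_comm h, ← mul_assoc, mul_inv_cancel_right]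
    have h5 : (h * hw (vw i) * h⁻¹) ^ 3 = 1 := by
      rw [conj_pow, h3, mul_one, mul_inv_cancel]
    have hcm : Commute (hw (vw i)) τ := τ_comm _
    rw [h4, hcm.mul_pow, h3, one_mul, pow_succ, τ_sq, one_mul] at h5
    exact τ_ne_one h5

theorem zcgz : zc * gz = g0 := by
  rw [zc, ← hw_z, ← hw_append]
  rfl

theorem gzzc : φ (gz * zc) = φ g0 := by
  rw [← zcgz, map_mul, map_mul]
  have h1 : φ (gz * zc) = φ (zc * gz) := by
    rw [φ_eq_iff, zc, ← hw_z, ← hw_τ, ← hw_append, ← hw_append, ← hw_append]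
    right
    exact hw_eq (by decide +kernel)
  rw [← map_mul, h1, map_mul]

theorem zc_not : zc ∉ K := not_mem_K_of_par (by decide) (by decide)

/-- elements of `K` centralising `A6` modulo `τ` -/
theorem cent_A6_even {h : H0} (hK : h ∈ K) (hc : ∀ i < 4, φ (h * hw (vw i)) = φ (hw (vw i) * h)) :
    φ h = 1 ∨ φ h = φ g0 := by
  rcases cent_A6_mod hc with rfl | rfl | rfl | rfl | rfl | rfl | rfl | rfl
  · exact Or.inl (map_one φ)
  · exact Or.inl φ_τ
  · exact absurd hK gz_not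
  · exact absurd ((K.mul_mem_cancel_left τ_mem_K).1 hK) gz_not
  · exact absurd hK zc_not
  · exact absurd ((K.mul_mem_cancel_left τ_mem_K).1 hK) zc_not
  · right; rw [zcgz]
  · right; exact gzzc

/-- odd elements centralising `A6` modulo `τ` -/
theorem cent_A6_odd {h : H0} (hK : h ∉ K) (hc : ∀ i < 4, φ (h * hw (vw i)) = φ (hw (vw i) * h)) :
    φ h = φ gz ∨ φ h = φ zc := by
  rcases cent_A6_mod hc with rfl | rfl | rfl | rfl | rfl | rfl | rfl | rfl
  · exact absurd K.one_mem hK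
  · exact absurd τ_mem_K hK
  · exact Or.inl rfl
  · left; rw [map_mul, φ_τ, one_mul]
  · exact Or.inr rfl
  · right; rw [map_mul, φ_τ, one_mul]
  · exact absurd (mul_mem_K zc_not gz_not) hK
  · exact absurd (mul_mem_K gz_not zc_not) hK

/-- the words of the elements moving `g0` to a commuting element -/
def xw : Bool → List ℕ
  | false => [2, 4, 3, 4, 2]
  | true => [2, 0, 4, 2, 0, 4, 2]

/-- the words of the two outer elements -/
def ow : Bool → List ℕ
  | false => [4]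
  | true => wu

theorem xw_K (e : Bool) : hw (xw e) ∈ K := by
  cases e <;> exact mem_K_of_par (by decide) (by decide)

/-- equality modulo `τ` -/
def eqt (u v : List ℕ) : Bool := eqw u v || eqw u (v ++ [0, 0])

theorem eqt_spec {u v : List ℕ} (h : eqt u v = true) : φ (hw u) = φ (hw v) := by
  rw [φ_eq_iff]
  unfold eqt at h
  rw [Bool.or_eq_true] at h
  rcases h with h | h
  · exact Or.inl (hw_eq h)
  · right
    have := hw_eq h
    rwa [hw_append, hw_τ] at this

theorem xw_comm (e : Bool) : φ (hw (ow e) * hw (xw e)) = φ (hw (xw e) * hw (ow e)) := by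
  rw [← hw_append, ← hw_append]
  cases e <;> exact eqt_spec (by decide +kernel)

/-- the word of `x g0 x⁻¹` -/
def gx0 (e : Bool) : List ℕ := xw e ++ (g0w ++ iw (xw e))

theorem hw_gx0 (e : Bool) : hw (gx0 e) = hw (xw e) * g0 * (hw (xw e))⁻¹ := by
  rw [gx0, hw_append, hw_append, hw_iw, g0, mul_assoc]

theorem gx0_comm (e : Bool) : φ (hw (gx0 e) * g0) = φ (g0 * hw (gx0 e)) := by
  rw [g0, ← hw_append, ← hw_append]
  cases e <;> exact eqt_spec (by decide +kernel)

theorem gx0_ne (e : Bool) : φ (hw (gx0 e)) ≠ φ g0 := by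
  intro h
  rw [φ_eq_iff, g0, ← hw_τ, ← hw_append] at h
  cases e
  · rcases h with h | h
    · exact absurd (eqw_of_hw_eq (by decide) (by decide) h) (by decide +kernel)
    · exact absurd (eqw_of_hw_eq (by decide) (by decide) h) (by decide +kernel)
  · rcases h with h | h
    · exact absurd (eqw_of_hw_eq (by decide) (by decide) h) (by decide +kernel)
    · exact absurd (eqw_of_hw_eq (by decide) (by decide) h) (by decide +kernel)

/-! ### the group `L` -/

section

variable {L : Type*} [Group L] (D : Mod L)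

theorem pi_eq (k l : K) : D.π k = D.π l ↔ φ (k : H0) = φ (l : H0) := by
  rw [D.eq_iff, φ_eq_iff]

/-- the involution of class 2A -/
def zA : L := D.π ⟨aa, aa_mem_K⟩

/-- the involution of class 2B -/
def wB : L := D.π ⟨g0, g0_mem_K⟩

theorem zA_sq : zA D * zA D = 1 := by
  rw [zA, ← map_mul, D.ker]
  exact Or.inl Syl.a_sq

theorem wB_sq : wB D * wB D = 1 := by
  rw [wB, ← map_mul, D.ker]
  exact Or.inr g0_sq

theorem zA_ne : zA D ≠ 1 := by
  intro h
  rcases (D.ker _).1 h with h1 | h1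
  · exact Classes.a_ne_one h1
  · exact Classes.a_ne_τ h1

theorem wB_ne : wB D ≠ 1 := by
  intro h
  have h2 := g0_sq
  rcases (D.ker _).1 h with h1 | h1
  · change g0 = 1 at h1
    rw [h1, one_mul] at h2
    exact τ_ne_one h2.symm
  · change g0 = τ at h1
    rw [h1, τ_mul_τ] at h2
    exact τ_ne_one h2.symm

theorem conj_aux {g o : H0} (hg : g ∈ K) (ho : o ∉ K) (hog : φ (o * g) = φ (g * o)) {k : K}
    (h : IsConj g (k : H0)) : ∃ x : L, x * D.π ⟨g, hg⟩ * x⁻¹ = D.π k := by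
  obtain ⟨c, hc⟩ := isConj_iff.1 h
  by_cases hcK : c ∈ K
  · refine ⟨D.π ⟨c, hcK⟩, ?_⟩
    rw [← map_inv, ← map_mul, ← map_mul, pi_eq]
    exact congrArg φ hc
  · refine ⟨D.π ⟨c * o, mul_mem_K hcK ho⟩, ?_⟩
    rw [← map_inv, ← map_mul, ← map_mul, pi_eq]
    change φ (c * o * g * (c * o)⁻¹) = φ k
    rw [← hc]
    have h1 : φ o * φ g = φ g * φ o := by rw [← map_mul, hog, map_mul]
    simp only [map_mul, map_inv, mul_inv_rev]
    calc φ c * φ o * φ g * ((φ o)⁻¹ * (φ c)⁻¹) = φ c * (φ o * φ g) * (φ o)⁻¹ * (φ c)⁻¹ := by group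
      _ = _ := by rw [h1]; group

/-- **the involutions of `L`** -/
theorem inv_cases (x : L) (hx : x * x = 1) (h1 : x ≠ 1) :
    (∃ c, c * zA D * c⁻¹ = x) ∨ (∃ c, c * wB D * c⁻¹ = x) := by
  obtain ⟨k, rfl⟩ := D.surj x
  have h3 := (D.ker (k * k)).1 (by rw [map_mul, hx])
  have h4 : (k : H0) ^ 2 = 1 ∨ (k : H0) ^ 2 = τ := by rw [pow_two]; exact h3
  rcases Syl.sq_cases h4 with h | h | h | h | h | h | h
  · exact absurd ((D.ker k).2 (Or.inl h)) h1
  · exact absurd ((D.ker k).2 (Or.inr h)) h1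
  · exact Or.inl (conj_aux D aa_mem_K oA_not (by rw [oA_comm]) h)
  · left
    have h5 := conj_aux D (g := aa * τ) (K.mul_mem aa_mem_K τ_mem_K) oA_not
      (by rw [← mul_assoc, oA_comm, map_mul, map_mul φ (aa * τ), map_mul φ aa τ, map_mul φ aa, φ_τ, mul_one, mul_one])
      h
    have e : D.π ⟨aa * τ, K.mul_mem aa_mem_K τ_mem_K⟩ = zA D := by
      rw [zA, pi_eq]
      change φ (aa * τ) = φ aa
      rw [map_mul, φ_τ, mul_one]
    rwa [e] at h5
  · right
    have h5 : IsConj g0 (k : H0) := (Syl.isConj_of_sq_eq_τ (by rw [pow_two, g0_sq])).symm.trans h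
    exact conj_aux D g0_mem_K gz_not gz_g0 h5
  · exact absurd ((Classes.mem_K_of_isConj h).2 k.2) gz_not
  · exact absurd ((Classes.mem_K_of_isConj h).2 k.2) Classes.d_notMem_K

theorem surj' (x : L) : ∃ (k : H0) (hk : k ∈ K), x = D.π ⟨k, hk⟩ := by
  obtain ⟨k, rfl⟩ := D.surj x
  exact ⟨k, k.2, rfl⟩

include D in
theorem fin : Finite L := by
  have := finite_H0
  exact Finite.of_surjective _ D.surj

/-! ### the class 2A -/

/-- `zA` is 2-central -/
theorem cen : Cen (zA D) := by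
  have := finite_H0
  have := fin D
  have hp2 : Fact (Nat.Prime 2) := ⟨Nat.prime_two⟩
  have hle : K ⊓ Syl.S ≤ K := inf_le_left
  let f : ↥(K ⊓ Syl.S) →* L := D.π.comp (Subgroup.inclusion hle)
  have hidx : K.index ≤ 2 := by
    have h1 : K.index = Nat.card sgn.range := Subgroup.index_ker sgn
    rw [h1]
    refine (Subgroup.card_le_card_group _).trans ?_
    rw [Nat.card_eq_fintype_card]
    exact le_of_eq (by decide)
  have hK0 : K.index ≠ 0 := Subgroup.index_ne_zero_of_finite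
  have h10 : 2 ^ 10 ≤ Nat.card ↥(K ⊓ Syl.S) := by
    have h1 : Nat.card (K.subgroupOf Syl.S) * (K.subgroupOf Syl.S).index = Nat.card Syl.S :=
      (K.subgroupOf Syl.S).card_mul_index
    have h2 : (K.subgroupOf Syl.S).index ∣ K.index := Subgroup.relIndex_dvd_index_of_normal K Syl.S
    have h3 : (K.subgroupOf Syl.S).index ≤ 2 := (Nat.le_of_dvd (Nat.pos_of_ne_zero hK0) h2).trans hidx
    have h4 : Nat.card (K.subgroupOf Syl.S) = Nat.card ↥(K ⊓ Syl.S) := by
      rw [← Subgroup.inf_subgroupOf_right]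
      exact Nat.card_congr (Subgroup.subgroupOfEquivOfLe inf_le_right).toEquiv
    rw [Syl.card_S, h4] at h1
    by_contra h5
    have h6 : Nat.card ↥(K ⊓ Syl.S) * (K.subgroupOf Syl.S).index ≤ Nat.card ↥(K ⊓ Syl.S) * 2 :=
      Nat.mul_le_mul_left _ h3
    rw [h1] at h6
    omega
  have hker : Nat.card f.ker ≤ 2 := by
    have h1 : ∀ x : f.ker, (((x : ↥(K ⊓ Syl.S)) : H0)) ∈ ({1, τ} : Set H0) := by
      intro x
      have h2 : D.π (Subgroup.inclusion hle x) = 1 := x.2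
      exact (D.ker _).1 h2
    have h3 : Nat.card f.ker ≤ Nat.card ({1, τ} : Set H0) :=
      Nat.card_le_card_of_injective (fun x => (⟨_, h1 x⟩ : ({1, τ} : Set H0))) (by
        intro x y hxy
        apply Subtype.ext
        apply Subtype.ext
        exact Subtype.mk.inj hxy)
    refine h3.trans ?_
    rw [Nat.card_coe_set_eq]
    exact (Set.ncard_insert_le _ _).trans (by rw [Set.ncard_singleton])
  have hran : 2 ^ 9 ≤ Nat.card f.range := by
    have h1 := Subgroup.card_eq_card_quotient_mul_card_subgroup f.ker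
    rw [Nat.card_congr (QuotientGroup.quotientKerEquivRange f).toEquiv] at h1
    by_contra h2
    have h3 : Nat.card f.range * Nat.card f.ker ≤ Nat.card f.range * 2 := Nat.mul_le_mul_left _ hker
    rw [← h1] at h3
    omega
  have hpS : IsPGroup 2 Syl.S := IsPGroup.of_card Syl.card_S
  have hpr : IsPGroup 2 f.range := (hpS.to_le (inf_le_right : K ⊓ Syl.S ≤ Syl.S)).of_surjective f.rangeRestrict
    f.rangeRestrict_surjective
  obtain ⟨Q, hQ⟩ := hpr.exists_le_sylow
  have hcQ : Nat.card Q ≤ 2 ^ 9 := by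
    obtain ⟨n, hn⟩ := IsPGroup.iff_card.mp Q.isPGroup'
    have h1 : Nat.card Q ∣ Nat.card L := Subgroup.card_subgroup_dvd_card _
    rw [D.card, hn] at h1
    have h2 : n ≤ 9 := by
      by_contra h3
      have h4 : 2 ^ 10 ∣ 44352000 := (pow_dvd_pow 2 (by omega)).trans h1
      norm_num at h4
    rw [hn]
    exact Nat.pow_le_pow_right (by norm_num) h2
  have hQe : f.range = (Q : Subgroup L) := Subgroup.eq_of_le_of_card_ge hQ (hcQ.trans hran)
  refine ⟨Q, fun s hs => ?_⟩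
  have hs' : s ∈ f.range := by rw [hQe]; exact hs
  obtain ⟨x, rfl⟩ := hs'
  change D.π (Subgroup.inclusion hle x) * D.π ⟨aa, aa_mem_K⟩ = D.π ⟨aa, aa_mem_K⟩ * D.π (Subgroup.inclusion hle x)
  rw [← map_mul, ← map_mul]
  congr 1
  apply Subtype.ext
  exact Syl.a_comm x.2.2

/-- commuting with `a` modulo `τ` -/
theorem comm_b {h : H0} (hb : φ (h * aa) = φ (aa * h)) : h * b = b * h := by
  have h1 : h * aa = aa * h := by
    rcases φ_eq_iff.1 hb with h1 | h1
    · exact h1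
    · exfalso
      apply Classes.not_isConj_a_aτ
      rw [isConj_iff]
      refine ⟨h, ?_⟩
      rw [h1, mul_assoc aa h τ, τ_comm h, ← mul_assoc, mul_inv_cancel_right]
  rw [b_eq, ← mul_assoc, h1, mul_assoc, τ_comm h, mul_assoc]

theorem φ_b : φ b = φ aa := by rw [b_eq, map_mul, φ_τ, mul_one]

theorem φ_sg (e : Bool) : φ (sg e) = 1 ∨ φ (sg e) = φ aa := by
  cases e
  · exact Or.inl (map_one φ)
  · exact Or.inr φ_b

/-- elements trivial on `R` -/
theorem fix_R {h : H0} (hb : φ (h * aa) = φ (aa * h)) (hr : ∀ r ∈ Rt, φ (h * r) = φ (r * h)) :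
    h ∈ K ∧ (φ h = 1 ∨ φ h = φ aa ∨ φ (h * h) = φ aa) := by
  have h1 : ∀ r ∈ Rt, h * r * h⁻¹ = r ∨ h * r * h⁻¹ = r * τ := by
    intro r hr'
    rcases φ_eq_iff.1 (hr r hr') with h2 | h2
    · left; rw [h2, mul_inv_cancel_right]
    · right; rw [h2, mul_assoc r h τ, τ_comm h, ← mul_assoc, mul_inv_cancel_right]
  obtain ⟨e, he⟩ := fixR (comm_b hb) h1
  have hUs : ∀ e, φ ((Cent.U * sg e) * (Cent.U * sg e)) = φ aa := by
    intro e
    have h2 : (Cent.U * sg e) * (Cent.U * sg e) = b * (sg e * sg e) := by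
      have h3 : sg e * Cent.U = Cent.U * sg e := by
        cases e
        · exact (one_mul _).trans (mul_one _).symm
        · exact Cent.U_b
      calc (Cent.U * sg e) * (Cent.U * sg e) = Cent.U * (sg e * Cent.U) * sg e := by group
        _ = Cent.U * Cent.U * (sg e * sg e) := by rw [h3]; group
        _ = _ := by rw [Cent.U_sq]
    rw [h2, WMask.sg_mul, Bool.xor_self]
    change φ (b * 1) = φ aa
    rw [mul_one, φ_b]
  rcases he with rfl | rfl | rfl | rfl
  · refine ⟨Cent.sg_mem_K e, ?_⟩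
    rcases φ_sg e with h2 | h2
    · exact Or.inl h2
    · exact Or.inr (Or.inl h2)
  · refine ⟨K.mul_mem τ_mem_K (Cent.sg_mem_K e), ?_⟩
    rw [map_mul, φ_τ, one_mul]
    rcases φ_sg e with h2 | h2
    · exact Or.inl h2
    · exact Or.inr (Or.inl h2)
  · exact ⟨K.mul_mem Cent.U_mem_K (Cent.sg_mem_K e), Or.inr (Or.inr (hUs e))⟩
  · refine ⟨K.mul_mem (K.mul_mem Cent.U_mem_K τ_mem_K) (Cent.sg_mem_K e), Or.inr (Or.inr ?_)⟩
    have h2 := hUs e
    simp only [map_mul, φ_τ, mul_one] at h2 ⊢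
    exact h2

theorem Rt_le_K : Rt ≤ K := inf_le_right

/-- the image of `R` -/
def RL : Subgroup L := (Rt.subgroupOf K).map D.π

theorem mem_RL {x : L} : x ∈ RL D ↔ ∃ (r : H0) (hr : r ∈ Rt), x = D.π ⟨r, Rt_le_K hr⟩ := by
  constructor
  · rintro ⟨⟨r, hrK⟩, hr, rfl⟩
    exact ⟨r, hr, rfl⟩
  · rintro ⟨r, hr, rfl⟩
    exact ⟨⟨r, Rt_le_K hr⟩, hr, rfl⟩

theorem Rt_pow {r : H0} (hr : r ∈ Rt) : r ^ 4 = 1 := by
  obtain ⟨m, hm, _, e, rfl⟩ := Cent.mem_Rt.1 hr
  obtain ⟨e', he'⟩ := WMask.R_sq m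
  have h1 : (R m * sg e) * (R m * sg e) = sg e' := by
    calc (R m * sg e) * (R m * sg e) = R m * (sg e * R m) * sg e := by group
      _ = (R m * R m) * (sg e * sg e) := by rw [WMask.R_sg]; group
      _ = _ := by
        rw [he', WMask.sg_mul, Bool.xor_self]
        exact mul_one _
  have h2 : sg e' * sg e' = 1 := by
    rw [WMask.sg_mul, Bool.xor_self]
    rfl
  calc (R m * sg e) ^ 4 = ((R m * sg e) * (R m * sg e)) * ((R m * sg e) * (R m * sg e)) := by
        rw [pow_succ, pow_succ, pow_two]; group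
    _ = 1 := by rw [h1, h2]

theorem RL_pow {x : L} (hx : x ∈ RL D) : x ^ 4 = 1 := by
  obtain ⟨r, hr, rfl⟩ := (mem_RL D).1 hx
  rw [← map_pow, D.ker]
  exact Or.inl (Rt_pow hr)

theorem RL_pGroup : IsPGroup 2 (RL D) := by
  intro x
  exact ⟨2, Subtype.ext (RL_pow D x.2)⟩

theorem zA_mem_RL : zA D ∈ RL D := by
  rw [mem_RL]
  refine ⟨b, Cent.b_mem_Rt, ?_⟩
  rw [zA, pi_eq]
  exact φ_b.symm

/-- commuting with `zA` -/
theorem comm_zA {k : K} (h : D.π k * zA D = zA D * D.π k) : φ ((k : H0) * aa) = φ (aa * k) := by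
  rw [zA, ← map_mul, ← map_mul, pi_eq] at h
  exact h

theorem RL_norm {c : L} (hc : c * zA D = zA D * c) {x : L} (hx : x ∈ RL D) : c * x * c⁻¹ ∈ RL D := by
  obtain ⟨r, hr, rfl⟩ := (mem_RL D).1 hx
  obtain ⟨k, rfl⟩ := D.surj c
  have h1 := comm_b (comm_zA D hc)
  rw [mem_RL]
  refine ⟨k * r * (k : H0)⁻¹, Rt_conj h1 hr, ?_⟩
  rw [← map_inv, ← map_mul, ← map_mul]
  rfl

/-- elements commuting with `zA` and `RL` -/
theorem cent_RL {x : L} (hz : x * zA D = zA D * x) (h : ∀ r ∈ RL D, x * r = r * x) :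
    x = 1 ∨ x = zA D ∨ x * x = zA D := by
  obtain ⟨k, rfl⟩ := D.surj x
  have h1 : ∀ r ∈ Rt, φ ((k : H0) * r) = φ (r * k) := by
    intro r hr
    have h2 := h (D.π ⟨r, Rt_le_K hr⟩) ((mem_RL D).2 ⟨r, hr, rfl⟩)
    rw [← map_mul, ← map_mul, pi_eq] at h2
    exact h2
  rcases (fix_R (comm_zA D hz) h1).2 with h2 | h2 | h2
  · left
    rw [← map_one D.π, pi_eq]
    exact h2
  · right; left
    rw [zA, pi_eq]
    exact h2
  · right; right
    rw [zA, ← map_mul, pi_eq]
    exact h2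

theorem odd_pow {G : Type*} [Group G] [Finite G] {I : Subgroup G} (hodd : Odd (Nat.card I)) {x : G} (hx : x ∈ I)
    {n : ℕ} (h4 : x ^ 2 ^ n = 1) : x = 1 := by
  have h1 : orderOf x ∣ Nat.card I := Subgroup.orderOf_dvd_natCard I hx
  have h2 : orderOf x ∣ 2 ^ n := orderOf_dvd_of_pow_eq_one h4
  have h3 : (Nat.card I).Coprime (2 ^ n) := (Nat.Coprime.pow_right n hodd.coprime_two_right)
  rw [← orderOf_eq_one_iff]
  exact Nat.eq_one_of_dvd_coprimes h3 h1 h2

/-- `O(C(zA)) = 1` -/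
theorem odd_A (I : Subgroup L) (hI : ∀ i ∈ I, i * zA D = zA D * i)
    (hn : ∀ c : L, c * zA D = zA D * c → ∀ i ∈ I, c * i * c⁻¹ ∈ I) (hodd : Odd (Nat.card I)) : I = ⊥ := by
  have := fin D
  rw [eq_bot_iff]
  intro i hi
  have hiz := hI i hi
  have h1 : ∀ r ∈ RL D, i * r = r * i := by
    intro r hr
    have hrz : r * zA D = zA D * r := by
      obtain ⟨r', hr', rfl⟩ := (mem_RL D).1 hr
      rw [zA, ← map_mul, ← map_mul, pi_eq]
      change φ (r' * aa) = φ (aa * r')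
      have h2 : r' * b = b * r' := by
        obtain ⟨m, hm, _, e, rfl⟩ := Cent.mem_Rt.1 hr'
        have h3 : sg e * b = b * sg e := by
          cases e
          · exact (one_mul _).trans (mul_one _).symm
          · rfl
        rw [mul_assoc, h3, ← mul_assoc, ← WMask.R_b, mul_assoc]
      have h3 : φ (r' * b) = φ (b * r') := by rw [h2]
      rw [map_mul, map_mul, φ_b] at h3
      rw [map_mul, map_mul, h3]
    have h2 : i * r * i⁻¹ * r⁻¹ ∈ I := by
      have h3 := hn r hrz i⁻¹ (I.inv_mem hi)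
      have h4 : i * r * i⁻¹ * r⁻¹ = i * (r * i⁻¹ * r⁻¹) := by group
      rw [h4]
      exact I.mul_mem hi h3
    have h3 : i * r * i⁻¹ * r⁻¹ ∈ RL D := (RL D).mul_mem (RL_norm D hiz hr) ((RL D).inv_mem hr)
    have h4 : i * r * i⁻¹ * r⁻¹ = 1 := odd_pow hodd h2 (n := 2) (RL_pow D h3)
    calc i * r = (i * r * i⁻¹ * r⁻¹) * (r * i) := by group
      _ = r * i := by rw [h4, one_mul]
  have h2 : i ^ 2 ^ 2 = 1 := by
    have e : i ^ 2 ^ 2 = (i * i) * (i * i) := by
      rw [show (2 : ℕ) ^ 2 = 2 + 2 by norm_num, pow_add, pow_two]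
    rcases cent_RL D hiz h1 with h | h | h
    · rw [h, one_pow]
    · rw [e, h, zA_sq, one_mul]
    · rw [e, h, zA_sq]
  exact Subgroup.mem_bot.2 (odd_pow hodd hi h2)

/-- a Sylow 2-subgroup centralising `zA` contains `RL` -/
theorem RL_le {S : Sylow 2 L} (hS : ∀ s ∈ S, s * zA D = zA D * s) : RL D ≤ S := by
  have h1 : (S : Subgroup L) ≤ Subgroup.normalizer (RL D : Set L) := by
    intro s hs
    rw [Subgroup.mem_normalizer_iff]
    intro x
    constructor
    · intro hx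
      exact RL_norm D (hS s hs) hx
    · intro hx
      have h2 := RL_norm D (hS _ ((S : Subgroup L).inv_mem hs)) hx
      have h3 : s⁻¹ * (s * x * s⁻¹) * s⁻¹⁻¹ = x := by group
      rwa [h3] at h2
  have h2 : IsPGroup 2 ((S : Subgroup L) ⊔ RL D : Subgroup L) :=
    IsPGroup.to_sup_of_normal_right' S.isPGroup' (RL_pGroup D) h1
  have h3 := S.is_maximal' h2 le_sup_left
  rw [← h3]
  exact le_sup_right

/-- every Sylow 2-subgroup is conjugate to one centralising `zA` -/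
theorem exists_conj_sylow (S : Sylow 2 L) : ∃ g : L, ∀ s ∈ S, (g * s * g⁻¹) * zA D = zA D * (g * s * g⁻¹) := by
  have := fin D
  have hp2 : Fact (Nat.Prime 2) := ⟨Nat.prime_two⟩
  obtain ⟨T, hT⟩ := cen D
  obtain ⟨g, hg⟩ := MulAction.exists_smul_eq L S T
  refine ⟨g, fun s hs => ?_⟩
  apply hT
  rw [← hg]
  exact Subgroup.smul_mem_pointwise_smul s (MulAut.conj g) (S : Subgroup L) hs

/-- elements centralising `S` and lying in `C(zA)`, for a Sylow 2-subgroup `S` of `C(zA)` -/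
theorem cent_S {S : Sylow 2 L} (hS : ∀ s ∈ S, s * zA D = zA D * s) {x : L} (hx : ∀ s ∈ S, s * x = x * s)
    (hxx : x * x = 1) (h1 : x ≠ 1) : x = zA D := by
  have h2 : ∀ r ∈ RL D, x * r = r * x := fun r hr => (hx r (RL_le D hS hr)).symm
  have h3 : x * zA D = zA D * x := h2 _ (zA_mem_RL D)
  rcases cent_RL D h3 h2 with h | h | h
  · exact absurd h h1
  · exact h
  · rw [hxx] at h
    exact absurd h.symm (zA_ne D)

include D in
/-- `z1` -/
theorem z1 (S : Sylow 2 L) (x : L) (_ : x ∈ S) (hx : x * x = 1) (hx1 : x ≠ 1) (hxc : ∀ s ∈ S, s * x = x * s)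
    (y : L) (_ : y ∈ S) (hy : y * y = 1) (hy1 : y ≠ 1) (hyc : ∀ s ∈ S, s * y = y * s) : x = y := by
  have := fin D
  have hp2 : Fact (Nat.Prime 2) := ⟨Nat.prime_two⟩
  obtain ⟨g, hg⟩ := exists_conj_sylow D S
  -- the Sylow subgroup `g S g⁻¹`
  have h1 : ∀ t ∈ (g • S : Sylow 2 L), ∃ s ∈ S, t = g * s * g⁻¹ := by
    intro t ht
    obtain ⟨s, hs, rfl⟩ := ht
    exact ⟨s, hs, rfl⟩
  have h2 : ∀ t ∈ (g • S : Sylow 2 L), t * zA D = zA D * t := by
    intro t ht
    obtain ⟨s, hs, rfl⟩ := h1 t ht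
    exact hg s hs
  have key : ∀ x : L, x * x = 1 → x ≠ 1 → (∀ s ∈ S, s * x = x * s) → g * x * g⁻¹ = zA D := by
    intro x hx hx1 hxc
    apply cent_S D h2
    · intro t ht
      obtain ⟨s, hs, rfl⟩ := h1 t ht
      calc g * s * g⁻¹ * (g * x * g⁻¹) = g * (s * x) * g⁻¹ := by group
        _ = g * (x * s) * g⁻¹ := by rw [hxc s hs]
        _ = g * x * g⁻¹ * (g * s * g⁻¹) := by group
    · calc g * x * g⁻¹ * (g * x * g⁻¹) = g * (x * x) * g⁻¹ := by group
        _ = 1 := by rw [hx]; group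
    · intro h
      apply hx1
      have h3 : x = g⁻¹ * (g * x * g⁻¹) * g := by group
      rw [h3, h]; group
  have e := (key x hx hx1 hxc).trans (key y hy hy1 hyc).symm
  have h3 : x = g⁻¹ * (g * x * g⁻¹) * g := by group
  rw [h3, e]; group

include D in
/-- `sylAut` -/
theorem sylAut (S : Sylow 2 L) (α : MulAut L) (hα : ∀ x ∈ S, α x = x) : Inn α := by
  have := fin D
  have hp2 : Fact (Nat.Prime 2) := ⟨Nat.prime_two⟩
  obtain ⟨g, hg⟩ := exists_conj_sylow D S
  have h1 : ∀ t ∈ (g • S : Sylow 2 L), ∃ s ∈ S, t = g * s * g⁻¹ := by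
    intro t ht
    obtain ⟨s, hs, rfl⟩ := ht
    exact ⟨s, hs, rfl⟩
  have h2 : ∀ t ∈ (g • S : Sylow 2 L), t * zA D = zA D * t := by
    intro t ht
    obtain ⟨s, hs, rfl⟩ := h1 t ht
    exact hg s hs
  -- `β = g α g⁻¹` fixes `g S g⁻¹`
  let β : MulAut L := MulAut.conj g * α * (MulAut.conj g)⁻¹
  have hβ : ∀ r ∈ RL D, β r = r := by
    intro r hr
    obtain ⟨s, hs, rfl⟩ := h1 r (RL_le D h2 hr)
    change MulAut.conj g (α ((MulAut.conj g)⁻¹ (g * s * g⁻¹))) = g * s * g⁻¹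
    have h3 : (MulAut.conj g)⁻¹ (g * s * g⁻¹) = s := by
      rw [MulAut.conj_inv_apply]; group
    rw [h3, hα s hs]
    rfl
  obtain ⟨h, hh⟩ := D.au_surj β
  have hr : ∀ r (hr : r ∈ Rt), φ (h * r) = φ (r * h) := by
    intro r hr
    have h3 := hβ (D.π ⟨r, Rt_le_K hr⟩) ((mem_RL D).2 ⟨r, hr, rfl⟩)
    rw [← hh, D.au_π, pi_eq] at h3
    change φ (h * r * h⁻¹) = φ r at h3
    rw [map_mul, map_inv, mul_inv_eq_iff_eq_mul] at h3
    rw [h3, map_mul]
  have hb : φ (h * aa) = φ (aa * h) := by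
    have h3 := hr b Cent.b_mem_Rt
    rw [map_mul, map_mul, φ_b] at h3
    rw [map_mul, map_mul, h3]
  have hK : h ∈ K := (fix_R hb hr).1
  have h3 : β = MulAut.conj (D.π ⟨h, hK⟩) := by rw [← hh, ← D.au_K]
  refine ⟨g⁻¹ * D.π ⟨h, hK⟩ * g, ?_⟩
  have h4 : α = (MulAut.conj g)⁻¹ * β * MulAut.conj g := by
    change α = (MulAut.conj g)⁻¹ * (MulAut.conj g * α * (MulAut.conj g)⁻¹) * MulAut.conj g
    group
  rw [h4, h3, map_mul, map_mul, map_inv]

/-! ### the class 2B -/

/-- `A6` in `L` -/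
noncomputable def rho : A6 →* L := D.π.comp (psi.codRestrict K psi_mem_K)

theorem rho_apply (s : A6) : rho D s = D.π ⟨psi s, psi_mem_K s⟩ := rfl

theorem vw_mem_K {i : ℕ} (hi : i < 4) : hw (vw i) ∈ K := by
  rw [← psi_cyc hi]
  exact psi_mem_K _

theorem rho_cyc {i : ℕ} (hi : i < 4) : rho D ⟨cyc 4 i, cyc_mem 4 i hi⟩ = D.π ⟨hw (vw i), vw_mem_K hi⟩ := by
  rw [rho_apply]
  congr 1
  exact Subtype.ext (psi_cyc hi)

theorem vw0_ne : hw (vw 0) ≠ 1 ∧ hw (vw 0) ≠ τ := by
  constructor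
  · intro h
    rw [← hw_nil] at h
    have := eqw_of_hw_eq (TwoB.chkp 0 (by norm_num)).1 (by decide) h
    rw [TwoB.chk1.1] at this
    exact absurd this (by decide)
  · intro h
    rw [← hw_τ] at h
    have := eqw_of_hw_eq (TwoB.chkp 0 (by norm_num)).1 (by decide) h
    rw [TwoB.chk1.2] at this
    exact absurd this (by decide)

theorem rho_inj : Function.Injective (rho D) := by
  rw [← MonoidHom.ker_eq_bot_iff]
  rcases Subgroup.Normal.eq_bot_or_eq_top (H := (rho D).ker) inferInstance with h | h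
  · exact h
  · exfalso
    have h1 : (⟨cyc 4 0, cyc_mem 4 0 (by norm_num)⟩ : A6) ∈ (rho D).ker := by rw [h]; trivial
    rw [MonoidHom.mem_ker, rho_cyc D (by norm_num), D.ker] at h1
    rcases h1 with h1 | h1
    · exact vw0_ne.1 h1
    · exact vw0_ne.2 h1

/-- the image of `A6` -/
noncomputable def LA : Subgroup L := (rho D).range

theorem card_LA : Nat.card (LA D) = 360 := by
  rw [LA, ← Nat.card_congr (MonoidHom.ofInjective (rho_inj D)).toEquiv, nat_card_alternatingGroup,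
    Nat.card_eq_fintype_card, Fintype.card_fin]
  rfl

theorem perf_LA : ⁅LA D, LA D⁆ = LA D := by
  rw [LA, MonoidHom.range_eq_map, ← Subgroup.map_commutator]
  congr 1
  exact commutator_alternatingGroup_eq_top (by rw [Nat.card_eq_fintype_card, Fintype.card_fin]; norm_num)

theorem LA_comm {l : L} (hl : l ∈ LA D) : l * wB D = wB D * l := by
  obtain ⟨s, rfl⟩ := hl
  rw [rho_apply, wB, ← map_mul, ← map_mul]
  congr 1
  exact Subtype.ext (psi_g0 s)

theorem cent_LA {x : L} (h : ∀ l ∈ LA D, x * l = l * x) : x = 1 ∨ x = wB D := by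
  obtain ⟨k, rfl⟩ := D.surj x
  have h1 : ∀ i < 4, φ ((k : H0) * hw (vw i)) = φ (hw (vw i) * k) := by
    intro i hi
    have h2 := h _ ⟨_, rho_cyc D hi⟩
    rw [← map_mul, ← map_mul, pi_eq] at h2
    exact h2
  rcases cent_A6_even k.2 h1 with h2 | h2
  · left
    rw [← map_one D.π, pi_eq]
    rw [h2]
    exact (map_one φ).symm
  · right
    rw [wB, pi_eq]
    exact h2

theorem mem_cenG {h : H0} (hh : φ (h * g0) = φ (g0 * h)) : φ h ∈ CentUp.cenA [g0w] := by
  refine ⟨range_le ⟨h, rfl⟩, ?_⟩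
  change φ h ∈ Subgroup.centralizer (φ '' CentUp.wset [g0w])
  rw [Subgroup.mem_centralizer_iff, CentUp.wset_singleton]
  rintro _ ⟨_, rfl, rfl⟩
  rw [← map_mul, ← map_mul]
  exact hh.symm

theorem card_C : Nat.card (Subgroup.centralizer ({wB D} : Set L)) ≤ 2880 := by
  classical
  have h1 : 2 * Nat.card ↥(CentUp.cenA [g0w] ⊓ K.map φ) ≤ Nat.card (CentUp.cenA [g0w]) := by
    apply TwoB.two_mul_card_le_of (x := φ gz) inf_le_left (mem_cenG gz_g0)
    rintro ⟨_, k, hk, hkz⟩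
    rcases φ_eq_iff.1 hkz with h | h
    · exact gz_not (h ▸ hk)
    · rw [h] at hk
      exact gz_not ((K.mul_mem_cancel_right τ_mem_K).1 hk)
  have h2 : ∀ x : Subgroup.centralizer ({wB D} : Set L),
      φ ((Function.surjInv D.surj (x : L) : K) : H0) ∈ CentUp.cenA [g0w] ⊓ K.map φ := by
    intro x
    refine ⟨mem_cenG ?_, ⟨_, (Function.surjInv D.surj (x : L)).2, rfl⟩⟩
    have h3 : (x : L) * wB D = wB D * x := Subgroup.mem_centralizer_singleton_iff.1 x.2
    have h4 : D.π (Function.surjInv D.surj (x : L)) * wB D = wB D * D.π (Function.surjInv D.surj (x : L)) := by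
      rw [Function.surjInv_eq D.surj (x : L)]
      exact h3
    change D.π _ * D.π ⟨g0, g0_mem_K⟩ = D.π ⟨g0, g0_mem_K⟩ * D.π _ at h4
    rw [← map_mul, ← map_mul, pi_eq] at h4
    exact h4
  have h3 : Nat.card (Subgroup.centralizer ({wB D} : Set L)) ≤ Nat.card ↥(CentUp.cenA [g0w] ⊓ K.map φ) := by
    apply Nat.card_le_card_of_injective
      (fun x => (⟨_, h2 x⟩ : ↥(CentUp.cenA [g0w] ⊓ K.map φ)))
    intro x y hxy
    have h4 := congrArg Subtype.val hxy
    change φ _ = φ _ at h4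
    rw [← pi_eq D, Function.surjInv_eq D.surj, Function.surjInv_eq D.surj] at h4
    exact Subtype.ext h4
  have h4 := TwoB.cG_le
  omega

theorem wB_not_mem_LA : wB D ∉ LA D := by
  intro h
  obtain ⟨s, hs⟩ := h
  have h1 : s ∈ Subgroup.center A6 := by
    rw [Subgroup.mem_center_iff]
    intro t
    apply rho_inj D
    rw [map_mul, map_mul, hs]
    exact LA_comm D ⟨t, rfl⟩
  rw [alternatingGroup.center_eq_bot (by rw [Nat.card_eq_fintype_card, Fintype.card_fin]; norm_num),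
    Subgroup.mem_bot] at h1
  rw [h1, map_one] at hs
  exact wB_ne D hs.symm

/-- `LA` is normal in `C(wB)` -/
theorem norm_LA {c : L} (hc : c * wB D = wB D * c) {l : L} (hl : l ∈ LA D) : c * l * c⁻¹ ∈ LA D := by
  have := fin D
  have hBC : LA D ≤ Subgroup.centralizer ({wB D} : Set L) := fun l hl =>
    Subgroup.mem_centralizer_singleton_iff.2 (LA_comm D hl)
  obtain ⟨m, hm⟩ := TwoB.exists_dser_le (Subgroup.centralizer ({wB D} : Set L)) (LA D) (wB D)
    (Subgroup.mem_centralizer_singleton_iff.2 rfl) hBC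
    (fun x hx => Subgroup.mem_centralizer_singleton_iff.1 hx) (wB_sq D) (wB_not_mem_LA D)
    ((card_C D).trans (by rw [card_LA]))
  have h1 : LA D ≤ Cfsg.Agent.OddHalf.TR.dser m (Subgroup.centralizer ({wB D} : Set L)) := by
    conv_lhs => rw [← Cfsg.Agent.OddHalf.TR.dser_of_perfect m (perf_LA D)]
    exact Cfsg.Agent.OddHalf.TR.dser_mono m hBC
  have h2 := le_antisymm hm h1
  have h3 := Cfsg.Agent.OddHalf.TR.dser_map m (Subgroup.centralizer ({wB D} : Set L))
    (MulAut.conj c).toMonoidHom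
  have h4 : (Subgroup.centralizer ({wB D} : Set L)).map (MulAut.conj c).toMonoidHom =
      Subgroup.centralizer ({wB D} : Set L) := by
    apply le_antisymm
    · rintro _ ⟨y, hy, rfl⟩
      have hc' : c ∈ Subgroup.centralizer ({wB D} : Set L) := Subgroup.mem_centralizer_singleton_iff.2 hc
      exact Subgroup.mul_mem _ (Subgroup.mul_mem _ hc' hy) (Subgroup.inv_mem _ hc')
    · intro y hy
      have hc' : c ∈ Subgroup.centralizer ({wB D} : Set L) := Subgroup.mem_centralizer_singleton_iff.2 hc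
      refine ⟨c⁻¹ * y * c, Subgroup.mul_mem _ (Subgroup.mul_mem _ (Subgroup.inv_mem _ hc') hy) hc', ?_⟩
      change c * (c⁻¹ * y * c) * c⁻¹ = y
      group
  rw [h4, h2] at h3
  rw [h3]
  exact ⟨l, hl, rfl⟩

/-- normal subgroups of `C(wB)` -/
theorem norm_cases (M : Subgroup L) (hM : ∀ m ∈ M, m * wB D = wB D * m)
    (hn : ∀ c : L, c * wB D = wB D * c → ∀ m ∈ M, c * m * c⁻¹ ∈ M) :
    (∀ m ∈ M, m = 1 ∨ m = wB D) ∨ LA D ≤ M := by
  have hJ : (M.comap (rho D)).Normal := by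
    constructor
    intro s hs t
    rw [Subgroup.mem_comap] at hs ⊢
    rw [map_mul, map_mul, map_inv]
    exact hn _ (LA_comm D ⟨t, rfl⟩) _ hs
  rcases Subgroup.Normal.eq_bot_or_eq_top (H := M.comap (rho D)) hJ with h | h
  · left
    intro m hm
    apply cent_LA D
    intro l hl
    have h1 : m * l * m⁻¹ * l⁻¹ ∈ M := by
      have h2 := hn l (LA_comm D hl) m⁻¹ (M.inv_mem hm)
      have h3 : m * l * m⁻¹ * l⁻¹ = m * (l * m⁻¹ * l⁻¹) := by group
      rw [h3]
      exact M.mul_mem hm h2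
    have h2 : m * l * m⁻¹ * l⁻¹ ∈ LA D := (LA D).mul_mem (norm_LA D (hM m hm) hl) ((LA D).inv_mem hl)
    obtain ⟨s, hs⟩ := h2
    have h3 : s ∈ M.comap (rho D) := by
      rw [Subgroup.mem_comap, hs]
      exact h1
    rw [h, Subgroup.mem_bot] at h3
    rw [h3, map_one] at hs
    calc m * l = (m * l * m⁻¹ * l⁻¹) * (l * m) := by group
      _ = l * m := by rw [← hs, one_mul]
  · right
    rintro _ ⟨s, rfl⟩
    have h1 : s ∈ M.comap (rho D) := by rw [h]; trivial
    exact h1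

/-- an involution of `A6` -/
def s0 : A6 := ⟨cyc 4 0, cyc_mem 4 0 (by norm_num)⟩ * ⟨cyc 4 1, cyc_mem 4 1 (by norm_num)⟩

theorem s0_sq : s0 * s0 = 1 := by decide +kernel

theorem s0_ne : s0 ≠ 1 := by decide +kernel

theorem rho_s0_sq : rho D s0 * rho D s0 = 1 := by rw [← map_mul, s0_sq, map_one]

theorem rho_s0_ne : rho D s0 ≠ 1 := by
  intro h
  exact s0_ne (rho_inj D (h.trans (map_one _).symm))

/-- the involutions of `LA` are of class 2A -/
theorem exists_conj_s0 : ∃ c, c * zA D * c⁻¹ = rho D s0 := by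
  rcases inv_cases D _ (rho_s0_sq D) (rho_s0_ne D) with h | ⟨c, hc⟩
  · exact h
  · exfalso
    obtain ⟨k, rfl⟩ := D.surj c
    rw [rho_apply, wB, ← map_inv, ← map_mul, ← map_mul, pi_eq] at hc
    change φ ((k : H0) * g0 * (k : H0)⁻¹) = φ (psi s0) at hc
    have h1 : psi s0 * psi s0 = 1 := by rw [← map_mul, s0_sq, map_one]
    have h2 : ((k : H0) * g0 * (k : H0)⁻¹) * ((k : H0) * g0 * (k : H0)⁻¹) = τ := by
      calc ((k : H0) * g0 * (k : H0)⁻¹) * ((k : H0) * g0 * (k : H0)⁻¹) = k * (g0 * g0) * (k : H0)⁻¹ := by group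
        _ = τ := by rw [g0_sq, τ_comm, mul_inv_cancel_right]
    rcases φ_eq_iff.1 hc with h3 | h3
    · rw [h3, h1] at h2
      exact τ_ne_one h2.symm
    · rw [h3] at h2
      have h4 : psi s0 * τ * (psi s0 * τ) = psi s0 * psi s0 * (τ * τ) := by
        calc psi s0 * τ * (psi s0 * τ) = psi s0 * (τ * psi s0) * τ := by group
          _ = _ := by rw [← τ_comm]; group
      rw [h4, h1, τ_mul_τ, one_mul] at h2
      exact τ_ne_one h2.symm

/-- `O(C(wB)) = 1` -/
theorem odd_B (I : Subgroup L) (hI : ∀ i ∈ I, i * wB D = wB D * i)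
    (hn : ∀ c : L, c * wB D = wB D * c → ∀ i ∈ I, c * i * c⁻¹ ∈ I) (hodd : Odd (Nat.card I)) : I = ⊥ := by
  have := fin D
  rcases norm_cases D I hI hn with h | h
  · rw [eq_bot_iff]
    intro i hi
    rcases h i hi with h1 | h1
    · exact Subgroup.mem_bot.2 h1
    · rw [h1] at hi
      exact absurd (odd_pow hodd hi (n := 1) (by rw [pow_one, pow_two, wB_sq])) (wB_ne D)
  · exfalso
    exact rho_s0_ne D (odd_pow hodd (h ⟨s0, rfl⟩) (n := 1) (by rw [pow_one, pow_two, rho_s0_sq]))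

theorem cen_conj {x : L} (h : Cen x) (c : L) : Cen (c * x * c⁻¹) := by
  obtain ⟨S, hS⟩ := h
  refine ⟨c • S, ?_⟩
  rintro _ ⟨s, hs, rfl⟩
  change c * s * c⁻¹ * (c * x * c⁻¹) = c * x * c⁻¹ * (c * s * c⁻¹)
  calc c * s * c⁻¹ * (c * x * c⁻¹) = c * (s * x) * c⁻¹ := by group
    _ = c * (x * s) * c⁻¹ := by rw [hS s hs]
    _ = _ := by group

/-- an involution which is not 2-central is conjugate to `wB` -/
theorem exists_conj_wB {w : L} (hw : w * w = 1) (hw1 : w ≠ 1) (h : ¬ Cen w) : ∃ c, c * wB D * c⁻¹ = w := by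
  rcases inv_cases D w hw hw1 with ⟨c, rfl⟩ | h1
  · exact absurd (cen_conj (cen D) c) h
  · exact h1

/-- transport of a normal subgroup of `C(w)` -/
theorem move {w : L} {N : Subgroup L} {u c : L} (hc : c * u * c⁻¹ = w) (hN : ∀ n ∈ N, n * w = w * n)
    (hn : ∀ d : L, d * w = w * d → ∀ n ∈ N, d * n * d⁻¹ ∈ N) :
    (∀ m ∈ N.comap (MulAut.conj c).toMonoidHom, m * u = u * m) ∧
    (∀ d : L, d * u = u * d → ∀ m ∈ N.comap (MulAut.conj c).toMonoidHom,
      d * m * d⁻¹ ∈ N.comap (MulAut.conj c).toMonoidHom) := by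
  have key : ∀ m : L, (c * m * c⁻¹) * w = w * (c * m * c⁻¹) ↔ m * u = u * m := by
    intro m
    rw [← hc]
    have e1 : c * m * c⁻¹ * (c * u * c⁻¹) = c * (m * u) * c⁻¹ := by group
    have e2 : c * u * c⁻¹ * (c * m * c⁻¹) = c * (u * m) * c⁻¹ := by group
    rw [e1, e2, mul_left_inj, mul_right_inj]
  refine ⟨fun m hm => (key m).1 (hN _ hm), fun d hd m hm => ?_⟩
  have h1 := hn (c * d * c⁻¹) ((key d).2 hd) _ hm
  have h2 : c * d * c⁻¹ * (MulAut.conj c).toMonoidHom m * (c * d * c⁻¹)⁻¹ =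
      (MulAut.conj c).toMonoidHom (d * m * d⁻¹) := by
    change c * d * c⁻¹ * (c * m * c⁻¹) * (c * d * c⁻¹)⁻¹ = c * (d * m * d⁻¹) * c⁻¹
    group
  rw [h2] at h1
  exact h1

include D in
/-- `Bad` is impossible -/
theorem not_bad (w : L) (N : Subgroup L) : ¬ Bad w N := by
  intro hN
  have := fin D
  obtain ⟨c, hc⟩ := exists_conj_wB D hN.sq hN.ne (hN.non w hN.mem hN.sq hN.ne)
  obtain ⟨h1, h2⟩ := move hc hN.le hN.norm
  rcases norm_cases D _ h1 h2 with h | h
  · -- `|N| ≤ 2`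
    have h3 : ∀ n ∈ N, n = 1 ∨ n = w := by
      intro n hn
      have h4 : c⁻¹ * n * c ∈ N.comap (MulAut.conj c).toMonoidHom := by
        change c * (c⁻¹ * n * c) * c⁻¹ ∈ N
        have e : c * (c⁻¹ * n * c) * c⁻¹ = n := by group
        rwa [e]
      have e : n = c * (c⁻¹ * n * c) * c⁻¹ := by group
      rcases h _ h4 with h5 | h5
      · left; rw [e, h5]; group
      · right; rw [e, h5, hc]
    have h4 : Nat.card N ≤ 2 := by
      have h5 : Nat.card N ≤ Nat.card ({1, w} : Set L) :=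
        Nat.card_le_card_of_injective (fun n : N => (⟨n, h3 n n.2⟩ : ({1, w} : Set L)))
          (fun a b hab => Subtype.ext (Subtype.mk.inj hab))
      refine h5.trans ?_
      rw [Nat.card_coe_set_eq]
      exact (Set.ncard_insert_le _ _).trans (by rw [Set.ncard_singleton])
    have h5 := Nat.le_of_dvd Nat.card_pos hN.four
    omega
  · obtain ⟨d, hd⟩ := exists_conj_s0 D
    have h3 : c * rho D s0 * c⁻¹ ∈ N := h ⟨s0, rfl⟩
    have hne : c * rho D s0 * c⁻¹ ≠ 1 := by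
      intro h4
      apply rho_s0_ne D
      have e : rho D s0 = c⁻¹ * (c * rho D s0 * c⁻¹) * c := by group
      rw [e, h4]; group
    have hsq : (c * rho D s0 * c⁻¹) * (c * rho D s0 * c⁻¹) = 1 := by
      calc (c * rho D s0 * c⁻¹) * (c * rho D s0 * c⁻¹) = c * (rho D s0 * rho D s0) * c⁻¹ := by group
        _ = 1 := by rw [rho_s0_sq]; group
    refine hN.non _ h3 hsq hne ?_
    rw [← hd]
    exact cen_conj (cen_conj (cen D) d) c

/-! ### outer involutions -/

theorem four_dvd {G : Type*} [Group G] [Finite G] (N : Subgroup G) {x y : G} (hx : x ∈ N) (hy : y ∈ N)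
    (hxx : x * x = 1) (hyy : y * y = 1) (hxy : x * y = y * x) (h1 : x ≠ 1) (h2 : y ≠ 1) (h3 : x ≠ y) :
    4 ∣ Nat.card N := by
  have hxi : x⁻¹ = x := inv_eq_of_mul_eq_one_left hxx
  have hyi : y⁻¹ = y := inv_eq_of_mul_eq_one_left hyy
  let E : Subgroup G :=
    { carrier := {g | g = 1 ∨ g = x ∨ g = y ∨ g = x * y}
      one_mem' := Or.inl rfl
      mul_mem' := by
        have e1 : x * (x * y) = y := by rw [← mul_assoc, hxx, one_mul]
        have e2 : y * (x * y) = x := by rw [← mul_assoc, ← hxy, mul_assoc, hyy, mul_one]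
        have e3 : x * y * x = y := by rw [hxy, mul_assoc, hxx, mul_one]
        have e4 : x * y * y = x := by rw [mul_assoc, hyy, mul_one]
        have e5 : x * y * (x * y) = 1 := by rw [← mul_assoc, e3, hyy]
        rintro a b (rfl | rfl | rfl | rfl) (rfl | rfl | rfl | rfl) <;>
          simp only [Set.mem_setOf_eq, one_mul, mul_one, hxx, hyy, e1, e2, e3, e4, e5, ← hxy, true_or, or_true]
      inv_mem' := by
        rintro a (rfl | rfl | rfl | rfl)
        · exact Or.inl inv_one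
        · exact Or.inr (Or.inl hxi)
        · exact Or.inr (Or.inr (Or.inl hyi))
        · right; right; right
          rw [mul_inv_rev, hxi, hyi, hxy] }
  have hEN : E ≤ N := by
    rintro g (rfl | rfl | rfl | rfl)
    · exact N.one_mem
    · exact hx
    · exact hy
    · exact N.mul_mem hx hy
  have hxy1 : x * y ≠ 1 := fun h => h3 (by rw [← hyi]; exact eq_inv_of_mul_eq_one_left h)
  have hxyx : x * y ≠ x := fun h => h2 (mul_eq_left.1 h)
  have hxyy : x * y ≠ y := fun h => h1 (mul_eq_right.1 h)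
  have hE : Nat.card E = 4 := by
    have e : (E : Set G) = {1, x, y, x * y} := rfl
    change Nat.card (E : Set G) = 4
    rw [e, Nat.card_coe_set_eq, Set.ncard_insert_of_notMem, Set.ncard_insert_of_notMem, Set.ncard_pair]
    · exact fun h => hxyy h.symm
    · rintro (h | h)
      · exact h3 h
      · exact hxyx h.symm
    · rintro (h | h | h)
      · exact h1 h.symm
      · exact h2 h.symm
      · exact hxy1 h.symm
  rw [← hE]
  exact Subgroup.card_dvd_of_le hEN

include D in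
/-- **`out2`** -/
theorem out2 (α : MulAut L) (hα : ¬ Inn α) (w : L) (hww : w * w = 1) (hw1 : w ≠ 1) (hwc : ¬ Cen w)
    (hαw : α w = w) (hαc : ∀ c : L, c * w = w * c → α c = c ∨ α c = w * c)
    (N : Subgroup L) (hwN : w ∈ N) (hn : ∀ c : L, α c = c → ∀ n ∈ N, c * n * c⁻¹ ∈ N)
    (h2 : Nat.card N % 4 = 2) : False := by
  have := fin D
  obtain ⟨c, hc⟩ := exists_conj_wB D hww hw1 hwc
  -- `β = c⁻¹ α c`
  let β : MulAut L := (MulAut.conj c)⁻¹ * α * MulAut.conj c
  have hβ : ∀ x, β x = c⁻¹ * α (c * x * c⁻¹) * c := by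
    intro x
    change (MulAut.conj c)⁻¹ (α (MulAut.conj c x)) = _
    rw [MulAut.conj_inv_apply]
    rfl
  have hfix : ∀ x, β x = x ↔ α (c * x * c⁻¹) = c * x * c⁻¹ := by
    intro x
    rw [hβ]
    constructor
    · intro h
      have e : α (c * x * c⁻¹) = c * (c⁻¹ * α (c * x * c⁻¹) * c) * c⁻¹ := by group
      rw [e, h]
    · intro h
      rw [h]; group
  obtain ⟨h, hh⟩ := D.au_surj β
  have hK : h ∉ K := by
    intro hK
    apply hα
    have h3 : β = MulAut.conj (D.π ⟨h, hK⟩) := by rw [← hh, ← D.au_K]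
    refine ⟨c * D.π ⟨h, hK⟩ * c⁻¹, ?_⟩
    have h4 : α = MulAut.conj c * β * (MulAut.conj c)⁻¹ := by
      change α = MulAut.conj c * ((MulAut.conj c)⁻¹ * α * MulAut.conj c) * (MulAut.conj c)⁻¹
      group
    rw [h4, h3, map_mul, map_mul, map_inv]
  -- `β` centralises `LA`
  have hv : ∀ i < 4, φ (h * hw (vw i)) = φ (hw (vw i) * h) := by
    intro i hi
    have h3 : β (D.π ⟨hw (vw i), vw_mem_K hi⟩) = D.π ⟨hw (vw i), vw_mem_K hi⟩ := by
      rw [hfix]
      have hvL : D.π ⟨hw (vw i), vw_mem_K hi⟩ ∈ LA D := ⟨_, rho_cyc D hi⟩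
      have hv3 : (D.π ⟨hw (vw i), vw_mem_K hi⟩) ^ 3 = 1 := by
        rw [← map_pow, D.ker]
        exact Or.inl (TwoB.rel.cube i hi)
      generalize D.π ⟨hw (vw i), vw_mem_K hi⟩ = v at hvL hv3
      have hvw : (c * v * c⁻¹) * w = w * (c * v * c⁻¹) := by
        rw [← hc]
        calc c * v * c⁻¹ * (c * wB D * c⁻¹) = c * (v * wB D) * c⁻¹ := by group
          _ = c * (wB D * v) * c⁻¹ := by rw [LA_comm D hvL]
          _ = _ := by group
      have hx3 : (c * v * c⁻¹) ^ 3 = 1 := by rw [conj_pow, hv3, mul_one, mul_inv_cancel]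
      rcases hαc _ hvw with h4 | h4
      · exact h4
      · exfalso
        have h5 : (α (c * v * c⁻¹)) ^ 3 = 1 := by rw [← map_pow, hx3, map_one]
        have hcm : Commute w (c * v * c⁻¹) := hvw.symm
        rw [h4, hcm.mul_pow, hx3, mul_one, pow_succ, pow_two, hww, one_mul] at h5
        exact hw1 h5
    rw [← hh, D.au_π, pi_eq] at h3
    change φ (h * hw (vw i) * h⁻¹) = φ (hw (vw i)) at h3
    rw [map_mul, map_inv, mul_inv_eq_iff_eq_mul] at h3
    rw [h3, map_mul]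
  obtain ⟨e, he⟩ : ∃ e, φ h = φ (hw (ow e)) := by
    rcases cent_A6_odd hK hv with h3 | h3
    · exact ⟨false, h3.trans (by rw [← hw_z]; rfl)⟩
    · exact ⟨true, h3⟩
  -- the element `x`
  let x : L := D.π ⟨hw (xw e), xw_K e⟩
  have hx : β x = x := by
    change β (D.π ⟨hw (xw e), xw_K e⟩) = D.π ⟨hw (xw e), xw_K e⟩
    rw [← hh, D.au_π, pi_eq]
    change φ (h * hw (xw e) * h⁻¹) = φ (hw (xw e))
    have h3 := xw_comm e
    rw [map_mul, map_mul] at h3
    rw [map_mul, map_mul, map_inv, he, h3, mul_inv_cancel_right]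
  have hxg : x * wB D * x⁻¹ = D.π ⟨hw (gx0 e), by
      rw [hw_gx0]
      exact K.mul_mem (K.mul_mem (xw_K e) g0_mem_K) (K.inv_mem (xw_K e))⟩ := by
    change D.π ⟨hw (xw e), xw_K e⟩ * D.π ⟨g0, g0_mem_K⟩ * (D.π ⟨hw (xw e), xw_K e⟩)⁻¹ = _
    rw [← map_inv, ← map_mul, ← map_mul, pi_eq]
    change φ (hw (xw e) * g0 * (hw (xw e))⁻¹) = φ (hw (gx0 e))
    rw [hw_gx0]
  have hne : x * wB D * x⁻¹ ≠ wB D := by
    rw [hxg, wB, Ne, pi_eq]
    exact gx0_ne e
  have hcomm : (x * wB D * x⁻¹) * wB D = wB D * (x * wB D * x⁻¹) := by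
    rw [hxg, wB, ← map_mul, ← map_mul, pi_eq]
    exact gx0_comm e
  -- `w` and `y = w ^ x` in `N`
  let y : L := (c * x * c⁻¹) * w * (c * x * c⁻¹)⁻¹
  have hyN : y ∈ N := hn _ ((hfix x).1 hx) w hwN
  have hyc : y = c * (x * wB D * x⁻¹) * c⁻¹ := by
    change (c * x * c⁻¹) * w * (c * x * c⁻¹)⁻¹ = _
    rw [← hc]; group
  have hyy : y * y = 1 := by
    change (c * x * c⁻¹) * w * (c * x * c⁻¹)⁻¹ * ((c * x * c⁻¹) * w * (c * x * c⁻¹)⁻¹) = 1
    calc (c * x * c⁻¹) * w * (c * x * c⁻¹)⁻¹ * ((c * x * c⁻¹) * w * (c * x * c⁻¹)⁻¹) =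
        (c * x * c⁻¹) * (w * w) * (c * x * c⁻¹)⁻¹ := by group
      _ = 1 := by rw [hww]; group
  have hwy : w * y = y * w := by
    rw [hyc, ← hc]
    calc c * wB D * c⁻¹ * (c * (x * wB D * x⁻¹) * c⁻¹) = c * (wB D * (x * wB D * x⁻¹)) * c⁻¹ := by group
      _ = c * ((x * wB D * x⁻¹) * wB D) * c⁻¹ := by rw [hcomm]
      _ = _ := by group
  have hy1 : y ≠ 1 := by
    intro h3
    apply hw1
    have e' : w = (c * x * c⁻¹)⁻¹ * y * (c * x * c⁻¹) := by
      change w = (c * x * c⁻¹)⁻¹ * ((c * x * c⁻¹) * w * (c * x * c⁻¹)⁻¹) * (c * x * c⁻¹)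
      group
    rw [e', h3]; group
  have hwy' : w ≠ y := by
    intro h3
    apply hne
    rw [hyc, ← hc, mul_left_inj, mul_right_inj] at h3
    exact h3.symm
  have h4 := four_dvd N hwN hyN hww hyy hwy hw1 hy1 hwy'
  omega

end

end Cfsg.Agent.KFacts.HS.DFour
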