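import Cfsg.Agent.KFacts.HS.Sheet2
import Cfsg.Agent.S0144

set_option autoImplicit false

/-!
# Facts on `HS`: the fact sheet of row D8

`Mod.sheet : SheetHS z u k P R`, and the fields `two`, `max`, `k0`, `inv2` of `SheetHSM` (`exists_sheet`).
-/

universe u

namespace Cfsg.Agent.KFacts.HS

open Cfsg.Agent.OddHalf Cfsg.Agent.OddHalf.D8.HS.SheetHS
open Subgroup (centralizer mem_centralizer_singleton_iff)
open scoped commutatorElement

/-- groups whose order is a proper divisor of 60 are solvable -/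
theorem solvable_of_dvd {G : Type*} [Group G] [Finite G] {m n : ℕ} (h : m * n = 60) (hm : m ≠ 1)
    (hG : Nat.card G = n) : Group.IsSolvable G := by
  have hn : n ∈ Nat.divisors 60 := Nat.mem_divisors.2 ⟨⟨m, by rw [mul_comm]; exact h.symm⟩, by norm_num⟩
  have h1 : Nat.divisors 60 = {1, 2, 3, 4, 5, 6, 10, 12, 15, 20, 30, 60} := by decide +kernel
  rw [h1] at hn
  simp only [Finset.mem_insert, Finset.mem_singleton] at hn
  rcases hn with rfl | rfl | rfl | rfl | rfl | rfl | rfl | rfl | rfl | rfl | rfl | rfl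
  · exact Cfsg.Agent.S0144.result 2 3 0 0 (by norm_num) (by norm_num) (by rw [hG]; norm_num)
  · exact Cfsg.Agent.S0144.result 2 3 1 0 (by norm_num) (by norm_num) (by rw [hG]; norm_num)
  · exact Cfsg.Agent.S0144.result 2 3 0 1 (by norm_num) (by norm_num) (by rw [hG]; norm_num)
  · exact Cfsg.Agent.S0144.result 2 3 2 0 (by norm_num) (by norm_num) (by rw [hG]; norm_num)
  · exact Cfsg.Agent.S0144.result 2 5 0 1 (by norm_num) (by norm_num) (by rw [hG]; norm_num)
  · exact Cfsg.Agent.S0144.result 2 3 1 1 (by norm_num) (by norm_num) (by rw [hG]; norm_num)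
  · exact Cfsg.Agent.S0144.result 2 5 1 1 (by norm_num) (by norm_num) (by rw [hG]; norm_num)
  · exact Cfsg.Agent.S0144.result 2 3 2 1 (by norm_num) (by norm_num) (by rw [hG]; norm_num)
  · exact Cfsg.Agent.S0144.result 3 5 1 1 (by norm_num) (by norm_num) (by rw [hG]; norm_num)
  · exact Cfsg.Agent.S0144.result 2 5 2 1 (by norm_num) (by norm_num) (by rw [hG]; norm_num)
  · have : IsZGroup G := IsZGroup.of_squarefree (by
      rw [hG]
      have h30 : (30 : ℕ) = 2 * (3 * 5) := by norm_num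
      rw [h30, Nat.squarefree_mul (by norm_num), Nat.squarefree_mul (by norm_num)]
      exact ⟨Nat.prime_two.prime.squarefree, Nat.prime_three.prime.squarefree, Nat.prime_five.prime.squarefree⟩)
    infer_instance
  · exact absurd (by omega : m = 1) hm

theorem max_aux {L : Type*} [Group L] [Finite L] {P R : Subgroup L} (hP : ⁅P, P⁆ = P) (hc : Nat.card P = 3840)
    (hR : Nat.card R = 64) (N : Subgroup L) (hRN : R ≤ N) (hNP : N ≤ P)
    (hn : ∀ p ∈ P, ∀ n ∈ N, p * n * p⁻¹ ∈ N) : N = R ∨ N = P := by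
  have hN : (N.subgroupOf P).Normal := ⟨fun n hn' p => hn p p.2 n hn'⟩
  have h0 : ∀ {A B : Subgroup L}, A ≤ B → A.relIndex B * Nat.card A = Nat.card B := by
    intro A B hAB
    have h := (A.subgroupOf B).card_mul_index
    rw [Nat.card_congr (Subgroup.subgroupOfEquivOfLe hAB).toEquiv] at h
    rw [mul_comm]
    exact h
  have h1 := h0 hRN
  have h2 := h0 hNP
  have h3 : R.relIndex N * N.relIndex P = 60 := by
    rw [← h1, hR, hc] at h2
    have h4 : N.relIndex P * (R.relIndex N * 64) = R.relIndex N * N.relIndex P * 64 := by ring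
    omega
  by_cases hm : R.relIndex N = 1
  · left
    exact le_antisymm (Subgroup.relIndex_eq_one.1 hm) hRN
  · right
    have hcard : Nat.card (P ⧸ N.subgroupOf P) = N.relIndex P := rfl
    have hs := solvable_of_dvd h3 hm hcard
    have hperf : commutator (P ⧸ N.subgroupOf P) = ⊤ := by
      have hPc : ⁅(⊤ : Subgroup P), (⊤ : Subgroup P)⁆ = ⊤ := by
        apply Subgroup.map_injective P.subtype_injective
        rw [Subgroup.map_commutator, ← MonoidHom.range_eq_map, Subgroup.range_subtype, hP]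
      rw [commutator_def, ← Subgroup.map_top_of_surjective _ (QuotientGroup.mk'_surjective (N.subgroupOf P)),
        ← Subgroup.map_commutator, hPc]
    by_contra hne
    have hnt : Nontrivial (P ⧸ N.subgroupOf P) := by
      rw [← Finite.one_lt_card_iff_nontrivial, hcard]
      have h5 : N.relIndex P ≠ 1 := fun h => hne (le_antisymm hNP (Subgroup.relIndex_eq_one.1 h))
      have h6 : N.relIndex P ≠ 0 := by
        intro h
        rw [h, mul_zero] at h3
        exact absurd h3 (by norm_num)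
      omega
    have := Group.IsSolvable.commutator_lt_top_of_nontrivial (G := P ⧸ N.subgroupOf P)
    rw [hperf] at this
    exact lt_irrefl _ this

namespace Mod

variable {L : Type*} [Group L] (D : Mod L)

theorem sheet : SheetHS D.z D.u D.k D.P D.R where
  zz := D.zz
  z1 := D.z1
  uu := D.uu
  uR := D.uR
  RP := D.RP
  memP := D.memP
  Rn := fun _ hx _ hr => D.Rn' (D.Pcomm hx) hr
  inv := D.inv
  syl := D.syl
  perf := D.perf
  der := D.der
  out := D.out
  schreier := D.schreier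
  sylAut := fun S hS α _ hα => D.sylAut S hS α hα
  cardR := D.cardR
  core := D.core
  subs := D.subs
  cR := D.cR
  aut := fun α _ hz ht => D.aut α hz ht
  kz := D.kz
  kP := D.kP
  kz' := D.kz'
  kP' := D.kP'
  y1 := fun s h1 h2 h3 => D.y1 s h1 h2 h3
  y3 := D.y3
  y4 := D.y4
  y5 := D.y5

include D in
theorem two : ∃ n : ℕ, (MulAut.conj : L →* MulAut L).range.index = 2 ^ n :=
  ⟨1, by rw [D.index_inn, pow_one]⟩

theorem max (N : Subgroup L) (h1 : D.R ≤ N) (h2 : N ≤ D.P) (h3 : ∀ p ∈ D.P, ∀ n ∈ N, p * n * p⁻¹ ∈ N) :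
    N = D.R ∨ N = D.P :=
  have := D.finite
  max_aux D.perf D.cardP D.cardR N h1 h2 h3

end Mod

/-- **the fact sheet of `HS`** -/
theorem exists_sheet {L : Type u} [Group L] (h : Cfsg.Spor.IsoHS L) :
    ∃ (z v k : L) (P R : Subgroup L), SheetHS z v k P R ∧
      (∃ n : ℕ, (MulAut.conj : L →* MulAut L).range.index = 2 ^ n) ∧
      (∀ N : Subgroup L, R ≤ N → N ≤ P → (∀ p ∈ P, ∀ n ∈ N, p * n * p⁻¹ ∈ N) → N = R ∨ N = P) ∧
      (∃ c : L, c * (k⁻¹ * z * k * v) * c⁻¹ ∈ P) ∧
      ∀ x : L, x * x = 1 → x ≠ 1 → (∃ c, x = c * z * c⁻¹) ∨ ∃ c, x = c * (k⁻¹ * z * k * v) * c⁻¹ := by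
  obtain ⟨D⟩ := exists_mod h
  exact ⟨D.z, D.u, D.k, D.P, D.R, D.sheet, D.two, D.max, D.k0, D.inv2⟩

end Cfsg.Agent.KFacts.HS
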