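import Cfsg.Agent.KFacts.HS.Trans
import Cfsg.Agent.KFacts.HS.TwoB
import Cfsg.Agent.OddHalf.D8.HS.SheetHS

set_option autoImplicit false

/-!
# Facts on `HS`: the fact sheet

`sheetHS : Spor.IsoHS L → ∃ z u k P R, SheetHS z u k P R`.
-/

namespace Cfsg.Agent.KFacts.HS

open Cfsg.Agent.HN Cfsg.Agent.HN.Pres Cfsg.Agent.HN.HS100 Cfsg.Agent.HN.H0Basic
open Cfsg.Agent.HN.XMat Cfsg.Agent.HN.WMask Cfsg.Agent.KFacts.HS.Cent
open Cfsg.Agent.OddHalf
open Subgroup (centralizer mem_centralizer_singleton_iff)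
open scoped commutatorElement

/-! ### Sylow subgroups -/

section

variable {A : Type*} [Group A]

/-- a Sylow 2-subgroup contained in a subgroup of odd index -/
theorem exists_sylow_le [Finite A] (C : Subgroup A) (hodd : Odd C.index) :
    ∃ T : Sylow 2 A, (T : Subgroup A) ≤ C := by
  have : Fact (Nat.Prime 2) := ⟨Nat.prime_two⟩
  obtain ⟨P⟩ : Nonempty (Sylow 2 C) := inferInstance
  have h1 : IsPGroup 2 ((P : Subgroup C).map C.subtype) := P.2.map _
  obtain ⟨T, hT⟩ := h1.exists_le_sylow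
  have hcard : Nat.card (T : Subgroup A) ≤ Nat.card ((P : Subgroup C).map C.subtype) := by
    rw [Nat.card_congr ((P : Subgroup C).equivMapOfInjective C.subtype C.subtype_injective).toEquiv.symm,
      T.card_eq_multiplicity, P.card_eq_multiplicity]
    have h2 : Nat.card A = Nat.card C * C.index := (Subgroup.card_mul_index C).symm
    have h3 : (Nat.card A).factorization 2 = (Nat.card C).factorization 2 := by
      rw [h2, Nat.factorization_mul (Nat.card_pos.ne') (Subgroup.index_ne_zero_of_finite)]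
      simp only [Finsupp.coe_add, Pi.add_apply]
      rw [Nat.factorization_eq_zero_of_not_dvd (n := C.index), add_zero]
      rw [← even_iff_two_dvd, Nat.not_even_iff_odd]
      exact hodd
    rw [h3]
  have heq : (P : Subgroup C).map C.subtype = (T : Subgroup A) := by
    apply SetLike.coe_injective
    exact Set.eq_of_subset_of_ncard_le hT hcard (Set.toFinite _)
  refine ⟨T, ?_⟩
  rw [← heq]
  exact Subgroup.map_subtype_le _

/-- A normal 2-subgroup of `C` lies in every Sylow 2-subgroup of `A` contained in `C`. -/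
theorem normal_le_sylow [Finite A] (C Q : Subgroup A) (hQn : ∀ c ∈ C, ∀ q ∈ Q, c * q * c⁻¹ ∈ Q)
    (hQ : IsPGroup 2 Q) (T : Sylow 2 A) (hT : (T : Subgroup A) ≤ C) : Q ≤ (T : Subgroup A) := by
  have h1 : (T : Subgroup A) ≤ Subgroup.normalizer (Q : Set A) := by
    intro t ht
    rw [Subgroup.mem_normalizer_iff]
    intro q
    refine ⟨fun hq => hQn t (hT ht) q hq, fun hq => ?_⟩
    have h2 := hQn t⁻¹ (inv_mem (hT ht)) _ hq
    have h3 : t⁻¹ * (t * q * t⁻¹) * t⁻¹⁻¹ = q := by group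
    rwa [h3] at h2
  have h2 : IsPGroup 2 ((T : Subgroup A) ⊔ Q : Subgroup A) := by
    rw [sup_comm]
    exact hQ.to_sup_of_normal_left' T.2 h1
  have h3 : (T : Subgroup A) ⊔ Q = T := T.3 h2 le_sup_left
  rw [← h3]
  exact le_sup_right

end

namespace Mod

variable {L : Type*} [Group L] (D : Mod L)

theorem π_congr {g h : H0} (hg : g ∈ K) (e : g = h) : D.π ⟨g, hg⟩ = D.π ⟨h, e ▸ hg⟩ := by
  subst e; rfl

theorem π_congrτ {g h : H0} (hg : g ∈ K) (hh : h ∈ K) (e : g = h * τ) : D.π ⟨g, hg⟩ = D.π ⟨h, hh⟩ :=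
  (D.π_eq hg hh).2 (Or.inr e)

theorem π_one (h1 : (1 : H0) ∈ K) : D.π ⟨1, h1⟩ = 1 := map_one D.π

theorem zz : D.z * D.z = 1 := by
  unfold z
  rw [π_mul, π_eq_one]
  exact Or.inl b_sq

theorem z1 : D.z ≠ 1 := by
  unfold z
  rw [Ne, π_eq_one]
  rintro (h | h)
  · exact b_ne h
  · exact sg_ne_τ true h

theorem uu : D.u * D.u = D.z := by
  unfold z u
  rw [π_mul, π_eq]
  exact Or.inl U_sq

theorem u_inv : D.u⁻¹ = D.u * D.z := by
  rw [inv_eq_iff_mul_eq_one, ← mul_assoc, uu, zz]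

theorem uR : D.u ∈ D.R := (D.π_mem_im τ_mem_Rt U_mem_K).2 U_mem_Rt

theorem zR : D.z ∈ D.R := (D.π_mem_im τ_mem_Rt b_mem_K).2 b_mem_Rt

theorem RP : D.R ≤ D.P := D.im_mono Rt_le

theorem memP (x : L) : x ∈ D.P ↔ x * D.u = D.u * x := by
  obtain ⟨⟨h, hk⟩, rfl⟩ := D.surj x
  rw [D.comm_u hk]
  exact D.π_mem_im τ_mem_P0t hk

theorem P_le : D.P ≤ centralizer ({D.z} : Set L) := by
  rw [centralizer_z]
  exact D.im_mono P0t_le

/-- `R` is normal in `C(z)` -/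
theorem Rn' {x : L} (hx : x * D.z = D.z * x) {r : L} (hr : r ∈ D.R) : x * r * x⁻¹ ∈ D.R := by
  obtain ⟨⟨h, hk⟩, rfl⟩ := D.surj x
  obtain ⟨g, hg, hgR, rfl⟩ := D.mem_im.1 hr
  have hP := (D.comm_z hk).1 hx
  rw [π_conj]
  exact (D.π_mem_im τ_mem_Rt _).2 (Rt_conj (mem_Pt.1 hP).1 hgR)

theorem Pcomm {x : L} (hx : x ∈ D.P) : x * D.z = D.z * x := mem_centralizer_singleton_iff.1 (D.P_le hx)

theorem inv (x : L) (hx : x * D.z = D.z * x) : x * D.u * x⁻¹ = D.u ∨ x * D.u * x⁻¹ = D.u⁻¹ := by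
  obtain ⟨⟨h, hk⟩, rfl⟩ := D.surj x
  have hP := (D.comm_z hk).1 hx
  rcases Pt_U hP with h1 | h1
  · left
    unfold u
    rw [π_conj]
    exact D.π_congr _ h1
  · right
    rw [u_inv]
    unfold u z
    rw [π_conj, π_mul]
    refine D.π_congrτ _ _ ?_
    rw [h1, mul_assoc]

theorem perf : ⁅D.P, D.P⁆ = D.P := by
  apply le_antisymm
  · rw [Subgroup.commutator_le]
    intro x hx y hy
    rw [commutatorElement_def]
    exact D.P.mul_mem (D.P.mul_mem (D.P.mul_mem hx hy) (D.P.inv_mem hx)) (D.P.inv_mem hy)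
  · have key : P0t ≤ D.pre ⁅D.P, D.P⁆ := by
      apply P0t_le_of (D.τ_mem_pre _)
      · intro x hx y hy
        have hxK := P0t_le_K hx
        have hyK := P0t_le_K hy
        rw [mem_pre]
        have e1 : D.π ⟨x * y * x⁻¹ * y⁻¹, K.mul_mem (K.mul_mem (K.mul_mem hxK hyK) (K.inv_mem hxK)) (K.inv_mem hyK)⟩ =
            ⁅D.π ⟨x, hxK⟩, D.π ⟨y, hyK⟩⁆ := by
          rw [commutatorElement_def, π_inv, π_inv, π_mul, π_mul, π_mul]
        refine ⟨_, e1 ▸ Subgroup.commutator_mem_commutator ?_ ?_⟩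
        · exact (D.π_mem_im τ_mem_P0t hxK).2 hx
        · exact (D.π_mem_im τ_mem_P0t hyK).2 hy
      · intro h hh g hg
        have hhK := Pt_le_K hh
        obtain ⟨hgK, hgB⟩ := D.mem_pre.1 hg
        rw [mem_pre]
        refine ⟨K_conj hgK, ?_⟩
        rw [← D.π_conj hhK hgK]
        -- `P` is normalised by `C(z)`
        have hn : ∀ x ∈ D.P, D.π ⟨h, hhK⟩ * x * (D.π ⟨h, hhK⟩)⁻¹ ∈ D.P := by
          intro x hx
          have hz : D.π ⟨h, hhK⟩ * D.z = D.z * D.π ⟨h, hhK⟩ := (D.comm_z hhK).2 hh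
          have hz' : (D.π ⟨h, hhK⟩)⁻¹ * D.z = D.z * (D.π ⟨h, hhK⟩)⁻¹ := by
            rw [inv_mul_eq_iff_eq_mul, ← mul_assoc, hz, mul_assoc, mul_inv_cancel, mul_one]
          rw [memP] at hx ⊢
          set c := D.π ⟨h, hhK⟩
          rcases D.inv c⁻¹ hz' with h1 | h1
          · rw [inv_inv] at h1
            calc c * x * c⁻¹ * D.u = c * x * (c⁻¹ * D.u * c) * c⁻¹ := by group
              _ = c * (x * D.u) * c⁻¹ := by rw [h1]; group
              _ = c * (D.u * x) * c⁻¹ := by rw [hx]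
              _ = (c * D.u * c⁻¹) * (c * x * c⁻¹) := by group
              _ = D.u * (c * x * c⁻¹) := by
                  have : c * D.u * c⁻¹ = D.u := by
                    conv_lhs => rw [← h1]
                    group
                  rw [this]
          · rw [inv_inv] at h1
            have hxi : x * D.u⁻¹ = D.u⁻¹ * x := by
              rw [eq_inv_mul_iff_mul_eq, ← mul_assoc, ← hx, mul_assoc, mul_inv_cancel, mul_one]
            calc c * x * c⁻¹ * D.u = c * x * (c⁻¹ * D.u * c) * c⁻¹ := by group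
              _ = c * (x * D.u⁻¹) * c⁻¹ := by rw [h1]; group
              _ = c * (D.u⁻¹ * x) * c⁻¹ := by rw [hxi]
              _ = (c * D.u⁻¹ * c⁻¹) * (c * x * c⁻¹) := by group
              _ = D.u * (c * x * c⁻¹) := by
                  have : c * D.u⁻¹ * c⁻¹ = D.u := by
                    rw [← h1]; group
                  rw [this]
        have hn2 : (⁅D.P, D.P⁆).map (MulAut.conj (D.π ⟨h, hhK⟩)).toMonoidHom ≤ ⁅D.P, D.P⁆ := by
          rw [Subgroup.map_commutator]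
          have : D.P.map (MulAut.conj (D.π ⟨h, hhK⟩)).toMonoidHom ≤ D.P := by
            rintro _ ⟨x, hx, rfl⟩
            exact hn x hx
          exact Subgroup.commutator_mono this this
        exact hn2 ⟨_, hgB, rfl⟩
    exact (D.im_mono key).trans (D.im_pre _).le

/-- the action of `C(z)` on `⟨u⟩` -/
theorem semiconj {g : L} (hg : g * D.z = D.z * g) :
    (SemiconjBy g D.u D.u ∧ SemiconjBy g D.u⁻¹ D.u⁻¹ ∧ SemiconjBy g⁻¹ D.u D.u ∧ SemiconjBy g⁻¹ D.u⁻¹ D.u⁻¹) ∨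
    (SemiconjBy g D.u D.u⁻¹ ∧ SemiconjBy g D.u⁻¹ D.u ∧ SemiconjBy g⁻¹ D.u D.u⁻¹ ∧ SemiconjBy g⁻¹ D.u⁻¹ D.u) := by
  rcases D.inv g hg with h1 | h1
  · left
    have a : SemiconjBy g D.u D.u := mul_inv_eq_iff_eq_mul.1 h1
    exact ⟨a, a.inv_right, a.inv_symm_left, a.inv_right.inv_symm_left⟩
  · right
    have a : SemiconjBy g D.u D.u⁻¹ := mul_inv_eq_iff_eq_mul.1 h1
    have c : SemiconjBy g D.u⁻¹ D.u := by
      have := a.inv_right
      rwa [inv_inv] at this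
    exact ⟨a, c, c.inv_symm_left, a.inv_symm_left⟩

theorem der : ∃ m, TR.dser m (centralizer ({D.z} : Set L)) ≤ D.P := by
  refine ⟨1, ?_⟩
  rw [TR.dser_succ, TR.dser_zero, Subgroup.commutator_le]
  intro x hx y hy
  rw [mem_centralizer_singleton_iff] at hx hy
  rw [memP, commutatorElement_def]
  rcases D.semiconj hx with ⟨a1, a2, a3, a4⟩ | ⟨a1, a2, a3, a4⟩ <;>
    rcases D.semiconj hy with ⟨b1, b2, b3, b4⟩ | ⟨b1, b2, b3, b4⟩
  · exact ((a1.mul_left b1).mul_left a3).mul_left b3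
  · exact ((a1.mul_left b2).mul_left a4).mul_left b3
  · exact ((a2.mul_left b2).mul_left a3).mul_left b3
  · exact ((a2.mul_left b1).mul_left a4).mul_left b3

include D in
theorem out : ¬ 4 ∣ (MulAut.conj : L →* MulAut L).range.index := by
  rw [D.index_inn]; norm_num

include D in
theorem schreier : ∃ n, TR.dser n (⊤ : Subgroup (MulAut L)) ≤ (MulAut.conj : L →* MulAut L).range := by
  refine ⟨1, ?_⟩
  rw [TR.dser_succ, TR.dser_zero, Subgroup.commutator_le]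
  intro α _ β _
  obtain ⟨s, hs⟩ := D.exists_sign
  obtain ⟨h, hh⟩ := D.au_surj ⁅α, β⁆
  rw [← hh, D.au_mem_inner, mem_K_iff, ← hs, hh, map_commutatorElement]
  exact commutatorElement_eq_one_iff_mul_comm.2 (mul_comm _ _)

theorem cardR : Nat.card D.R = 64 := by
  have h := D.card_im τ_mem_Rt Rt_le_K
  rw [card_Rt] at h
  change Nat.card (D.im Rt) = 64
  omega

theorem cardP : Nat.card D.P = 3840 := by
  have h := D.card_im τ_mem_P0t P0t_le_K
  rw [card_P0t] at h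
  change Nat.card (D.im P0t) = 3840
  omega

theorem card_centralizer : Nat.card (centralizer ({D.z} : Set L)) = 7680 := by
  have h := D.card_im τ_mem_Pt Pt_le_K
  rw [card_Pt] at h
  rw [centralizer_z]
  omega

/-- preimages of 2-subgroups -/
theorem pre_two {B : Subgroup L} (hB : IsPGroup 2 B) {g : H0} (hg : g ∈ D.pre B) : ∃ k : ℕ, g ^ 2 ^ k = 1 := by
  obtain ⟨hk, hgB⟩ := D.mem_pre.1 hg
  obtain ⟨k, hk2⟩ := hB ⟨_, hgB⟩
  have h1 : (D.π ⟨g, hk⟩) ^ 2 ^ k = 1 := congrArg Subtype.val hk2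
  have h2 : D.π ⟨g ^ 2 ^ k, K.pow_mem hk _⟩ = 1 := by
    rw [← h1, ← map_pow]; rfl
  rw [π_eq_one] at h2
  refine ⟨k + 1, ?_⟩
  rw [pow_succ, pow_mul]
  rcases h2 with h2 | h2
  · rw [h2, one_pow]
  · rw [h2, τ_sq]

theorem isPGroup_R : IsPGroup 2 D.R := IsPGroup.of_card (n := 6) (by rw [cardR]; norm_num)

/-- a subgroup of `L` normalised by `P` has a preimage normalised by `P0t` -/
theorem pre_norm {B : Subgroup L} (hn : ∀ x ∈ D.P, ∀ c ∈ B, x * c * x⁻¹ ∈ B) :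
    ∀ h ∈ P0t, ∀ g ∈ D.pre B, h * g * h⁻¹ ∈ D.pre B := by
  intro h hh g hg
  have hhK := P0t_le_K hh
  obtain ⟨hgK, hgB⟩ := D.mem_pre.1 hg
  rw [mem_pre]
  refine ⟨K_conj hgK, ?_⟩
  rw [← D.π_conj hhK hgK]
  exact hn _ ((D.π_mem_im τ_mem_P0t hhK).2 hh) _ hgB

theorem core (B : Subgroup L) (hB : B ≤ centralizer ({D.z} : Set L)) (h2 : IsPGroup 2 B)
    (hn : ∀ x ∈ D.P, ∀ c ∈ B, x * c * x⁻¹ ∈ B) : B ≤ D.R := by
  apply D.le_im_of_pre
  apply Cent.core
  · intro h hh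
    obtain ⟨hk, hB'⟩ := D.mem_pre.1 hh
    exact (D.comm_z hk).1 (mem_centralizer_singleton_iff.1 (hB hB'))
  · exact fun g hg => D.pre_two h2 hg
  · exact D.pre_norm hn

/-- images of the elements of `⟨U, τ⟩` -/
theorem four_of {g : H0} (hg : g ∈ K) (h : ∃ e, g = sg e ∨ g = τ * sg e ∨ g = Cent.U * sg e ∨ g = Cent.U * τ * sg e) :
    D.π ⟨g, hg⟩ = 1 ∨ D.π ⟨g, hg⟩ = D.z ∨ D.π ⟨g, hg⟩ = D.u ∨ D.π ⟨g, hg⟩ = D.u⁻¹ := by
  have hsg : ∀ e, D.π ⟨sg e, sg_mem_K e⟩ = 1 ∨ D.π ⟨sg e, sg_mem_K e⟩ = D.z := by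
    intro e; cases e
    · exact Or.inl (D.π_one _)
    · exact Or.inr rfl
  obtain ⟨e, h | h | h | h⟩ := h
  · have h1 : D.π ⟨g, hg⟩ = D.π ⟨sg e, sg_mem_K e⟩ := D.π_congr _ h
    rcases hsg e with h2 | h2
    · exact Or.inl (h1.trans h2)
    · exact Or.inr (Or.inl (h1.trans h2))
  · have h1 : D.π ⟨g, hg⟩ = D.π ⟨sg e, sg_mem_K e⟩ := D.π_congrτ _ _ (by rw [h, τ_comm])
    rcases hsg e with h2 | h2
    · exact Or.inl (h1.trans h2)
    · exact Or.inr (Or.inl (h1.trans h2))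
  · have h1 : D.π ⟨g, hg⟩ = D.u * D.π ⟨sg e, sg_mem_K e⟩ := by
      unfold u; rw [π_mul]; exact D.π_congr _ h
    rcases hsg e with h2 | h2
    · exact Or.inr (Or.inr (Or.inl (by rw [h1, h2, mul_one])))
    · exact Or.inr (Or.inr (Or.inr (by rw [h1, h2, u_inv])))
  · have h1 : D.π ⟨g, hg⟩ = D.u * D.π ⟨sg e, sg_mem_K e⟩ := by
      unfold u; rw [π_mul]; refine D.π_congrτ _ _ ?_
      rw [h, mul_assoc, ← τ_comm (sg e), ← mul_assoc]
    rcases hsg e with h2 | h2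
    · exact Or.inr (Or.inr (Or.inl (by rw [h1, h2, mul_one])))
    · exact Or.inr (Or.inr (Or.inr (by rw [h1, h2, u_inv])))

theorem subs (B : Subgroup L) (hB : B ≤ D.R) (hn : ∀ x ∈ D.P, ∀ c ∈ B, x * c * x⁻¹ ∈ B) :
    (∀ c ∈ B, c = 1 ∨ c = D.z ∨ c = D.u ∨ c = D.u⁻¹) ∨ B = D.R := by
  have hle : D.pre B ≤ Rt := by
    intro h hh
    obtain ⟨hk, hB'⟩ := D.mem_pre.1 hh
    exact (D.π_mem_im τ_mem_Rt hk).1 (hB hB')
  rcases Cent.subs hle (D.pre_norm hn) (D.τ_mem_pre B) with h | h | h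
  · left
    intro c hc
    obtain ⟨⟨g, hg⟩, rfl⟩ := D.surj c
    obtain ⟨e, h1⟩ := h g (D.mem_pre.2 ⟨hg, hc⟩)
    exact D.four_of hg ⟨e, by rcases h1 with h1 | h1 <;> [exact Or.inl h1; exact Or.inr (Or.inl h1)]⟩
  · left
    intro c hc
    obtain ⟨⟨g, hg⟩, rfl⟩ := D.surj c
    exact D.four_of hg (h.2 g (D.mem_pre.2 ⟨hg, hc⟩))
  · right
    rw [← D.im_pre B, h]
    rfl

/-- elements of `C(z)` centralising `R` -/
theorem cR' (x : L) (hx : x * D.z = D.z * x) (hr : ∀ r ∈ D.R, x * r = r * x) :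
    x = 1 ∨ x = D.z ∨ x = D.u ∨ x = D.u⁻¹ := by
  obtain ⟨⟨h, hk⟩, rfl⟩ := D.surj x
  have hP := (D.comm_z hk).1 hx
  apply D.four_of hk
  apply fixR (mem_Pt.1 hP).1
  intro r hrR
  have hrK := Rt_le_K hrR
  have h1 := hr _ ((D.π_mem_im τ_mem_Rt hrK).2 hrR)
  rw [← mul_inv_eq_iff_eq_mul, π_conj, π_eq] at h1
  exact h1

theorem cR (x : L) (hx : x ∈ D.P) (hr : ∀ r ∈ D.R, x * r = r * x) :
    x = 1 ∨ x = D.z ∨ x = D.u ∨ x = D.u⁻¹ := D.cR' x (D.Pcomm hx) hr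

/-- automorphisms fixing `z` -/
theorem au_z {h : H0} (hh : D.au h D.z = D.z) : h * b = b * h := by
  unfold z at hh
  rw [au_π', π_eq] at hh
  rcases hh with h1 | h1
  · exact mul_inv_eq_iff_eq_mul.1 h1
  · exact absurd h1 (not_conj_bτ h)

/-- automorphisms trivial on `R` -/
theorem autR (α : MulAut L) (hα : ∀ r ∈ D.R, α r = r) :
    ∃ c : L, (c = 1 ∨ c = D.z ∨ c = D.u ∨ c = D.u⁻¹) ∧ α = MulAut.conj c := by
  obtain ⟨h, rfl⟩ := D.au_surj α
  have hb := D.au_z (hα _ D.zR)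
  have h1 := fixR hb (by
    intro r hr
    have hrK := Rt_le_K hr
    have h2 := hα _ ((D.π_mem_im τ_mem_Rt hrK).2 hr)
    rw [au_π', π_eq] at h2
    exact h2)
  have hK : h ∈ K := by
    obtain ⟨e, h2 | h2 | h2 | h2⟩ := h1
    · rw [h2]; exact sg_mem_K e
    · rw [h2]; exact K.mul_mem τ_mem_K (sg_mem_K e)
    · rw [h2]; exact K.mul_mem U_mem_K (sg_mem_K e)
    · rw [h2]; exact K.mul_mem (K.mul_mem U_mem_K τ_mem_K) (sg_mem_K e)
  exact ⟨D.π ⟨h, hK⟩, D.four_of hK h1, D.au_K ⟨h, hK⟩⟩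

theorem R_le_sylow (S : Sylow 2 L) (hS : ∀ x ∈ S, x * D.z = D.z * x) : D.R ≤ S := by
  have := D.finite
  exact normal_le_sylow (centralizer ({D.z} : Set L)) D.R
    (fun c hc q hq => D.Rn' (mem_centralizer_singleton_iff.1 hc) hq) D.isPGroup_R S
    (fun x hx => mem_centralizer_singleton_iff.2 (hS x hx))

theorem sylAut (S : Sylow 2 L) (hS : ∀ x ∈ S, x * D.z = D.z * x) (α : MulAut L) (hα : ∀ x ∈ S, α x = x) :
    ∃ c : L, α = MulAut.conj c := by
  obtain ⟨c, -, hc⟩ := D.autR α fun r hr => hα r (D.R_le_sylow S hS hr)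
  exact ⟨c, hc⟩

theorem syl : ∃ S : Sylow 2 L, D.z ∈ S ∧ (∀ x ∈ S, x * D.z = D.z * x) ∧
    ∀ y ∈ S, (∀ x ∈ S, x * y = y * x) → y = 1 ∨ y = D.z := by
  have := D.finite
  have hidx : (centralizer ({D.z} : Set L)).index = 5775 := by
    have h1 := (centralizer ({D.z} : Set L)).card_mul_index
    rw [card_centralizer, D.card] at h1
    omega
  obtain ⟨S, hS⟩ := exists_sylow_le (centralizer ({D.z} : Set L)) (by
    rw [hidx]; decide)
  have hS' : ∀ x ∈ S, x * D.z = D.z * x := fun x hx => mem_centralizer_singleton_iff.1 (hS hx)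
  have hR := D.R_le_sylow S hS'
  refine ⟨S, hR D.zR, hS', fun y hy hc => ?_⟩
  have hnot : ¬ (S : Subgroup L) ≤ D.P := by
    intro hle
    have h1 : Nat.card (S : Subgroup L) = 512 := by
      rw [S.card_eq_multiplicity, D.card]
      have : (44352000 : ℕ).factorization 2 = 9 := by
        have : (44352000 : ℕ) = 2 ^ 9 * 86625 := by norm_num
        rw [this, Nat.factorization_mul (by norm_num) (by norm_num), Nat.Prime.factorization_pow Nat.prime_two]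
        simp only [Finsupp.coe_add, Pi.add_apply, Finsupp.single_eq_same]
        rw [Nat.factorization_eq_zero_of_not_dvd (by norm_num)]
      rw [this]; norm_num
    have h2 := Subgroup.card_dvd_of_le hle
    rw [h1, cardP] at h2
    exact absurd h2 (by norm_num)
  have hnu : ∀ v : L, (v = D.u ∨ v = D.u⁻¹) → ¬ ∀ x ∈ S, x * v = v * x := by
    intro v hv hx
    apply hnot
    intro x hxS
    rw [memP]
    have h1 := hx x hxS
    rcases hv with rfl | rfl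
    · exact h1
    · have h2 : Commute x D.u⁻¹ := h1
      have h3 := h2.inv_right
      rw [inv_inv] at h3
      exact h3
  rcases D.cR' y (hS' y hy) (fun r hr => (hc r (hR hr)).symm) with h | h | h | h
  · exact Or.inl h
  · exact Or.inr h
  · exact absurd hc (hnu y (Or.inl h))
  · exact absurd hc (hnu y (Or.inr h))

/-- elements `h` of `C(b)` trivial on `P / R` -/
theorem mem_Wt_of {h : H0} (hb : h * b = b * h) (ht : ∀ x ∈ D.P, x⁻¹ * D.au h x ∈ D.R) : h ∈ Wt := by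
  apply triv hb
  intro p hp
  have hpK := P0t_le_K hp
  have h1 := ht _ ((D.π_mem_im τ_mem_P0t hpK).2 hp)
  rw [au_π', π_inv, π_mul] at h1
  have h2 : p⁻¹ * (h * p * h⁻¹) ∈ Rt := (D.π_mem_im τ_mem_Rt _).1 h1
  have h3 := Rt_conj (mem_Pt.1 (P0t_le hp)).1 h2
  have h4 : p * (p⁻¹ * (h * p * h⁻¹)) * p⁻¹ = h * p * h⁻¹ * p⁻¹ := by group
  rw [h4] at h3
  exact Rt_le_Wt h3

theorem aut (α : MulAut L) (hz : α D.z = D.z) (ht : ∀ x ∈ D.P, x⁻¹ * α x ∈ D.R) :
    (∃ r ∈ D.R, α = MulAut.conj r) ∨ α D.u = D.u⁻¹ := by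
  obtain ⟨h, rfl⟩ := D.au_surj α
  have hb := D.au_z hz
  have hW := D.mem_Wt_of hb ht
  by_cases hK : h ∈ K
  · exact Or.inl ⟨D.π ⟨h, hK⟩, (D.π_mem_im τ_mem_Rt hK).2 ⟨hW, hK⟩, D.au_K ⟨h, hK⟩⟩
  · right
    have h1 := Wt_inv hW hK
    have h2 : h * Cent.U * h⁻¹ = Cent.U * b := by
      have h3 : Cent.U = h * Cent.U * h⁻¹ * b := by
        calc Cent.U = (Cent.U * h) * h⁻¹ := by group
          _ = h * (Cent.U * b) * h⁻¹ := by rw [h1]
          _ = h * Cent.U * (b * h⁻¹) := by group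
          _ = h * Cent.U * (h⁻¹ * b) := by
              have : b * h⁻¹ = h⁻¹ * b := by
                rw [eq_inv_mul_iff_mul_eq, ← mul_assoc, hb, mul_assoc, mul_inv_cancel, mul_one]
              rw [this]
          _ = _ := by group
      calc h * Cent.U * h⁻¹ = h * Cent.U * h⁻¹ * (b * b) := by rw [b_sq, mul_one]
        _ = (h * Cent.U * h⁻¹ * b) * b := by group
        _ = _ := by rw [← h3]
    rw [u_inv]
    unfold u z
    rw [au_π', π_mul]
    exact D.π_congr _ h2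

/-- `w = k⁻¹ z k` -/
theorem w_eq : D.k⁻¹ * D.z * D.k = D.π ⟨w0, (mem_Pt.1 w0_mem.1).2⟩ := by
  unfold k z
  rw [π_inv, π_mul, π_mul]
  exact D.π_congr _ rfl

theorem z1_eq : D.k * D.z * D.k⁻¹ = D.π ⟨x0, (mem_Pt.1 x0_mem.1).2⟩ := by
  unfold k z
  rw [π_conj]
  exact D.π_congr _ rfl

theorem kz : D.k⁻¹ * D.z * D.k * D.z = D.z * (D.k⁻¹ * D.z * D.k) := by
  rw [w_eq, D.comm_z]
  exact w0_mem.1

theorem kP : D.k⁻¹ * D.z * D.k ∉ D.P := by
  rw [w_eq]
  exact fun h => w0_mem.2 ((D.π_mem_im τ_mem_P0t _).1 h)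

theorem kz' : D.k * D.z * D.k⁻¹ * D.z = D.z * (D.k * D.z * D.k⁻¹) := by
  rw [z1_eq, D.comm_z]
  exact x0_mem.1

theorem kP' : D.k * D.z * D.k⁻¹ ∉ D.P := by
  rw [z1_eq]
  exact fun h => x0_mem.2 ((D.π_mem_im τ_mem_P0t _).1 h)

theorem y3 (α : MulAut L) (hα : ∀ g : L, α ≠ MulAut.conj g) (hz : α D.z = D.z) (hu : α D.u = D.u⁻¹) :
    ∃ p ∈ D.P, ∀ x ∈ D.P, (p * x * p⁻¹)⁻¹ * α x ∈ D.R := by
  obtain ⟨h, rfl⟩ := D.au_surj α
  have hb := D.au_z hz
  have hK : h ∉ K := fun hK => hα _ (D.au_K ⟨h, hK⟩)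
  have hU : Cent.U * h = h * (Cent.U * b) ∨ Cent.U * h = h * (Cent.U * b * τ) := by
    rw [u_inv] at hu
    unfold u z at hu
    rw [au_π', π_mul, π_eq] at hu
    have hbi : b * h = h * b := hb.symm
    rcases hu with h1 | h1
    · left
      rw [mul_inv_eq_iff_eq_mul] at h1
      have h2 : h * (Cent.U * b) = (h * Cent.U) * b := by group
      rw [h2, h1]
      calc Cent.U * h = Cent.U * h * (b * b) := by rw [b_sq, mul_one]
        _ = Cent.U * (h * b) * b := by group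
        _ = Cent.U * b * h * b := by rw [hb]; group
    · right
      rw [mul_inv_eq_iff_eq_mul] at h1
      have h2 : h * (Cent.U * b * τ) = (h * Cent.U) * b * τ := by group
      rw [h2, h1]
      calc Cent.U * h = Cent.U * h * (b * b) * (τ * τ) := by rw [b_sq, τ_mul_τ, mul_one, mul_one]
        _ = Cent.U * (h * b) * (b * τ) * τ := by group
        _ = Cent.U * b * h * (τ * b) * τ := by rw [hb, τ_comm b]; group
        _ = Cent.U * b * (h * τ) * b * τ := by group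
        _ = Cent.U * b * τ * h * b * τ := by rw [τ_comm h]; group
  obtain ⟨p, hp, hpy⟩ := inner hb hK hU
  have hpK := P0t_le_K hp
  refine ⟨D.π ⟨p, hpK⟩, (D.π_mem_im τ_mem_P0t hpK).2 hp, ?_⟩
  intro x hx
  obtain ⟨y, hyK, hy, rfl⟩ := D.mem_im.1 hx
  obtain ⟨h1, h2⟩ := hpy y
  rw [π_conj, au_π', π_inv, π_mul]
  apply (D.π_mem_im τ_mem_Rt _).2
  rw [h1]
  refine ⟨?_, ?_⟩
  · -- in `W`
    have hc : (p * y⁻¹ * p⁻¹) * b = b * (p * y⁻¹ * p⁻¹) := by
      have c1 : Commute p b := (mem_Pt.1 (P0t_le hp)).1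
      have c2 : Commute y b := (mem_Pt.1 (P0t_le hy)).1
      exact ((c1.mul_left c2.inv_left).mul_left c1.inv_left)
    have h3 := Wt_conj hc h2
    have h4 : (p * y⁻¹ * p⁻¹) * (h * p⁻¹) * (p * y⁻¹ * p⁻¹)⁻¹ = (p * y⁻¹ * p⁻¹) * (h * p⁻¹) * (p * y * p⁻¹) := by
      group
    rw [h4] at h3
    exact Wt.mul_mem h3 (Wt.inv_mem h2)
  · -- in `K`
    rw [← h1]
    exact K.mul_mem (K.inv_mem (K_conj hyK)) (K_conj hyK)

theorem y4 (x : L) (hx : x * D.z = D.z * x) (ht : ∀ y ∈ D.P, y⁻¹ * (x * y * x⁻¹) ∈ D.R) : x ∈ D.R := by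
  obtain ⟨⟨h, hk⟩, rfl⟩ := D.surj x
  have hP := (D.comm_z hk).1 hx
  have hW : h ∈ Wt := by
    apply D.mem_Wt_of (mem_Pt.1 hP).1
    intro y hy
    have h1 := ht y hy
    have h2 : D.au h y = D.π ⟨h, hk⟩ * y * (D.π ⟨h, hk⟩)⁻¹ := by
      rw [← MulAut.conj_apply, ← D.au_K ⟨h, hk⟩]
    rw [h2]
    exact h1
  exact (D.π_mem_im τ_mem_Rt hk).2 ⟨hW, hk⟩

end Mod

end Cfsg.Agent.KFacts.HS
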