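import Cfsg.Agent.KFacts.HS.Sheet

set_option autoImplicit false

/-!
# Facts on `HS`: the class 2B, the two classes of involutions, and the rest of the fact sheet
-/

namespace Cfsg.Agent.KFacts.HS

open Cfsg.Agent.HN Cfsg.Agent.HN.Pres Cfsg.Agent.HN.HS100 Cfsg.Agent.HN.H0Basic
open Cfsg.Agent.HN.XMat Cfsg.Agent.HN.WMask Cfsg.Agent.KFacts.HS.Cent Cfsg.Agent.KFacts.HS.TwoB
open Cfsg.Agent.HN.P1408 hiding U
open Cfsg.Agent.OddHalf Cfsg.Agent.Lib.AltCarmichael Equiv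
open Subgroup (centralizer mem_centralizer_singleton_iff)
open scoped commutatorElement

/-! ### the alternating group of degree 6 -/

theorem A6_na : ¬ ∀ a c : A6, a * c = c * a := by
  intro h
  have h1 := congrArg (Subtype.val : A6 → Perm (Fin 6))
    (h ⟨cyc 4 0, cyc_mem 4 0 (by norm_num)⟩ ⟨cyc 4 1, cyc_mem 4 1 (by norm_num)⟩)
  have h2 : cyc 4 0 * cyc 4 1 = cyc 4 1 * cyc 4 0 := h1
  revert h2
  decide +kernel

theorem A6_comm : ⁅(⊤ : Subgroup A6), (⊤ : Subgroup A6)⁆ = ⊤ := by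
  rcases (inferInstance : (⁅(⊤ : Subgroup A6), (⊤ : Subgroup A6)⁆).Normal).eq_bot_or_eq_top with h | h
  · exfalso
    apply A6_na
    intro a c
    have h1 : ⁅a, c⁆ ∈ ⁅(⊤ : Subgroup A6), (⊤ : Subgroup A6)⁆ :=
      Subgroup.commutator_mem_commutator (Subgroup.mem_top _) (Subgroup.mem_top _)
    rw [h, Subgroup.mem_bot, commutatorElement_eq_one_iff_mul_comm] at h1
    exact h1
  · exact h

theorem A6_center {a : A6} (h : ∀ c : A6, a * c = c * a) : a = 1 := by
  rcases (inferInstance : (Subgroup.center A6).Normal).eq_bot_or_eq_top with h1 | h1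
  · have h2 : a ∈ Subgroup.center A6 := Subgroup.mem_center_iff.2 fun c => (h c).symm
    rw [h1, Subgroup.mem_bot] at h2
    exact h2
  · exfalso
    apply A6_na
    intro a c
    have h2 : c ∈ Subgroup.center A6 := by rw [h1]; exact Subgroup.mem_top _
    exact Subgroup.mem_center_iff.1 h2 a

theorem card_A6 : Nat.card A6 = 360 := by
  have h := nat_card_alternatingGroup (α := Fin 6)
  have h6 : Nat.factorial 6 = 720 := by decide
  rw [Nat.card_eq_fintype_card (α := Fin 6), Fintype.card_fin, h6] at h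
  exact h

namespace Mod

variable {L : Type*} [Group L] (D : Mod L)

/-! ### the action on 100 points -/

/-- the permutation representation of degree 100 -/
noncomputable def φL : L →* Perm (Fin 100) :=
  D.π.liftOfSurjective D.surj ⟨φ.comp K.subtype, by
    intro k hk
    have h1 := (D.ker k).1 hk
    rw [← φ_eq_one_iff] at h1
    exact h1⟩

theorem φL_π (k : K) : D.φL (D.π k) = φ k := MonoidHom.liftOfRightInverse_comp_apply _ _ _ _ k

theorem φL_inj : Function.Injective D.φL := by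
  rw [injective_iff_map_eq_one]
  intro l hl
  obtain ⟨k, rfl⟩ := D.surj l
  rw [φL_π, φ_eq_one_iff] at hl
  exact (D.ker k).2 hl

/-! ### the involution `s0` of class 2B -/

/-- the involution below `g0` -/
def s0 : L := D.π ⟨g0, g0_mem_K⟩

/-- `A₆` in `L` -/
noncomputable def ψL : A6 →* L := D.π.comp (psi.codRestrict K psi_mem_K)

theorem ψL_apply (a : A6) : D.ψL a = D.π ⟨psi a, psi_mem_K a⟩ := rfl

/-- the subgroup `A₆` -/
noncomputable def B6 : Subgroup L := D.ψL.range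

theorem ψL_inj : Function.Injective D.ψL := by
  rw [← MonoidHom.ker_eq_bot_iff]
  rcases (inferInstance : D.ψL.ker.Normal).eq_bot_or_eq_top with hb | ht
  · exact hb
  · exfalso
    have h1 : (⟨cyc 4 0, cyc_mem 4 0 (by norm_num)⟩ : A6) ∈ D.ψL.ker := by rw [ht]; exact Subgroup.mem_top _
    rw [MonoidHom.mem_ker, ψL_apply, D.π_eq_one, psi_cyc (by norm_num), ← hw_nil, ← hw_τ] at h1
    rcases h1 with h1 | h1
    · have h3 := eqw_of_hw_eq (chkp 0 (by norm_num)).1 rfl h1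
      rw [chk1.1] at h3
      exact Bool.noConfusion h3
    · have h3 := eqw_of_hw_eq (chkp 0 (by norm_num)).1 (by decide) h1
      rw [chk1.2] at h3
      exact Bool.noConfusion h3

theorem s0_comm {l : L} (hl : l ∈ D.B6) : l * D.s0 = D.s0 * l := by
  obtain ⟨a, rfl⟩ := hl
  rw [ψL_apply, s0, π_mul, π_mul]
  exact D.π_congr _ (psi_g0 a)

theorem s0_sq : D.s0 * D.s0 = 1 := by
  rw [s0, π_mul, π_eq_one]
  exact Or.inr g0_sq

theorem s0_ne : D.s0 ≠ 1 := by
  rw [s0, Ne, π_eq_one]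
  have h1 := g0_sq
  rintro (h | h)
  · rw [h, one_mul] at h1
    exact τ_ne_one h1.symm
  · rw [h, τ_mul_τ] at h1
    exact τ_ne_one h1.symm

theorem s0_notMem : D.s0 ∉ D.B6 := by
  rintro ⟨a, ha⟩
  have h1 : a = 1 := by
    apply A6_center
    intro c
    apply D.ψL_inj
    rw [map_mul, map_mul, ha]
    exact (D.s0_comm ⟨c, rfl⟩).symm
  rw [h1, map_one] at ha
  exact D.s0_ne ha.symm

theorem card_B6 : Nat.card D.B6 = 360 := by
  rw [← card_A6]
  exact (Nat.card_congr (MonoidHom.ofInjective D.ψL_inj).toEquiv).symm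

theorem B6_perf : ⁅D.B6, D.B6⁆ = D.B6 := by
  have h1 : D.B6 = (⊤ : Subgroup A6).map D.ψL := MonoidHom.range_eq_map _
  rw [h1, ← Subgroup.map_commutator, A6_comm]

theorem B6_ne : D.B6 ≠ ⊥ := by
  intro h
  have h1 := D.card_B6
  rw [h, Subgroup.card_bot] at h1
  exact absurd h1 (by norm_num)

theorem B6_two (B : Subgroup L) (hB : B ≤ D.B6) (h2 : IsPGroup 2 B) (hn : ∀ l ∈ D.B6, ∀ c ∈ B, l * c * l⁻¹ ∈ B) :
    B = ⊥ := by
  have hN : (B.comap D.ψL).Normal := ⟨fun c hc a => by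
    have := hn (D.ψL a) ⟨a, rfl⟩ _ hc
    rw [Subgroup.mem_comap, map_mul, map_mul, map_inv]
    exact this⟩
  have hBm : B = (B.comap D.ψL).map D.ψL := by
    rw [Subgroup.map_comap_eq]
    exact (inf_eq_right.2 hB).symm
  rcases hN.eq_bot_or_eq_top with h | h
  · rw [hBm, h, Subgroup.map_bot]
  · exfalso
    have h3 : B = D.B6 := by
      rw [hBm, h, ← MonoidHom.range_eq_map]; rfl
    have := D.finite
    obtain ⟨n, hn2⟩ := IsPGroup.iff_card.1 h2
    rw [h3, card_B6] at hn2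
    have h5 : 5 ∣ 2 ^ n := by rw [← hn2]; norm_num
    exact absurd (Nat.prime_dvd_prime_iff_eq (by norm_num) Nat.prime_two |>.1 (Nat.Prime.dvd_of_dvd_pow (by norm_num) h5))
      (by norm_num)

theorem card_cent_s0 : Nat.card (centralizer ({D.s0} : Set L)) ≤ 2880 := by
  let C := centralizer ({D.s0} : Set L)
  have h1 : Nat.card (C.map D.φL) = Nat.card C := Subgroup.card_map_of_injective D.φL_inj
  have hle : C.map D.φL ≤ CentUp.cenA [g0w] := by
    rintro _ ⟨l, hl, rfl⟩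
    obtain ⟨k, rfl⟩ := D.surj l
    rw [φL_π]
    refine Subgroup.mem_inf.2 ⟨range_le ⟨k, rfl⟩, ?_⟩
    rw [CentUp.wset_singleton, Set.image_singleton, mem_centralizer_singleton_iff]
    have h2 := congrArg D.φL (mem_centralizer_singleton_iff.1 hl)
    rw [map_mul, map_mul, φL_π, s0, φL_π] at h2
    exact h2
  have hsign : ∀ g ∈ C.map D.φL, Perm.sign g = 1 := by
    rintro _ ⟨l, -, rfl⟩
    obtain ⟨k, rfl⟩ := D.surj l
    rw [φL_π]
    exact k.2
  have hz : φ gz ∈ CentUp.cenA [g0w] := by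
    refine Subgroup.mem_inf.2 ⟨range_le ⟨gz, rfl⟩, ?_⟩
    rw [CentUp.wset_singleton, Set.image_singleton, mem_centralizer_singleton_iff]
    have h2 := congrArg φ z_g0
    rw [map_mul, map_mul, map_mul, φ_τ, mul_one] at h2
    exact h2
  have h3 := Cfsg.Agent.SporadicA.PermTab.two_mul_card_le hle hsign hz (by rw [φ_gz]; exact sign_Z)
  have h4 := cG_le
  change Nat.card C ≤ 2880
  omega

theorem dser_s0 : ∃ m, TR.dser m (centralizer ({D.s0} : Set L)) ≤ D.B6 := by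
  have := D.finite
  apply exists_dser_le _ _ D.s0
  · exact mem_centralizer_singleton_iff.2 rfl
  · exact fun l hl => mem_centralizer_singleton_iff.2 (D.s0_comm hl)
  · exact fun x hx => mem_centralizer_singleton_iff.1 hx
  · exact D.s0_sq
  · exact D.s0_notMem
  · rw [card_B6]
    exact D.card_cent_s0

/-- the property of the involutions of class 2B -/
def IsB (s : L) : Prop :=
  ∃ B : Subgroup L, (∀ l ∈ B, l * s = s * l) ∧ ⁅B, B⁆ = B ∧ B ≠ ⊥ ∧
      (∃ m, TR.dser m (centralizer ({s} : Set L)) ≤ B) ∧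
      ∀ C : Subgroup L, C ≤ B → IsPGroup 2 C → (∀ l ∈ B, ∀ c ∈ C, l * c * l⁻¹ ∈ C) → C = ⊥

theorem isB_s0 : IsB D.s0 :=
  ⟨D.B6, fun _ hl => D.s0_comm hl, D.B6_perf, D.B6_ne, D.dser_s0, D.B6_two⟩

theorem _root_.Cfsg.Agent.KFacts.HS.IsB_map {s : L} (h : IsB s) (α : MulAut L) : IsB (α s) := by
  obtain ⟨B, h1, h2, h3, ⟨m, h4⟩, h5⟩ := h
  refine ⟨B.map α.toMonoidHom, ?_, ?_, ?_, ⟨m, ?_⟩, ?_⟩
  · rintro _ ⟨l, hl, rfl⟩
    change α l * α s = α s * α l
    rw [← map_mul, ← map_mul, h1 l hl]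
  · rw [← Subgroup.map_commutator, h2]
  · intro h
    rw [Subgroup.map_eq_bot_iff_of_injective _ α.injective] at h
    exact h3 h
  · have h6 : centralizer ({α s} : Set L) = (centralizer ({s} : Set L)).map α.toMonoidHom := by
      ext l
      rw [mem_centralizer_singleton_iff]
      constructor
      · intro hl
        refine ⟨α⁻¹ l, ?_, MulAut.apply_inv_self L α l⟩
        refine mem_centralizer_singleton_iff.2 ?_
        have h7 := congrArg (α⁻¹ : MulAut L) hl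
        rw [map_mul, map_mul] at h7
        have h8 : (α⁻¹ : MulAut L) (α s) = s := MulAut.inv_apply_self L α s
        rwa [h8] at h7
      · rintro ⟨x, hx, rfl⟩
        change α x * α s = α s * α x
        rw [← map_mul, ← map_mul, mem_centralizer_singleton_iff.1 hx]
    rw [h6, TR.dser_map]
    exact Subgroup.map_mono h4
  · intro C hC h6 h7
    have h8 : (C.comap α.toMonoidHom) = ⊥ := by
      apply h5
      · intro x hx
        obtain ⟨y, hy, hxy⟩ := hC hx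
        have : y = x := α.injective hxy
        exact this ▸ hy
      · exact h6.comap_of_injective _ α.injective
      · intro l hl c hc
        have h9 := h7 (α l) ⟨l, hl, rfl⟩ _ hc
        change α (l * c * l⁻¹) ∈ C
        rw [map_mul, map_mul, map_inv]
        exact h9
    rw [eq_bot_iff]
    intro x hx
    have h9 : (α⁻¹ : MulAut L) x ∈ C.comap α.toMonoidHom := by
      change α ((α⁻¹ : MulAut L) x) ∈ C
      rwa [MulAut.apply_inv_self]
    rw [h8, Subgroup.mem_bot] at h9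
    have h10 := congrArg α h9
    rw [MulAut.apply_inv_self, map_one] at h10
    rw [h10]
    exact Subgroup.one_mem _

/-! ### the two classes of involutions -/

/-- conjugacy under `Aut(L)` is conjugacy in `L` for the class of `z` -/
theorem conj_z {l : L} (h : ∃ c : H0, l = D.au c D.z) : ∃ c : L, l = c * D.z * c⁻¹ := by
  obtain ⟨c, rfl⟩ := h
  by_cases hc : c ∈ K
  · exact ⟨D.π ⟨c, hc⟩, by rw [← MulAut.conj_apply, ← D.au_K ⟨c, hc⟩]⟩
  · have h4 : WMask.R 4 ∉ K := by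
      rw [R_mem_K_iff (by norm_num)]
      decide +kernel
    have hcK : c * WMask.R 4 ∈ K := by
      rw [mem_K_iff] at *
      rw [map_mul, (Int.units_eq_one_or (sgn c)).resolve_left hc, (Int.units_eq_one_or (sgn (WMask.R 4))).resolve_left h4]
      rfl
    refine ⟨D.π ⟨c * WMask.R 4, hcK⟩, ?_⟩
    rw [← MulAut.conj_apply, ← D.au_K ⟨c * WMask.R 4, hcK⟩, z, au_π', au_π']
    apply D.π_congr
    change c * b * c⁻¹ = c * WMask.R 4 * b * (c * WMask.R 4)⁻¹
    rw [mul_assoc c (WMask.R 4), ← R_b]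
    group

/-- `w u` -/
theorem wu_eq : D.k⁻¹ * D.z * D.k * D.u =
    D.π ⟨w0 * Cent.U, K.mul_mem (mem_Pt.1 w0_mem.1).2 U_mem_K⟩ := by
  rw [w_eq, u, π_mul]

theorem w0U_sq : w0 * Cent.U * (w0 * Cent.U) = τ := by
  have h1 : w0 * Cent.U = hw (kwi ++ bw ++ kw ++ rmw 28) := by
    rw [hw_append, hw_append, hw_append, w0, kk_inv]; rfl
  rw [h1, ← hw_append, ← hw_τ]
  exact hw_eq (by decide +kernel)

/-- elements with square `τ` are conjugate in `H0` -/
theorem isConj_of_sq {g h : H0} (hg : g * g = τ) (hh : h * h = τ) : IsConj g h :=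
  (Syl.isConj_of_sq_eq_τ (by rw [pow_two, hg])).symm.trans (Syl.isConj_of_sq_eq_τ (by rw [pow_two, hh]))

/-- conjugacy for the class 2B -/
theorem conj_wu {h : H0} (hk : h ∈ K) (h2 : h * h = τ) :
    ∃ c : L, D.π ⟨h, hk⟩ = c * (D.k⁻¹ * D.z * D.k * D.u) * c⁻¹ := by
  rw [wu_eq]
  obtain ⟨c, hc⟩ := isConj_iff.1 (isConj_of_sq w0U_sq h2)
  by_cases hcK : c ∈ K
  · refine ⟨D.π ⟨c, hcK⟩, ?_⟩
    rw [π_conj]
    exact D.π_congr _ hc.symm
  · -- an outer element commuting with `w0 U` modulo `τ`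
    obtain ⟨e, he⟩ := isConj_iff.1 (isConj_of_sq g0_sq w0U_sq)
    have hn : e * gz * e⁻¹ ∉ K := by
      intro h1
      have h3 : e⁻¹ * (e * gz * e⁻¹) * e⁻¹⁻¹ = gz := by group
      exact gz_not_mem (h3 ▸ K_conj h1)
    have hcn : c * (e * gz * e⁻¹) ∈ K := by
      rw [mem_K_iff] at *
      rw [map_mul, (Int.units_eq_one_or (sgn c)).resolve_left hcK,
        (Int.units_eq_one_or (sgn (e * gz * e⁻¹))).resolve_left hn]
      rfl
    refine ⟨D.π ⟨c * (e * gz * e⁻¹), hcn⟩, ?_⟩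
    rw [π_conj]
    refine D.π_congrτ _ _ ?_
    have h3 : e * gz * e⁻¹ * (w0 * Cent.U) = w0 * Cent.U * (e * gz * e⁻¹) * τ := by
      rw [← he]
      calc e * gz * e⁻¹ * (e * g0 * e⁻¹) = e * (gz * g0) * e⁻¹ := by group
        _ = e * (g0 * gz) * (τ * e⁻¹) := by rw [z_g0]; group
        _ = e * (g0 * gz) * (e⁻¹ * τ) := by rw [τ_comm]
        _ = _ := by group
    have h4 : c * (e * gz * e⁻¹) * (w0 * Cent.U) * (c * (e * gz * e⁻¹))⁻¹ = h * τ := by
      calc c * (e * gz * e⁻¹) * (w0 * Cent.U) * (c * (e * gz * e⁻¹))⁻¹ =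
          c * ((e * gz * e⁻¹) * (w0 * Cent.U)) * (e * gz * e⁻¹)⁻¹ * c⁻¹ := by group
        _ = c * (w0 * Cent.U) * (e * gz * e⁻¹) * (τ * (e * gz * e⁻¹)⁻¹) * c⁻¹ := by rw [h3]; group
        _ = c * (w0 * Cent.U) * (τ * c⁻¹) := by rw [← τ_comm (e * gz * e⁻¹)⁻¹]; group
        _ = c * (w0 * Cent.U) * c⁻¹ * τ := by rw [← τ_comm]; group
        _ = h * τ := by rw [hc]
    rw [h4, mul_assoc, τ_mul_τ, mul_one]

theorem inv2 (x : L) (hx : x * x = 1) (h1 : x ≠ 1) :
    (∃ c, x = c * D.z * c⁻¹) ∨ ∃ c, x = c * (D.k⁻¹ * D.z * D.k * D.u) * c⁻¹ := by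
  obtain ⟨⟨h, hk⟩, rfl⟩ := D.surj x
  rw [π_mul, π_eq_one] at hx
  rw [Ne, π_eq_one] at h1
  push Not at h1
  rcases hx with hx | hx
  · left
    have hnz : ¬ IsConj gz h := by
      intro h2
      obtain ⟨c, hc⟩ := isConj_iff.1 h2
      have h3 : c⁻¹ * h * c⁻¹⁻¹ = gz := by rw [← hc]; group
      exact gz_not_mem (h3 ▸ K_conj hk)
    have hnd : ¬ IsConj Syl.d h := by
      intro h2
      obtain ⟨c, hc⟩ := isConj_iff.1 h2
      have h3 : c⁻¹ * h * c⁻¹⁻¹ = Syl.d := by rw [← hc]; group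
      have h4 : Syl.d ∉ K := not_mem_K_of_par (a := [1, 3, 1, 2, 1, 4, 3, 4, 2, 4]) (by decide) (by decide)
      exact h4 (h3 ▸ K_conj hk)
    apply D.conj_z
    rcases Syl.involution_cases (g := h) (by rw [pow_two, hx]) with h2 | h2 | h2 | h2 | h2 | h2
    · exact absurd h2 h1.1
    · exact absurd h2 h1.2
    all_goals first
      | exact absurd h2 hnz
      | exact absurd h2 hnd
      | (obtain ⟨c, hc⟩ := isConj_iff.1 h2
         refine ⟨c, ?_⟩
         rw [z, au_π']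
         first
          | exact D.π_congr _ hc.symm
          | exact D.π_congrτ _ _ (by
              rw [← hc, b_eq]
              calc c * Syl.a * c⁻¹ = c * Syl.a * (τ * τ) * c⁻¹ := by rw [τ_mul_τ, mul_one]
                _ = c * (Syl.a * τ) * (τ * c⁻¹) := by group
                _ = _ := by rw [← τ_comm]; group))
  · right
    exact D.conj_wu hk hx

/-! ### the remaining fields -/

theorem y1 (s : L) (hs : s * D.z = D.z * s) (hsP : s ∉ D.P) (hss : s * s = 1) :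
    (∃ c : L, c * D.z = D.z * c ∧ s = c * (D.k⁻¹ * D.z * D.k) * c⁻¹) ∨ IsB s := by
  obtain ⟨⟨h, hk⟩, rfl⟩ := D.surj s
  have hP := (D.comm_z hk).1 hs
  have hP0 : h ∉ P0t := fun h0 => hsP ((D.π_mem_im τ_mem_P0t hk).2 h0)
  rw [π_mul, π_eq_one] at hss
  rcases hss with hss | hss
  · left
    obtain ⟨g, hg, hgh⟩ := exists_conj hP hP0 hss
    have hgK := P0t_le_K hg
    refine ⟨(D.π ⟨g, hgK⟩)⁻¹, ?_, ?_⟩
    · have h1 : D.π ⟨g, hgK⟩ * D.z = D.z * D.π ⟨g, hgK⟩ := (D.comm_z hgK).2 (P0t_le hg)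
      rw [inv_mul_eq_iff_eq_mul, ← mul_assoc, h1, mul_assoc, mul_inv_cancel, mul_one]
    · have h1 : D.π ⟨g, hgK⟩ * D.π ⟨h, hk⟩ * (D.π ⟨g, hgK⟩)⁻¹ = D.k⁻¹ * D.z * D.k := by
        rw [π_conj, w_eq]
        rcases hgh with h2 | h2
        · exact D.π_congr _ h2
        · exact D.π_congrτ _ _ h2
      rw [← h1]; group
  · right
    obtain ⟨c, hc⟩ := isConj_iff.1 (isConj_of_sq g0_sq hss)
    have h1 : D.au c D.s0 = D.π ⟨h, hk⟩ := by
      rw [s0, au_π']
      exact D.π_congr _ hc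
    rw [← h1]
    exact IsB_map D.isB_s0 _

theorem s_one : x0 * WMask.R 2 * x0⁻¹ * (WMask.R 2)⁻¹ = WMask.R 36 * sg false := by
  rw [x0, kk_inv, kk, b, WMask.R, WMask.R, ← hw_append, ← hw_append, ← hw_iw, ← hw_iw, ← hw_append, ← hw_append, ← hw_append]
  refine Eq.trans ?_ (mul_one _).symm
  exact hw_eq (by decide +kernel)

theorem s_two : x0 * WMask.R 12 * x0⁻¹ * (WMask.R 12)⁻¹ = WMask.R 90 * sg true := by
  change _ = WMask.R 90 * b
  rw [x0, kk_inv, kk, b, WMask.R, WMask.R, ← hw_append, ← hw_append, ← hw_iw, ← hw_iw, ← hw_append, ← hw_append, ← hw_append,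
    ← hw_append]
  exact hw_eq (by decide +kernel)

theorem sing {m : ℕ} (hm : m < 128) (h0 : m ≠ 0) (h1 : m ≠ 1) (hsq : eqw (rmw m ++ rmw m) [] = true) (e : Bool)
    (hk : WMask.R m * sg e ∈ K) : D.π ⟨WMask.R m * sg e, hk⟩ * D.π ⟨WMask.R m * sg e, hk⟩ = 1 ∧ D.π ⟨WMask.R m * sg e, hk⟩ ≠ 1 ∧
      D.π ⟨WMask.R m * sg e, hk⟩ ≠ D.z := by
  have hne : ∀ e' : Bool, WMask.R m * sg e ≠ sg e' ∧ WMask.R m * sg e ≠ sg e' * τ := by
    intro e'
    constructor
    · intro h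
      have h2 : WMask.R m * sg e = WMask.R 0 * sg e' := by rw [h, R_zero, one_mul]
      exact h0 (R_inj hm (by norm_num) h2).1
    · intro h
      have h2 : WMask.R m * sg e = WMask.R 1 * sg e' := by rw [h, R_one, τ_comm]
      exact h1 (R_inj hm (by norm_num) h2).1
  refine ⟨?_, ?_, ?_⟩
  · rw [π_mul, π_eq_one]
    left
    have h2 := hw_eq hsq
    rw [hw_append, hw_nil] at h2
    calc WMask.R m * sg e * (WMask.R m * sg e) = WMask.R m * (sg e * WMask.R m) * sg e := by group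
      _ = (WMask.R m * WMask.R m) * (sg e * sg e) := by rw [R_sg]; group
      _ = 1 := by
          rw [sg_mul, Bool.xor_self]
          change hw (rmw m) * hw (rmw m) * 1 = 1
          rw [h2, mul_one]
  · rw [Ne, π_eq_one]
    rintro (h | h)
    · exact (hne false).1 h
    · exact (hne false).2 (h.trans (one_mul τ).symm)
  · rw [Ne, z, π_eq]
    rintro (h | h)
    · exact (hne true).1 h
    · exact (hne true).2 h

theorem y5 : ∃ r₁ ∈ D.R, ∃ r₂ ∈ D.R, ∃ s₁ s₂ : L, (D.k * D.z * D.k⁻¹) * r₁ * (D.k * D.z * D.k⁻¹)⁻¹ * r₁⁻¹ = s₁ ∧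
    (D.k * D.z * D.k⁻¹) * r₂ * (D.k * D.z * D.k⁻¹)⁻¹ * r₂⁻¹ = s₂ ∧ s₁ * s₁ = 1 ∧ s₂ * s₂ = 1 ∧
    s₁ * s₂ * (s₁ * s₂) = 1 ∧ (s₁ ≠ 1 ∧ s₁ ≠ D.z) ∧ (s₂ ≠ 1 ∧ s₂ ≠ D.z) ∧ (s₁ * s₂ ≠ 1 ∧ s₁ * s₂ ≠ D.z) := by
  have hR : ∀ m < 128, par (rmw m) = false → ∀ e, WMask.R m * sg e ∈ K := fun m hm hp e =>
    K.mul_mem ((R_mem_K_iff hm).2 hp) (sg_mem_K e)
  have h2K : WMask.R 2 ∈ K := (R_mem_K_iff (by norm_num)).2 (by decide +kernel)
  have h12K : WMask.R 12 ∈ K := (R_mem_K_iff (by norm_num)).2 (by decide +kernel)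
  have hx0K := (mem_Pt.1 x0_mem.1).2
  refine ⟨D.π ⟨WMask.R 2, h2K⟩, (D.π_mem_im τ_mem_Rt h2K).2
    (mem_Rt.2 ⟨2, by norm_num, by decide +kernel, false, (mul_one _).symm⟩),
    D.π ⟨WMask.R 12, h12K⟩, (D.π_mem_im τ_mem_Rt h12K).2
    (mem_Rt.2 ⟨12, by norm_num, by decide +kernel, false, (mul_one _).symm⟩),
    D.π ⟨WMask.R 36 * sg false, hR 36 (by norm_num) (by decide +kernel) _⟩,
    D.π ⟨WMask.R 90 * sg true, hR 90 (by norm_num) (by decide +kernel) _⟩, ?_, ?_, ?_⟩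
  · rw [z1_eq, π_conj, π_inv, π_mul]
    exact D.π_congr _ s_one
  · rw [z1_eq, π_conj, π_inv, π_mul]
    exact D.π_congr _ s_two
  · obtain ⟨e, he⟩ := R_mul 36 90
    have h3 : WMask.R 36 * sg false * (WMask.R 90 * sg true) = WMask.R 126 * sg ((e ^^ false) ^^ true) := by
      calc WMask.R 36 * sg false * (WMask.R 90 * sg true) = WMask.R 36 * (sg false * WMask.R 90) * sg true := by group
        _ = (WMask.R 36 * WMask.R 90) * sg false * sg true := by rw [R_sg]; group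
        _ = WMask.R (36 ^^^ 90) * (sg e * sg false * sg true) := by rw [he]; group
        _ = _ := by rw [sg_mul, sg_mul]; rfl
    have a1 := D.sing (m := 36) (by norm_num) (by norm_num) (by norm_num) (by decide +kernel) false
      (hR 36 (by norm_num) (by decide +kernel) _)
    have a2 := D.sing (m := 90) (by norm_num) (by norm_num) (by norm_num) (by decide +kernel) true
      (hR 90 (by norm_num) (by decide +kernel) _)
    have a3 := D.sing (m := 126) (by norm_num) (by norm_num) (by norm_num) (by decide +kernel) ((e ^^ false) ^^ true)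
      (hR 126 (by norm_num) (by decide +kernel) _)
    have h4 : D.π ⟨WMask.R 36 * sg false, hR 36 (by norm_num) (by decide +kernel) _⟩ *
        D.π ⟨WMask.R 90 * sg true, hR 90 (by norm_num) (by decide +kernel) _⟩ =
        D.π ⟨WMask.R 126 * sg ((e ^^ false) ^^ true), hR 126 (by norm_num) (by decide +kernel) _⟩ := by
      rw [π_mul]
      exact D.π_congr _ h3
    rw [h4]
    exact ⟨a1.1, a2.1, a3.1, a1.2, a2.2, a3.2⟩

/-- `w` inverts `u` -/
theorem w_inv_u : D.k⁻¹ * D.z * D.k * D.u * (D.k⁻¹ * D.z * D.k)⁻¹ = D.u⁻¹ := by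
  rcases D.inv _ D.kz with h | h
  · exfalso
    apply D.kP
    rw [memP]
    exact mul_inv_eq_iff_eq_mul.1 h
  · exact h

theorem z1_inv_u : D.k * D.z * D.k⁻¹ * D.u * (D.k * D.z * D.k⁻¹)⁻¹ = D.u⁻¹ := by
  rcases D.inv _ D.kz' with h | h
  · exfalso
    apply D.kP'
    rw [memP]
    exact mul_inv_eq_iff_eq_mul.1 h
  · exact h

theorem uP : D.u ∈ D.P := D.RP D.uR

theorem w_sq : D.k⁻¹ * D.z * D.k * (D.k⁻¹ * D.z * D.k) = 1 := by
  calc D.k⁻¹ * D.z * D.k * (D.k⁻¹ * D.z * D.k) = D.k⁻¹ * (D.z * D.z) * D.k := by group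
    _ = 1 := by rw [zz]; group

theorem y6 : ∃ n ∈ D.P, n * (D.k⁻¹ * D.z * D.k) * n⁻¹ = D.k⁻¹ * D.z * D.k * D.z := by
  refine ⟨D.u, D.uP, ?_⟩
  have h1 := D.w_inv_u
  set w := D.k⁻¹ * D.z * D.k
  have h2 : w⁻¹ = w := by rw [inv_eq_iff_mul_eq_one]; exact D.w_sq
  have h3 : w * D.u⁻¹ * w⁻¹ = D.u := by
    have : D.u = (w * D.u * w⁻¹)⁻¹ := by rw [h1, inv_inv]
    conv_rhs => rw [this]
    group
  have h4 : D.u * w * D.u⁻¹ = w * (w⁻¹ * D.u * w) * D.u⁻¹ := by group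
  rw [h4, h2]
  have h5 : w * D.u * w = D.u⁻¹ := by rw [h2] at h1; exact h1
  rw [h5, u_inv]
  calc w * (D.u * D.z) * (D.u * D.z) = w * D.u * (D.z * D.u) * D.z := by group
    _ = w * (D.u * D.u) * (D.z * D.z) := by
        have : D.z * D.u = D.u * D.z := by rw [← uu]; group
        rw [this]; group
    _ = w * D.z := by rw [zz, uu, mul_one]

theorem k0 : ∃ c : L, c * (D.k⁻¹ * D.z * D.k * D.u) * c⁻¹ ∈ D.P := by
  have h1 : el 2 [1, 1] false ∈ P0t :=
    (el_mem_P0t (by norm_num) (by decide +kernel) (by decide +kernel)).2 (by decide)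
  have h2 : el 2 [1, 1] false * el 2 [1, 1] false = τ := by
    rw [← hw_elw, ← hw_append, ← hw_τ]
    exact hw_eq (by decide +kernel)
  obtain ⟨c, hc⟩ := D.conj_wu (P0t_le_K h1) h2
  refine ⟨c, ?_⟩
  rw [← hc]
  exact (D.π_mem_im τ_mem_P0t _).2 h1

end Mod

end Cfsg.Agent.KFacts.HS
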