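import Cfsg.Agent.KFacts.HS.Cent5

set_option autoImplicit false

/-!
# Facts on `HS`: from `H0 = 2.HS.2` to a group isomorphic to `HS`

`D.im X`: the image in `L` of a subgroup `X` of `H0`; `D.pre B`: the preimage in `K` of a subgroup of `L`.
-/

namespace Cfsg.Agent.KFacts.HS

open Cfsg.Agent.HN Cfsg.Agent.HN.Pres Cfsg.Agent.HN.HS100 Cfsg.Agent.HN.H0Basic
open Cfsg.Agent.HN.XMat Cfsg.Agent.HN.WMask Cfsg.Agent.KFacts.HS.Cent
open Cfsg.Agent.SporadicA.PermTab (band band_eq_true allB allB_iff)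

/-! ### orders in `H0` -/

namespace Cent

/-- even masks -/
abbrev EM := {m : Fin 128 // par (rmw m) = false}

theorem card_EM : Nat.card EM = 64 := by
  rw [Nat.card_eq_fintype_card]
  decide +kernel

theorem card_S5W : S5W.length = 120 := by decide +kernel

/-- even words -/
abbrev EW := {i : Fin S5W.length // evw (S5W.get i) = true}

theorem card_EW : Nat.card EW = 60 := by
  rw [Nat.card_eq_fintype_card]
  decide +kernel

theorem S5W_nodup : S5W.Nodup := List.Nodup.of_map _ nodup_key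

theorem card_Rt : Nat.card Rt = 128 := by
  let F : EM × Bool → Rt := fun p => ⟨R p.1.1 * sg p.2, mem_Rt.2 ⟨p.1.1, p.1.1.2, p.1.2, p.2, rfl⟩⟩
  have hF : Function.Bijective F := by
    constructor
    · rintro ⟨m, e⟩ ⟨m', e'⟩ h
      obtain ⟨h1, h2⟩ := R_inj m.1.2 m'.1.2 (congrArg Subtype.val h)
      exact Prod.ext (Subtype.ext (Fin.ext h1)) h2
    · rintro ⟨g, hg⟩
      obtain ⟨m, hm, hp, e, rfl⟩ := mem_Rt.1 hg
      exact ⟨(⟨⟨m, hm⟩, hp⟩, e), rfl⟩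
  rw [← Nat.card_congr (Equiv.ofBijective F hF), Nat.card_prod, card_EM, Nat.card_eq_fintype_card, Fintype.card_bool]

theorem card_Pt : Nat.card Pt = 15360 := by
  let F : EM × Fin S5W.length × Bool → Pt := fun p =>
    ⟨el p.1.1 (S5W.get p.2.1) p.2.2, el_mem_Pt p.1.1.2 p.1.2 (List.get_mem _ _) _⟩
  have hF : Function.Bijective F := by
    constructor
    · rintro ⟨m, i, e⟩ ⟨m', i', e'⟩ h
      obtain ⟨h1, h2, h3⟩ := el_inj m.1.2 m'.1.2 (List.get_mem _ _) (List.get_mem _ _) (congrArg Subtype.val h)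
      exact Prod.ext (Subtype.ext (Fin.ext h1)) (Prod.ext ((List.nodup_iff_injective_get.1 S5W_nodup) h2) h3)
    · rintro ⟨g, hg⟩
      obtain ⟨m, hm, hp, w, hw1, e, rfl⟩ := exists_of_mem_Pt hg
      obtain ⟨i, rfl⟩ := List.get_of_mem hw1
      exact ⟨(⟨⟨m, hm⟩, hp⟩, i, e), rfl⟩
  rw [← Nat.card_congr (Equiv.ofBijective F hF), Nat.card_prod, Nat.card_prod, card_EM, Nat.card_eq_fintype_card,
    Fintype.card_fin, Nat.card_eq_fintype_card, Fintype.card_bool, card_S5W]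

theorem card_P0t : Nat.card P0t = 7680 := by
  let F : EM × EW × Bool → P0t := fun p =>
    ⟨el p.1.1 (S5W.get p.2.1.1) p.2.2, (el_mem_P0t p.1.1.2 p.1.2 (List.get_mem _ _)).2 p.2.1.2⟩
  have hF : Function.Bijective F := by
    constructor
    · rintro ⟨m, i, e⟩ ⟨m', i', e'⟩ h
      obtain ⟨h1, h2, h3⟩ := el_inj m.1.2 m'.1.2 (List.get_mem _ _) (List.get_mem _ _) (congrArg Subtype.val h)
      exact Prod.ext (Subtype.ext (Fin.ext h1))
        (Prod.ext (Subtype.ext ((List.nodup_iff_injective_get.1 S5W_nodup) h2)) h3)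
    · rintro ⟨g, hg⟩
      obtain ⟨m, hm, hp, w, hw1, hev, e, rfl⟩ := exists_of_mem_P0t hg
      obtain ⟨i, rfl⟩ := List.get_of_mem hw1
      exact ⟨(⟨⟨m, hm⟩, hp⟩, ⟨i, hev⟩, e), rfl⟩
  rw [← Nat.card_congr (Equiv.ofBijective F hF), Nat.card_prod, Nat.card_prod, card_EM, card_EW,
    Nat.card_eq_fintype_card, Fintype.card_bool]

end Cent

namespace Mod

variable {L : Type*} [Group L] (D : Mod L)

/-- the image of a subgroup of `H0` -/
def im (X : Subgroup H0) : Subgroup L := (X.subgroupOf K).map D.π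

/-- the preimage of a subgroup of `L` -/
def pre (B : Subgroup L) : Subgroup H0 := (B.comap D.π).map K.subtype

theorem mem_im {X : Subgroup H0} {l : L} : l ∈ D.im X ↔ ∃ (h : H0) (hk : h ∈ K), h ∈ X ∧ D.π ⟨h, hk⟩ = l := by
  constructor
  · rintro ⟨⟨h, hk⟩, hX, rfl⟩
    exact ⟨h, hk, hX, rfl⟩
  · rintro ⟨h, hk, hX, rfl⟩
    exact ⟨⟨h, hk⟩, hX, rfl⟩

theorem mem_pre {B : Subgroup L} {h : H0} : h ∈ D.pre B ↔ ∃ hk : h ∈ K, D.π ⟨h, hk⟩ ∈ B := by
  constructor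
  · rintro ⟨⟨h, hk⟩, hB, rfl⟩
    exact ⟨hk, hB⟩
  · rintro ⟨hk, hB⟩
    exact ⟨⟨h, hk⟩, hB, rfl⟩

theorem π_τ : D.π ⟨τ, τ_mem_K⟩ = 1 := (D.ker _).2 (Or.inr rfl)

theorem τ_mem_pre (B : Subgroup L) : τ ∈ D.pre B := D.mem_pre.2 ⟨τ_mem_K, by rw [π_τ]; exact B.one_mem⟩

theorem pre_le_K (B : Subgroup L) : D.pre B ≤ K := fun _ h => (D.mem_pre.1 h).1

theorem π_mem_im {X : Subgroup H0} (hτ : τ ∈ X) {h : H0} (hk : h ∈ K) : D.π ⟨h, hk⟩ ∈ D.im X ↔ h ∈ X := by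
  rw [mem_im]
  constructor
  · rintro ⟨h', hk', hX, he⟩
    rw [eq_iff] at he
    rcases he with he | he
    · exact (show h' = h from he) ▸ hX
    · have h1 : h = h' * τ := by
        have : h' = h * τ := he
        rw [this, mul_assoc, τ_mul_τ, mul_one]
      rw [h1]
      exact X.mul_mem hX hτ
  · exact fun hX => ⟨h, hk, hX, rfl⟩

theorem pre_im {X : Subgroup H0} (hτ : τ ∈ X) (hX : X ≤ K) : D.pre (D.im X) = X := by
  ext h
  rw [mem_pre]
  constructor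
  · rintro ⟨hk, hh⟩
    exact (D.π_mem_im hτ hk).1 hh
  · intro hh
    exact ⟨hX hh, (D.π_mem_im hτ (hX hh)).2 hh⟩

theorem im_pre (B : Subgroup L) : D.im (D.pre B) = B := by
  ext l
  obtain ⟨⟨h, hk⟩, rfl⟩ := D.surj l
  rw [D.π_mem_im (D.τ_mem_pre B) hk, mem_pre]
  exact ⟨fun ⟨_, h⟩ => h, fun h => ⟨hk, h⟩⟩

theorem im_mono {X Y : Subgroup H0} (h : X ≤ Y) : D.im X ≤ D.im Y := by
  intro l hl
  obtain ⟨g, hk, hX, rfl⟩ := D.mem_im.1 hl
  exact D.mem_im.2 ⟨g, hk, h hX, rfl⟩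

theorem le_im_of_pre {B : Subgroup L} {X : Subgroup H0} (h : D.pre B ≤ X) : B ≤ D.im X := by
  rw [← D.im_pre B]
  exact D.im_mono h

theorem π_mul {g h : H0} (hg : g ∈ K) (hh : h ∈ K) :
    D.π ⟨g, hg⟩ * D.π ⟨h, hh⟩ = D.π ⟨g * h, K.mul_mem hg hh⟩ := by
  rw [← map_mul]; rfl

theorem π_inv {g : H0} (hg : g ∈ K) : (D.π ⟨g, hg⟩)⁻¹ = D.π ⟨g⁻¹, K.inv_mem hg⟩ := by
  rw [← map_inv]; rfl

theorem π_conj {g h : H0} (hg : g ∈ K) (hh : h ∈ K) :
    D.π ⟨g, hg⟩ * D.π ⟨h, hh⟩ * (D.π ⟨g, hg⟩)⁻¹ = D.π ⟨g * h * g⁻¹, K_conj hh⟩ := by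
  rw [π_inv, π_mul, π_mul]

/-- equality in `L` -/
theorem π_eq {g h : H0} (hg : g ∈ K) (hh : h ∈ K) : D.π ⟨g, hg⟩ = D.π ⟨h, hh⟩ ↔ g = h ∨ g = h * τ :=
  D.eq_iff _ _

theorem π_eq_one {g : H0} (hg : g ∈ K) : D.π ⟨g, hg⟩ = 1 ↔ g = 1 ∨ g = τ := D.ker _

theorem au_π' (h : H0) {g : H0} (hg : g ∈ K) : D.au h (D.π ⟨g, hg⟩) = D.π ⟨h * g * h⁻¹, K_conj hg⟩ := D.au_π h _

include D in
theorem finite : Finite L := Finite.of_surjective D.π D.surj

theorem card_im {X : Subgroup H0} (hτ : τ ∈ X) (hX : X ≤ K) : 2 * Nat.card (D.im X) = Nat.card X := by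
  have := D.finite
  have h1 : (D.im X).comap D.π = X.subgroupOf K := by
    ext ⟨h, hk⟩
    exact D.π_mem_im hτ hk
  have h2 : (X.subgroupOf K).index = (D.im X).index := by
    rw [← h1, Subgroup.index_comap_of_surjective _ D.surj]
  have h3 := (D.im X).card_mul_index
  have h4 := (X.subgroupOf K).card_mul_index
  rw [h2, Nat.card_congr (Subgroup.subgroupOfEquivOfLe hX).toEquiv] at h4
  have h5 : Nat.card K = 88704000 := DoubleCover.card_K card_H0
  have h6 := D.card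
  have h7 : 0 < (D.im X).index := Nat.pos_of_ne_zero Subgroup.index_ne_zero_of_finite
  have h8 : 2 * Nat.card (D.im X) * (D.im X).index = Nat.card X * (D.im X).index := by
    rw [h4, mul_assoc, h3, h5, h6]; norm_num
  exact Nat.eq_of_mul_eq_mul_right h7 h8

/-! ### the elements `z`, `u`, `k` and the subgroups `P`, `R` -/

/-- the central involution -/
def z : L := D.π ⟨b, b_mem_K⟩

/-- the element of order 4 -/
def u : L := D.π ⟨U, U_mem_K⟩

/-- the element `k` -/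
def k : L := D.π ⟨kk, kk_mem_K⟩

/-- `C(u)` -/
def P : Subgroup L := D.im P0t

/-- `O₂(C(z))` -/
def R : Subgroup L := D.im Rt

theorem τ_mem_P0t : τ ∈ P0t := Rt_le τ_mem_Rt

theorem τ_mem_Pt : τ ∈ Pt := P0t_le τ_mem_P0t

theorem Pt_le_K : Pt ≤ K := fun _ h => (mem_Pt.1 h).2

theorem P0t_le_K : P0t ≤ K := fun _ h => (mem_P0t.1 h).2

theorem Rt_le_K : Rt ≤ K := Rt_le.trans P0t_le_K

theorem not_conj_bτ (h : H0) : h * b * h⁻¹ ≠ b * τ := by
  intro h1
  have h2 : IsConj b (b * τ) := isConj_iff.2 ⟨h, h1⟩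
  have h3 : b * τ = Syl.a := by rw [b_eq, mul_assoc, τ_mul_τ, mul_one]
  rw [h3, b_eq] at h2
  exact Classes.not_isConj_a_aτ h2.symm

/-- the centraliser of `z` -/
theorem comm_z {h : H0} (hk : h ∈ K) : D.π ⟨h, hk⟩ * D.z = D.z * D.π ⟨h, hk⟩ ↔ h ∈ Pt := by
  rw [mem_Pt, and_iff_left hk]
  unfold z
  rw [π_mul, π_mul, π_eq]
  constructor
  · rintro (h1 | h1)
    · exact h1
    · exfalso
      apply not_conj_bτ h
      rw [h1]
      calc b * h * τ * h⁻¹ = b * (h * τ) * h⁻¹ := by group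
        _ = b * (τ * h) * h⁻¹ := by rw [τ_comm h]
        _ = _ := by group
  · exact Or.inl


theorem mem_centralizer_z {l : L} : l ∈ Subgroup.centralizer ({D.z} : Set L) ↔ l ∈ D.im Pt := by
  obtain ⟨⟨h, hk⟩, rfl⟩ := D.surj l
  rw [Subgroup.mem_centralizer_singleton_iff, D.comm_z hk, D.π_mem_im τ_mem_Pt hk]

theorem centralizer_z : Subgroup.centralizer ({D.z} : Set L) = D.im Pt := by
  ext l
  exact D.mem_centralizer_z

theorem sg_ne (e : Bool) : sg e ≠ τ := sg_ne_τ e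

/-- elements of `Pt` map `U` to `U` or `U b τ` -/
theorem Pt_U {h : H0} (hh : h ∈ Pt) : h * U * h⁻¹ = U ∨ h * U * h⁻¹ = U * (b * τ) := by
  obtain ⟨m, hm, hp, w, hw1, e, he⟩ := exists_of_mem_Pt (Pt.inv_mem hh)
  have h1 := U_el hm hw1 e
  rw [← he, hp] at h1
  have h2 : h * U * h⁻¹ = U * (sa (!evw w) * sg false) := by
    rw [mul_assoc, h1]; group
  rw [h2]
  change U * (sa (!evw w) * 1) = U ∨ U * (sa (!evw w) * 1) = U * (b * τ)
  rw [mul_one]
  cases evw w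
  · exact Or.inr rfl
  · exact Or.inl (mul_one U)

theorem mem_P0t_iff {h : H0} (hh : h ∈ Pt) : h ∈ P0t ↔ h * U * h⁻¹ = U := by
  rw [mem_P0t, and_iff_left (Pt_le_K hh), mul_inv_eq_iff_eq_mul]

/-- the centraliser of `u` -/
theorem comm_u {h : H0} (hk : h ∈ K) : D.π ⟨h, hk⟩ * D.u = D.u * D.π ⟨h, hk⟩ ↔ h ∈ P0t := by
  constructor
  · intro h1
    have hz : D.π ⟨h, hk⟩ * D.z = D.z * D.π ⟨h, hk⟩ := by
      have h2 : D.z = D.u * D.u := by
        unfold z u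
        rw [π_mul]
        congr 2
        exact U_sq.symm
      have c : Commute (D.π ⟨h, hk⟩) D.u := h1
      rw [h2]
      exact (c.mul_right c).eq
    have hP := (D.comm_z hk).1 hz
    rw [mem_P0t_iff hP]
    rcases Pt_U hP with h2 | h2
    · exact h2
    · exfalso
      unfold u at h1
      rw [π_mul, π_mul, π_eq] at h1
      rw [mul_inv_eq_iff_eq_mul] at h2
      rcases h1 with h3 | h3
      · rw [h2, mul_assoc, mul_assoc] at h3
        have h4 := mul_left_cancel h3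
        rw [← mul_assoc] at h4
        exact bτ_ne (mul_eq_right.1 h4)
      · rw [h2] at h3
        have h4 : U * (b * τ * h) = U * (τ * h) := by
          rw [← mul_assoc, h3, mul_assoc, τ_comm h]
        have h5 : b * τ * h = τ * h := mul_left_cancel h4
        have h6 : b * τ = τ := mul_right_cancel h5
        exact b_ne (mul_eq_right.1 h6)
  · intro h1
    unfold u
    rw [π_mul, π_mul, π_eq]
    exact Or.inl (mem_P0t.1 h1).1

end Mod

end Cfsg.Agent.KFacts.HS
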